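import Mathlib

/-!
# Irreducible representations of `q`-groups over an algebraically closed field

Main results:
* `schur_scalar`: Schur's lemma for an irreducible representation over an algebraically closed
  field (irreducibility stated with invariant subspaces).
* `finrank_eq_prime_pow`: an irreducible finite-dimensional representation of a finite `q`-group
  over an algebraically closed field has dimension a power of `q` (any characteristic).
-/

set_option autoImplicit false
set_option linter.unusedSectionVars false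
set_option linter.style.haveILetI false

namespace Cfsg.Agent.Lib.Helper63.QGroupIrrDim

open Module

section Schur

variable {K : Type*} [Field K] [IsAlgClosed K] {G : Type*} [Group G]
  {V : Type*} [AddCommGroup V] [Module K V] [FiniteDimensional K V] [Nontrivial V]

/-- Schur's lemma: an endomorphism commuting with an irreducible family is a scalar. -/
theorem schur_scalar (ρ : Representation K G V)
    (hirr : ∀ W : Submodule K V, (∀ g, W.map (ρ g) ≤ W) → W = ⊥ ∨ W = ⊤)
    (φ : Module.End K V) (hφ : ∀ g, ρ g * φ = φ * ρ g) : ∃ c : K, φ = c • 1 := by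
  obtain ⟨c, hc⟩ := Module.End.exists_eigenvalue φ
  refine ⟨c, ?_⟩
  have hinv : ∀ g, (Module.End.eigenspace φ c).map (ρ g) ≤ Module.End.eigenspace φ c := by
    rintro g _ ⟨v, hv, rfl⟩
    rw [SetLike.mem_coe, Module.End.mem_eigenspace_iff] at hv
    rw [Module.End.mem_eigenspace_iff]
    have := congrArg (fun f => f v) (hφ g)
    simp only [Module.End.mul_apply] at this
    rw [← this, hv, map_smul]
  rcases hirr _ hinv with h | h
  · exact absurd h hc
  · ext v
    have : v ∈ Module.End.eigenspace φ c := by rw [h]; trivial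
    rw [Module.End.mem_eigenspace_iff] at this
    simpa using this

omit [IsAlgClosed K] [FiniteDimensional K V] in
/-- If all operators are scalars and the representation is irreducible, the dimension is one. -/
theorem finrank_eq_one_of_scalar (ρ : Representation K G V)
    (hirr : ∀ W : Submodule K V, (∀ g, W.map (ρ g) ≤ W) → W = ⊥ ∨ W = ⊤)
    (hsc : ∀ g, ∃ c : K, ρ g = c • 1) : finrank K V = 1 := by
  obtain ⟨v, hv⟩ := exists_ne (0 : V)
  have hinv : ∀ g, (K ∙ v).map (ρ g) ≤ K ∙ v := by
    rintro g _ ⟨w, hw, rfl⟩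
    obtain ⟨c, hc⟩ := hsc g
    rw [hc]
    simpa using (K ∙ v).smul_mem c hw
  rcases hirr _ hinv with h | h
  · exact absurd (Submodule.span_singleton_eq_bot.mp h) hv
  · rw [← finrank_top K V, ← h]
    exact finrank_span_singleton hv

end Schur

section Decomp

variable {K : Type*} [Field K] {Q : Type*} [Group Q]
  {V : Type*} [AddCommGroup V] [Module K V]
  (ρ : Representation K Q V) (A : Module.End K V) (κ : Q → K)
  (hκ : ∀ g, A * ρ g = κ g • (ρ g * A))

include hκ in
/-- `ρ g` maps the `μ`-eigenspace of `A` into the `κ g * μ`-eigenspace. -/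
theorem map_eigenspace_le (g : Q) (μ : K) :
    (Module.End.eigenspace A μ).map (ρ g) ≤ Module.End.eigenspace A (κ g * μ) := by
  rintro _ ⟨v, hv, rfl⟩
  rw [SetLike.mem_coe, Module.End.mem_eigenspace_iff] at hv
  rw [Module.End.mem_eigenspace_iff]
  have := congrArg (fun f => f v) (hκ g)
  simp only [Module.End.mul_apply, LinearMap.smul_apply] at this
  rw [this, hv, map_smul, smul_smul]

theorem rho_injective (g : Q) : Function.Injective (ρ g) := by
  intro x y hxy
  have := congrArg (ρ g⁻¹) hxy
  rwa [← Module.End.mul_apply, ← Module.End.mul_apply, ← map_mul, inv_mul_cancel, map_one,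
    Module.End.one_apply, Module.End.one_apply] at this

variable {q : ℕ} [hq : Fact q.Prime] {ζ lam : K} (hζ : IsPrimitiveRoot ζ q)
  (hκq : ∀ g, κ g ^ q = 1) (hlam0 : lam ≠ 0)

include hζ hlam0 in
theorem index_injective : Function.Injective (fun i : Fin q => lam * ζ ^ (i : ℕ)) := by
  intro i j hij
  have h1 : ζ ^ (i : ℕ) = ζ ^ (j : ℕ) := mul_left_cancel₀ hlam0 hij
  exact Fin.ext (hζ.pow_inj i.2 j.2 h1)

include hζ hlam0 in
theorem iSupIndep_eigenspace :
    iSupIndep (fun i : Fin q => Module.End.eigenspace A (lam * ζ ^ (i : ℕ))) :=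
  (Module.End.eigenspaces_iSupIndep A).comp (index_injective hζ hlam0)

include hζ hκq in
theorem exists_pow_eq_kappa (g : Q) : ∃ j < q, ζ ^ j = κ g := by
  haveI : NeZero q := ⟨hq.out.ne_zero⟩
  exact hζ.eq_pow_of_pow_eq_one (hκq g)

include hκ hζ hκq in
/-- The sum of the eigenspaces `λ ζ^i` is invariant. -/
theorem iSup_eigenspace_invariant (g : Q) :
    (⨆ i : Fin q, Module.End.eigenspace A (lam * ζ ^ (i : ℕ))).map (ρ g) ≤
      ⨆ i : Fin q, Module.End.eigenspace A (lam * ζ ^ (i : ℕ)) := by
  rw [Submodule.map_iSup]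
  refine iSup_le fun i => ?_
  obtain ⟨j, hj, hjκ⟩ := exists_pow_eq_kappa κ hζ hκq g
  refine (map_eigenspace_le ρ A κ hκ g _).trans ?_
  have hlt : ((i : ℕ) + j) % q < q := Nat.mod_lt _ hq.out.pos
  refine le_trans (le_of_eq ?_) (le_iSup _ (⟨((i : ℕ) + j) % q, hlt⟩ : Fin q))
  congr 1
  show κ g * (lam * ζ ^ (i : ℕ)) = lam * ζ ^ (((i : ℕ) + j) % q)
  rw [← pow_eq_pow_mod _ hζ.pow_eq_one, ← hjκ, pow_add]
  ring

include hκ in
theorem finrank_eigenspace_le [FiniteDimensional K V] (g : Q) (μ : K) :
    finrank K (Module.End.eigenspace A μ) ≤ finrank K (Module.End.eigenspace A (κ g * μ)) := by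
  have hmaps : ∀ x ∈ Module.End.eigenspace A μ, ρ g x ∈ Module.End.eigenspace A (κ g * μ) :=
    fun x hx => map_eigenspace_le ρ A κ hκ g μ ⟨x, hx, rfl⟩
  refine LinearMap.finrank_le_finrank_of_injective (f := (ρ g).restrict hmaps) ?_
  intro x y hxy
  apply Subtype.ext
  apply rho_injective ρ g
  exact congrArg Subtype.val hxy

include hκ hζ in
/-- All the eigenspaces `λ ζ^i` have the same dimension. -/
theorem finrank_eigenspace_eq [FiniteDimensional K V] (g₀ : Q) (hg₀ : κ g₀ = ζ) (i : ℕ) :
    finrank K (Module.End.eigenspace A (lam * ζ ^ i)) = finrank K (Module.End.eigenspace A lam) := by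
  set f : ℕ → ℕ := fun i => finrank K (Module.End.eigenspace A (lam * ζ ^ i)) with hf
  have hstep : ∀ n, f n ≤ f (n + 1) := by
    intro n
    have := finrank_eigenspace_le ρ A κ hκ g₀ (lam * ζ ^ n)
    rw [hg₀] at this
    have e : ζ * (lam * ζ ^ n) = lam * ζ ^ (n + 1) := by rw [pow_succ]; ring
    rw [e] at this
    exact this
  have hmono : Monotone f := monotone_nat_of_le_succ hstep
  have hper : ∀ n, f (n + q) = f n := by
    intro n
    have e : lam * ζ ^ (n + q) = lam * ζ ^ n := by rw [pow_add, hζ.pow_eq_one, mul_one]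
    show finrank K (Module.End.eigenspace A (lam * ζ ^ (n + q))) =
      finrank K (Module.End.eigenspace A (lam * ζ ^ n))
    rw [e]
  have h0 : f 0 = finrank K (Module.End.eigenspace A lam) := by
    have e : lam * ζ ^ 0 = lam := by rw [pow_zero, mul_one]
    show finrank K (Module.End.eigenspace A (lam * ζ ^ 0)) = _
    rw [e]
  have hle1 : f 0 ≤ f i := hmono (Nat.zero_le i)
  have hle2 : f i ≤ f 0 := by
    have hperk : ∀ k, f (k * q) = f 0 := by
      intro k
      induction k with
      | zero => simp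
      | succ k ih => rw [Nat.succ_mul, hper, ih]
    rw [← hperk i]
    exact hmono (Nat.le_mul_of_pos_right i hq.out.pos)
  rw [← h0]
  exact le_antisymm hle2 hle1

include hκ hζ hlam0 in
/-- Dimension count. -/
theorem finrank_eq_mul [FiniteDimensional K V] (g₀ : Q) (hg₀ : κ g₀ = ζ)
    (htop : ⨆ i : Fin q, Module.End.eigenspace A (lam * ζ ^ (i : ℕ)) = ⊤) :
    finrank K V = q * finrank K (Module.End.eigenspace A lam) := by
  classical
  have hint : DirectSum.IsInternal (fun i : Fin q => Module.End.eigenspace A (lam * ζ ^ (i : ℕ))) :=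
    DirectSum.isInternal_submodule_of_iSupIndep_of_iSup_eq_top
      (iSupIndep_eigenspace A hζ hlam0) htop
  have e := LinearEquiv.ofBijective (DirectSum.coeLinearMap _) hint
  rw [← e.finrank_eq, Module.finrank_directSum]
  simp only [finrank_eigenspace_eq ρ A κ hκ hζ g₀ hg₀]
  rw [Finset.sum_const, Finset.card_univ, Fintype.card_fin, smul_eq_mul]

include hκ hζ hκq hlam0 in
/-- The eigenspace is irreducible for the centraliser of `A`. -/
theorem eigenspace_irreducible
    (hirr : ∀ W : Submodule K V, (∀ g, W.map (ρ g) ≤ W) → W = ⊥ ∨ W = ⊤)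
    (T : Subgroup Q) (hT : ∀ g, κ g = 1 → g ∈ T)
    (U : Submodule K V) (hUle : U ≤ Module.End.eigenspace A lam)
    (hUinv : ∀ g ∈ T, U.map (ρ g) ≤ U) (hUne : U ≠ ⊥) : U = Module.End.eigenspace A lam := by
  haveI : NeZero q := ⟨hq.out.ne_zero⟩
  set Uf : Fin q → Submodule K V := fun i => Module.End.eigenspace A (lam * ζ ^ (i : ℕ)) with hUf
  have hind : iSupIndep Uf := iSupIndep_eigenspace A hζ hlam0
  have hUf0 : Uf 0 = Module.End.eigenspace A lam := by
    simp only [hUf, Fin.val_zero, pow_zero, mul_one]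
  -- the span of the translates of `U` is everything
  have hW : (⨆ g : Q, U.map (ρ g)) = ⊤ := by
    have hinv : ∀ h, (⨆ g : Q, U.map (ρ g)).map (ρ h) ≤ ⨆ g : Q, U.map (ρ g) := by
      intro h
      rw [Submodule.map_iSup]
      refine iSup_le fun g => ?_
      refine le_trans (le_of_eq ?_) (le_iSup _ (h * g))
      rw [← Submodule.map_comp, map_mul]
      rfl
    rcases hirr _ hinv with h | h
    · exfalso
      apply hUne
      rw [eq_bot_iff, ← h]
      refine le_trans (le_of_eq ?_) (le_iSup _ (1 : Q))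
      rw [map_one]
      exact (Submodule.map_id U).symm
    · exact h
  -- each translate lies in `U` or in another eigenspace
  have hle : (⨆ g : Q, U.map (ρ g)) ≤ U ⊔ ⨆ (j : Fin q) (_ : j ≠ 0), Uf j := by
    refine iSup_le fun g => ?_
    by_cases hg : κ g = 1
    · exact (hUinv g (hT g hg)).trans le_sup_left
    · obtain ⟨j, hj, hjκ⟩ := exists_pow_eq_kappa κ hζ hκq g
      have hj0 : (⟨j, hj⟩ : Fin q) ≠ 0 := by
        intro h0
        have : j = 0 := by simpa using congrArg Fin.val h0
        apply hg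
        rw [← hjκ, this, pow_zero]
      refine le_trans ?_ le_sup_right
      refine le_trans ?_ (le_iSup₂ (f := fun (j : Fin q) (_ : j ≠ 0) => Uf j) ⟨j, hj⟩ hj0)
      refine (Submodule.map_mono hUle).trans ((map_eigenspace_le ρ A κ hκ g lam).trans ?_)
      apply le_of_eq
      show Module.End.eigenspace A (κ g * lam) = Module.End.eigenspace A (lam * ζ ^ j)
      rw [← hjκ, mul_comm]
  apply le_antisymm hUle
  intro v hv
  have hv' : v ∈ U ⊔ ⨆ (j : Fin q) (_ : j ≠ 0), Uf j := hle (by rw [hW]; trivial)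
  obtain ⟨u, hu, w, hw, huw⟩ := Submodule.mem_sup.mp hv'
  have hdis := (iSupIndep_def.mp hind) 0
  have hw0 : w = 0 := by
    have hw' : w ∈ Uf 0 := by
      rw [hUf0]
      have : w = v - u := by rw [← huw]; abel
      rw [this]
      exact Submodule.sub_mem _ hv (hUle hu)
    exact (Submodule.disjoint_def.mp hdis) w hw' hw
  rw [← huw, hw0, add_zero]
  exact hu

end Decomp

section Main

universe u v w

variable {K : Type w} [Field K] [IsAlgClosed K]

/-- The elements acting as scalars. -/
def scalarSubgroup {Q : Type u} [Group Q] {V : Type v} [AddCommGroup V] [Module K V]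
    [Nontrivial V] (ρ : Representation K Q V) : Subgroup Q where
  carrier := {g | ∃ c : K, ρ g = c • 1}
  one_mem' := ⟨1, by rw [map_one, one_smul]⟩
  mul_mem' := by
    rintro a b ⟨c, hc⟩ ⟨d, hd⟩
    refine ⟨c * d, ?_⟩
    rw [map_mul, hc, hd, smul_mul_smul_comm, mul_one]
  inv_mem' := by
    rintro a ⟨c, hc⟩
    have h1 : ρ a * ρ a⁻¹ = 1 := by rw [← map_mul, mul_inv_cancel, map_one]
    rw [hc, smul_mul_assoc, one_mul] at h1
    have hc0 : c ≠ 0 := by
      rintro rfl
      rw [zero_smul] at h1
      exact zero_ne_one h1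
    refine ⟨c⁻¹, ?_⟩
    rw [← h1, smul_smul, inv_mul_cancel₀ hc0, one_smul]

omit [IsAlgClosed K] in
theorem mem_scalarSubgroup {Q : Type u} [Group Q] {V : Type v} [AddCommGroup V] [Module K V]
    [Nontrivial V] (ρ : Representation K Q V) (g : Q) :
    g ∈ scalarSubgroup ρ ↔ ∃ c : K, ρ g = c • 1 := Iff.rfl

omit [IsAlgClosed K] in
theorem scalarSubgroup_normal {Q : Type u} [Group Q] {V : Type v} [AddCommGroup V] [Module K V]
    [Nontrivial V] (ρ : Representation K Q V) : (scalarSubgroup ρ).Normal := by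
  constructor
  rintro a ⟨c, hc⟩ g
  refine ⟨c, ?_⟩
  rw [map_mul, map_mul, hc, mul_smul_comm, mul_one, smul_mul_assoc, ← map_mul, mul_inv_cancel,
    map_one]

omit [IsAlgClosed K] in
/-- A non-scalar element which is central of order `q` modulo the scalars. -/
theorem exists_special_element (q : ℕ) [hq : Fact q.Prime] {Q : Type u} [Group Q] [Finite Q]
    (hQ : IsPGroup q Q) {V : Type v} [AddCommGroup V] [Module K V] [Nontrivial V]
    (ρ : Representation K Q V) (hne : scalarSubgroup ρ ≠ ⊤) :
    ∃ a : Q, a ∉ scalarSubgroup ρ ∧ a ^ q ∈ scalarSubgroup ρ ∧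
      ∀ g, a * g * a⁻¹ * g⁻¹ ∈ scalarSubgroup ρ := by
  haveI := scalarSubgroup_normal ρ
  have hex : ∃ g, g ∉ scalarSubgroup ρ := by
    by_contra h
    push Not at h
    exact hne (eq_top_iff.mpr fun g _ => h g)
  obtain ⟨g, hg⟩ := hex
  haveI : Nontrivial (Q ⧸ scalarSubgroup ρ) :=
    ⟨⟨(g : Q ⧸ scalarSubgroup ρ), 1, fun h => hg ((QuotientGroup.eq_one_iff g).mp h)⟩⟩
  have hQZ : IsPGroup q (Q ⧸ scalarSubgroup ρ) := hQ.to_quotient _
  haveI := hQZ.center_nontrivial
  have hC : IsPGroup q (Subgroup.center (Q ⧸ scalarSubgroup ρ)) := hQZ.to_subgroup _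
  obtain ⟨n, hn⟩ := IsPGroup.iff_card.mp hC
  have hn0 : n ≠ 0 := by
    rintro rfl
    rw [pow_zero] at hn
    have := Finite.one_lt_card (α := Subgroup.center (Q ⧸ scalarSubgroup ρ))
    omega
  have hdvd : q ∣ Nat.card (Subgroup.center (Q ⧸ scalarSubgroup ρ)) := by
    rw [hn]; exact dvd_pow_self q hn0
  obtain ⟨z, hz⟩ := exists_prime_orderOf_dvd_card' q hdvd
  obtain ⟨a, ha⟩ := QuotientGroup.mk_surjective (z : Q ⧸ scalarSubgroup ρ)
  refine ⟨a, ?_, ?_, ?_⟩
  · intro haZ
    have h1 : (z : Q ⧸ scalarSubgroup ρ) = 1 := by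
      rw [← ha]; exact (QuotientGroup.eq_one_iff a).mpr haZ
    have h2 : z = 1 := Subtype.ext h1
    rw [h2, orderOf_one] at hz
    exact hq.out.one_lt.ne hz
  · rw [← QuotientGroup.eq_one_iff, QuotientGroup.mk_pow, ha, ← Subgroup.coe_pow, ← hz,
      pow_orderOf_eq_one]
    rfl
  · intro g
    rw [← QuotientGroup.eq_one_iff]
    have hcen := Subgroup.mem_center_iff.mp z.2 (g : Q ⧸ scalarSubgroup ρ)
    show ((a : Q ⧸ scalarSubgroup ρ) * (g : Q ⧸ scalarSubgroup ρ) * (a : Q ⧸ scalarSubgroup ρ)⁻¹ *
      (g : Q ⧸ scalarSubgroup ρ)⁻¹) = 1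
    rw [ha, ← hcen]
    group

/-- Auxiliary form of `finrank_eq_prime_pow` for the induction on the dimension. -/
theorem finrank_eq_prime_pow_aux (q : ℕ) [hq : Fact q.Prime] :
    ∀ (n : ℕ) (Q : Type u) [Group Q] [Finite Q] (_ : IsPGroup q Q) (V : Type v) [AddCommGroup V]
      [Module K V] [FiniteDimensional K V] [Nontrivial V] (ρ : Representation K Q V)
      (_ : ∀ W : Submodule K V, (∀ g, W.map (ρ g) ≤ W) → W = ⊥ ∨ W = ⊤),
      finrank K V = n → ∃ b : ℕ, n = q ^ b := by
  intro n
  induction n using Nat.strong_induction_on with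
  | _ n ih =>
  intro Q _ _ hQ V _ _ _ _ ρ hirr hn
  by_cases hZ : scalarSubgroup ρ = ⊤
  · refine ⟨0, ?_⟩
    rw [pow_zero, ← hn]
    refine finrank_eq_one_of_scalar ρ hirr (fun g => ?_)
    have : g ∈ scalarSubgroup ρ := by rw [hZ]; trivial
    exact this
  · obtain ⟨a, haZ, haq, hcomm⟩ := exists_special_element q hQ ρ hZ
    set A := ρ a with hA
    have hκ' : ∀ g, ∃ κ : K, A * ρ g = κ • (ρ g * A) := by
      intro g
      obtain ⟨κ, hκ⟩ := hcomm g
      refine ⟨κ, ?_⟩
      have : ρ a * ρ g = ρ (a * g * a⁻¹ * g⁻¹) * (ρ g * ρ a) := by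
        rw [← map_mul, ← map_mul, ← map_mul]; congr 1; group
      rw [hA, this, hκ, smul_mul_assoc, one_mul]
    choose κ hκ using hκ'
    obtain ⟨c₀, hc₀⟩ := haq
    have hAq : A ^ q = c₀ • 1 := by rw [hA, ← map_pow, hc₀]
    have hc₀0 : c₀ ≠ 0 := by
      rintro rfl
      rw [zero_smul] at hAq
      have h1 : A ^ q * ρ (a ^ q)⁻¹ = 1 := by
        rw [hA, ← map_pow, ← map_mul, mul_inv_cancel, map_one]
      rw [hAq, zero_mul] at h1
      exact zero_ne_one h1
    have hpow : ∀ g (m : ℕ), A ^ m * ρ g = κ g ^ m • (ρ g * A ^ m) := by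
      intro g m
      induction m with
      | zero => simp
      | succ m ih =>
        calc A ^ (m + 1) * ρ g = A ^ m * (A * ρ g) := by rw [pow_succ, mul_assoc]
          _ = κ g • (A ^ m * ρ g * A) := by rw [hκ g, mul_smul_comm, mul_assoc]
          _ = κ g ^ (m + 1) • (ρ g * A ^ (m + 1)) := by
            rw [ih, smul_mul_assoc, smul_smul, mul_assoc, ← pow_succ, ← pow_succ']
    have hκq : ∀ g, κ g ^ q = 1 := by
      intro g
      have h1 := hpow g q
      rw [hAq, smul_mul_assoc, one_mul, mul_smul_comm, mul_one, smul_smul] at h1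
      obtain ⟨v, hv⟩ := exists_ne (0 : V)
      have h2 : c₀ • ρ g v = (κ g ^ q * c₀) • ρ g v := by
        have := congrArg (fun f => f v) h1
        simpa using this
      have hgv : ρ g v ≠ 0 := fun h => hv (rho_injective ρ g (by rw [h, map_zero]))
      have h3 : (c₀ - κ g ^ q * c₀) • ρ g v = 0 := by rw [sub_smul, ← h2, sub_self]
      rcases smul_eq_zero.mp h3 with h | h
      · have : (1 - κ g ^ q) * c₀ = 0 := by rw [sub_mul, one_mul]; exact h
        rcases mul_eq_zero.mp this with h' | h'
        · exact (sub_eq_zero.mp h').symm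
        · exact absurd h' hc₀0
      · exact absurd h hgv
    have hex : ∃ g₀, κ g₀ ≠ 1 := by
      by_contra hall
      push Not at hall
      apply haZ
      have hcm : ∀ g, ρ g * A = A * ρ g := by
        intro g; rw [hκ g, hall g, one_smul]
      obtain ⟨c, hc⟩ := schur_scalar ρ hirr A hcm
      exact ⟨c, hc⟩
    obtain ⟨g₀, hg₀⟩ := hex
    have hζ : IsPrimitiveRoot (κ g₀) q :=
      IsPrimitiveRoot.iff_orderOf.mpr (orderOf_eq_prime (hκq g₀) hg₀)
    obtain ⟨lam, hlam⟩ := Module.End.exists_eigenvalue A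
    have hlam0 : lam ≠ 0 := by
      rintro rfl
      obtain ⟨v, hv⟩ := hlam.exists_hasEigenvector
      have h1 : A v = 0 := by
        have := hv.apply_eq_smul
        rwa [zero_smul] at this
      exact hv.2 (rho_injective ρ a (by rw [h1, map_zero]))
    have htop : ⨆ i : Fin q, Module.End.eigenspace A (lam * κ g₀ ^ (i : ℕ)) = ⊤ := by
      rcases hirr _ (iSup_eigenspace_invariant (lam := lam) ρ A κ hκ hζ hκq) with h | h
      · exfalso
        apply hlam
        rw [eq_bot_iff, ← h]
        refine le_trans (le_of_eq ?_) (le_iSup _ (⟨0, hq.out.pos⟩ : Fin q))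
        simp
      · exact h
    have hdim := finrank_eq_mul ρ A κ hκ hζ hlam0 g₀ rfl htop
    -- the centraliser of `A`
    let T : Subgroup Q :=
      { carrier := {g | A * ρ g = ρ g * A}
        one_mem' := by simp
        mul_mem' := by
          intro x y hx hy
          change A * ρ x = ρ x * A at hx
          change A * ρ y = ρ y * A at hy
          change A * ρ (x * y) = ρ (x * y) * A
          rw [map_mul, ← mul_assoc, hx, mul_assoc, hy, mul_assoc]
        inv_mem' := by
          intro x hx
          change A * ρ x = ρ x * A at hx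
          change A * ρ x⁻¹ = ρ x⁻¹ * A
          have h1 : ρ x⁻¹ * ρ x = 1 := by rw [← map_mul, inv_mul_cancel, map_one]
          have h2 : ρ x * ρ x⁻¹ = 1 := by rw [← map_mul, mul_inv_cancel, map_one]
          calc A * ρ x⁻¹ = ρ x⁻¹ * ρ x * (A * ρ x⁻¹) := by rw [h1, one_mul]
            _ = ρ x⁻¹ * (ρ x * A) * ρ x⁻¹ := by simp only [mul_assoc]
            _ = ρ x⁻¹ * (A * ρ x) * ρ x⁻¹ := by rw [hx]
            _ = ρ x⁻¹ * A * (ρ x * ρ x⁻¹) := by simp only [mul_assoc]
            _ = ρ x⁻¹ * A := by rw [h2, mul_one] }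
    have hTmem : ∀ g, g ∈ T ↔ A * ρ g = ρ g * A := fun g => Iff.rfl
    have hTκ : ∀ g, κ g = 1 → g ∈ T := by
      intro g hg
      rw [hTmem, hκ g, hg, one_smul]
    have hTinv : ∀ t : T, Module.End.eigenspace A lam ≤
        (Module.End.eigenspace A lam).comap ((ρ.comp T.subtype : Representation K T V) t) := by
      intro t v hv
      rw [Submodule.mem_comap, Module.End.mem_eigenspace_iff]
      rw [Module.End.mem_eigenspace_iff] at hv
      have := congrArg (fun f => f v) ((hTmem t).mp t.2)
      simp only [Module.End.mul_apply] at this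
      show A (ρ t v) = lam • ρ t v
      rw [this, hv, map_smul]
    let ρT : Representation K T (Module.End.eigenspace A lam) :=
      Representation.subrepresentation (ρ.comp T.subtype : Representation K T V) _ hTinv
    have hρT : ∀ (t : T) (w : Module.End.eigenspace A lam), ((ρT t w : _) : V) = ρ t w :=
      fun t w => rfl
    have hirrT : ∀ W : Submodule K (Module.End.eigenspace A lam),
        (∀ t, W.map (ρT t) ≤ W) → W = ⊥ ∨ W = ⊤ := by
      intro W hW
      by_cases hWb : W = ⊥
      · exact Or.inl hWb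
      · right
        have key := eigenspace_irreducible ρ A κ hκ hζ hκq hlam0 hirr T hTκ
          (W.map (Module.End.eigenspace A lam).subtype) ?_ ?_ ?_
        · rw [eq_top_iff]
          intro w _
          have hw : (w : V) ∈ W.map (Module.End.eigenspace A lam).subtype := by
            rw [key]; exact w.2
          obtain ⟨w', hw', hww⟩ := hw
          have : w' = w := Subtype.ext hww
          rwa [this] at hw'
        · rintro _ ⟨w, _, rfl⟩
          exact w.2
        · rintro g hg _ ⟨_, ⟨w, hw, rfl⟩, rfl⟩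
          refine ⟨ρT ⟨g, hg⟩ w, hW ⟨g, hg⟩ ⟨w, hw, rfl⟩, ?_⟩
          rfl
        · intro h
          apply hWb
          rw [eq_bot_iff]
          intro w hw
          have : (w : V) ∈ W.map (Module.End.eigenspace A lam).subtype := ⟨w, hw, rfl⟩
          rw [h, Submodule.mem_bot] at this
          rw [Submodule.mem_bot]
          exact Subtype.ext this
    haveI : Nontrivial (Module.End.eigenspace A lam) := Submodule.nontrivial_iff_ne_bot.mpr hlam
    have hlt : finrank K (Module.End.eigenspace A lam) < n := by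
      rw [← hn, hdim]
      have h1 : 0 < finrank K (Module.End.eigenspace A lam) := finrank_pos
      have h2 := hq.out.two_le
      nlinarith
    obtain ⟨b, hb⟩ := ih (finrank K (Module.End.eigenspace A lam)) hlt T (hQ.to_subgroup T)
      (Module.End.eigenspace A lam) ρT hirrT rfl
    exact ⟨b + 1, by rw [← hn, hdim, hb, pow_succ, mul_comm]⟩

/-- **Irreducible representations of `q`-groups have `q`-power dimension.** -/
theorem finrank_eq_prime_pow (q : ℕ) [Fact q.Prime] {Q : Type u} [Group Q] [Finite Q]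
    (hQ : IsPGroup q Q) {V : Type v} [AddCommGroup V] [Module K V] [FiniteDimensional K V]
    [Nontrivial V] (ρ : Representation K Q V)
    (hirr : ∀ W : Submodule K V, (∀ g, W.map (ρ g) ≤ W) → W = ⊥ ∨ W = ⊤) :
    ∃ b : ℕ, finrank K V = q ^ b :=
  finrank_eq_prime_pow_aux q _ Q hQ V ρ hirr rfl

end Main

end Cfsg.Agent.Lib.Helper63.QGroupIrrDim
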