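import Mathlib
import Cfsg.Agent.Lib.Helper63.QGroupIrrDim

/-!
# Linear algebra for the induction in the Hall–Higman theorem

* `exists_minimal_invariant`: minimal non-zero invariant subspaces exist.
* `exists_common_eigenvector`: a commuting family coming from a group has a common eigenvector.
* `nilp_injective`: if `W, T W, …, T^(t-1) W` are independent then `(T - 1)^m` is injective on `W`
  for `m < t`.
* `finrank_le_of_ker_le_one`: a nilpotent operator with one-dimensional kernel and `N^P = 0` lives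
  on a space of dimension at most `P`.
-/

set_option autoImplicit false
set_option linter.unusedSectionVars false
set_option linter.style.haveILetI false

namespace Cfsg.Agent.Lib.Helper63.HHIndLA

open Module Cfsg.Agent.Lib.Helper63

section MinInv

variable {K : Type*} [Field K] {G : Type*} [Group G]
  {V : Type*} [AddCommGroup V] [Module K V] [FiniteDimensional K V]

/-- A minimal non-zero invariant subspace. -/
theorem exists_minimal_invariant [Nontrivial V] (ρ : Representation K G V) :
    ∃ U : Submodule K V, U ≠ ⊥ ∧ (∀ g, U.map (ρ g) ≤ U) ∧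
      ∀ U' : Submodule K V, U' ≤ U → (∀ g, U'.map (ρ g) ≤ U') → U' = ⊥ ∨ U' = U := by
  classical
  have key : ∀ n : ℕ, ∀ U : Submodule K V, finrank K U = n → U ≠ ⊥ → (∀ g, U.map (ρ g) ≤ U) →
      ∃ U₀ : Submodule K V, U₀ ≠ ⊥ ∧ (∀ g, U₀.map (ρ g) ≤ U₀) ∧
        ∀ U' : Submodule K V, U' ≤ U₀ → (∀ g, U'.map (ρ g) ≤ U') → U' = ⊥ ∨ U' = U₀ := by
    intro n
    induction n using Nat.strong_induction_on with
    | _ n ih =>
    intro U hn hU hinv
    by_cases hmin : ∀ U' : Submodule K V, U' ≤ U → (∀ g, U'.map (ρ g) ≤ U') → U' = ⊥ ∨ U' = U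
    · exact ⟨U, hU, hinv, hmin⟩
    · push Not at hmin
      obtain ⟨U', hle, hinv', hne1, hne2⟩ := hmin
      have hlt : finrank K U' < n := by
        rw [← hn]
        exact Submodule.finrank_lt_finrank_of_lt (lt_of_le_of_ne hle hne2)
      exact ih _ hlt U' rfl hne1 hinv'
  exact key _ ⊤ rfl top_ne_bot (fun g => le_top)

end MinInv

section Common

variable {K : Type*} [Field K] [IsAlgClosed K] {A : Type*} [Group A]
  {V : Type*} [AddCommGroup V] [Module K V] [FiniteDimensional K V]

/-- A commuting family of operators coming from a group representation has a common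
eigenvector. -/
theorem exists_common_eigenvector [Nontrivial V] (ρ : Representation K A V)
    (hcomm : ∀ a b, ρ a * ρ b = ρ b * ρ a) :
    ∃ χ : A → K, (⨅ a, Module.End.eigenspace (ρ a) (χ a)) ≠ ⊥ := by
  obtain ⟨U, hU, hinv, hmin⟩ := exists_minimal_invariant ρ
  haveI : Nontrivial U := Submodule.nontrivial_iff_ne_bot.mpr hU
  have hinv' : ∀ g, U ≤ U.comap (ρ g) := by
    intro g v hv
    exact hinv g ⟨v, hv, rfl⟩
  set ρU : Representation K A U := ρ.subrepresentation U hinv' with hρU
  have hirr : ∀ W : Submodule K U, (∀ g, W.map (ρU g) ≤ W) → W = ⊥ ∨ W = ⊤ := by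
    intro W hW
    have h1 : W.map U.subtype ≤ U := by
      rintro _ ⟨w, _, rfl⟩; exact w.2
    have h2 : ∀ g, (W.map U.subtype).map (ρ g) ≤ W.map U.subtype := by
      rintro g _ ⟨_, ⟨w, hw, rfl⟩, rfl⟩
      exact ⟨ρU g w, hW g ⟨w, hw, rfl⟩, rfl⟩
    rcases hmin _ h1 h2 with h | h
    · left
      rw [eq_bot_iff]
      intro w hw
      have : (w : V) ∈ W.map U.subtype := ⟨w, hw, rfl⟩
      rw [h, Submodule.mem_bot] at this
      rw [Submodule.mem_bot]
      exact Subtype.ext this
    · right
      rw [eq_top_iff]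
      intro w _
      have : (w : V) ∈ W.map U.subtype := by rw [h]; exact w.2
      obtain ⟨w', hw', hww⟩ := this
      have : w' = w := Subtype.ext hww
      rwa [this] at hw'
  have hsc : ∀ a, ∃ c : K, ρU a = c • 1 := by
    intro a
    refine QGroupIrrDim.schur_scalar ρU hirr (ρU a) (fun g => ?_)
    apply LinearMap.ext
    intro w
    apply Subtype.ext
    show ρ g (ρ a (w : V)) = ρ a (ρ g (w : V))
    have := congrArg (fun f => f (w : V)) (hcomm g a)
    simpa using this
  choose χ hχ using hsc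
  refine ⟨χ, ?_⟩
  obtain ⟨u, hu⟩ := exists_ne (0 : U)
  intro hbot
  apply hu
  have hmem : (u : V) ∈ ⨅ a, Module.End.eigenspace (ρ a) (χ a) := by
    rw [Submodule.mem_iInf]
    intro a
    rw [Module.End.mem_eigenspace_iff]
    have h := congrArg (fun f => ((f u : U) : V)) (hχ a)
    simp only [LinearMap.smul_apply, Module.End.one_apply, Submodule.coe_smul] at h
    exact h
  rw [hbot, Submodule.mem_bot] at hmem
  exact Subtype.ext hmem

end Common

section Nilp

variable {K : Type*} [Field K] {V : Type*} [AddCommGroup V] [Module K V]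

/-- If the translates `T^i W` (`i < t`) are "triangularly" independent, then `(T - 1)^m` is
injective on `W` for `m < t`. -/
theorem nilp_injective (T : Module.End K V) (hT : Function.Injective T) (W : Submodule K V) (t : ℕ)
    (hdisj : ∀ m < t, Disjoint (W.map (T ^ m)) (⨆ i, ⨆ (_ : i < m), W.map (T ^ i)))
    (m : ℕ) (hm : m < t) (u : V) (hu : u ∈ W) (h0 : ((T - 1) ^ m) u = 0) : u = 0 := by
  have hstep : ∀ k : ℕ, ((T - 1) ^ k) u - (T ^ k) u ∈ ⨆ i, ⨆ (_ : i < k), W.map (T ^ i) := by
    intro k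
    induction k with
    | zero => simp
    | succ k ih =>
      set y := ((T - 1) ^ k) u - (T ^ k) u with hy
      have e : ((T - 1) ^ (k + 1)) u - (T ^ (k + 1)) u = T y - y - (T ^ k) u := by
        have h1 : ((T - 1) ^ (k + 1)) u = T (((T - 1) ^ k) u) - ((T - 1) ^ k) u := by
          rw [pow_succ', Module.End.mul_apply, LinearMap.sub_apply, Module.End.one_apply]
        have h2 : (T ^ (k + 1)) u = T ((T ^ k) u) := by
          rw [pow_succ', Module.End.mul_apply]
        rw [h1, h2, hy, map_sub]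
        abel
      rw [e]
      have hmono : (⨆ i, ⨆ (_ : i < k), W.map (T ^ i)) ≤ ⨆ i, ⨆ (_ : i < k + 1), W.map (T ^ i) := by
        refine iSup_le fun i => iSup_le fun hi => ?_
        exact le_iSup₂ (f := fun i (_ : i < k + 1) => W.map (T ^ i)) i (by omega)
      have hTy : T y ∈ ⨆ i, ⨆ (_ : i < k + 1), W.map (T ^ i) := by
        have : (⨆ i, ⨆ (_ : i < k), W.map (T ^ i)).map T ≤
            ⨆ i, ⨆ (_ : i < k + 1), W.map (T ^ i) := by
          rw [Submodule.map_iSup]
          refine iSup_le fun i => ?_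
          rw [Submodule.map_iSup]
          refine iSup_le fun hi => ?_
          refine le_trans (le_of_eq ?_)
            (le_iSup₂ (f := fun i (_ : i < k + 1) => W.map (T ^ i)) (i + 1) (by omega))
          rw [← Submodule.map_comp, pow_succ']
          rfl
        exact this ⟨y, ih, rfl⟩
      have hTk : (T ^ k) u ∈ ⨆ i, ⨆ (_ : i < k + 1), W.map (T ^ i) :=
        (le_iSup₂ (f := fun i (_ : i < k + 1) => W.map (T ^ i)) k (by omega)) ⟨u, hu, rfl⟩
      exact Submodule.sub_mem _ (Submodule.sub_mem _ hTy (hmono ih)) hTk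
  have h1 := hstep m
  rw [h0, zero_sub, Submodule.neg_mem_iff] at h1
  have h2 : (T ^ m) u ∈ W.map (T ^ m) := ⟨u, hu, rfl⟩
  have h3 := (Submodule.disjoint_def.mp (hdisj m hm)) _ h2 h1
  have hinj : Function.Injective (T ^ m) := by
    rw [Module.End.coe_pow]
    exact hT.iterate m
  exact hinj (by rw [h3, map_zero])

/-- A nilpotent operator with `dim ker ≤ 1` satisfies `dim ker N^k ≤ k`. -/
theorem finrank_ker_pow_le [FiniteDimensional K V] (N : Module.End K V)
    (h1 : finrank K (LinearMap.ker N) ≤ 1) (k : ℕ) : finrank K (LinearMap.ker (N ^ k)) ≤ k := by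
  induction k with
  | zero =>
    rw [pow_zero]
    have : LinearMap.ker (1 : Module.End K V) = ⊥ := by
      rw [LinearMap.ker_eq_bot]; exact fun a b h => h
    rw [this, finrank_bot]
  | succ k ih =>
    -- restrict `N` to `ker N^(k+1) → ker N^k`
    have hmaps : ∀ v ∈ LinearMap.ker (N ^ (k + 1)), N v ∈ LinearMap.ker (N ^ k) := by
      intro v hv
      rw [LinearMap.mem_ker] at hv ⊢
      rw [← Module.End.mul_apply, ← pow_succ]
      exact hv
    set f : LinearMap.ker (N ^ (k + 1)) →ₗ[K] LinearMap.ker (N ^ k) := N.restrict hmaps with hf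
    have hrn := LinearMap.finrank_range_add_finrank_ker f
    have hr : finrank K (LinearMap.range f) ≤ k :=
      le_trans (Submodule.finrank_le _) ih
    have hk : finrank K (LinearMap.ker f) ≤ 1 := by
      refine le_trans ?_ h1
      refine LinearMap.finrank_le_finrank_of_injective
        (f := (LinearMap.ker (N ^ (k + 1))).subtype.restrict
          (p := LinearMap.ker f) (q := LinearMap.ker N) ?_) ?_
      · intro v hv
        rw [LinearMap.mem_ker] at hv ⊢
        have := congrArg Subtype.val hv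
        exact this
      · intro a b hab
        apply Subtype.ext
        apply Subtype.ext
        have h := congrArg Subtype.val hab
        exact h
    omega

/-- If `N^P = 0` and `dim ker N ≤ 1` then `dim V ≤ P`. -/
theorem finrank_le_of_ker_le_one [FiniteDimensional K V] (N : Module.End K V)
    (h1 : finrank K (LinearMap.ker N) ≤ 1) (P : ℕ) (hP : N ^ P = 0) : finrank K V ≤ P := by
  have := finrank_ker_pow_le N h1 P
  rw [hP, LinearMap.ker_zero, finrank_top] at this
  exact this

end Nilp

section Induced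

variable {K : Type*} [Field K] [IsAlgClosed K] {G : Type*} [Group G]
  {V : Type*} [AddCommGroup V] [Module K V] [FiniteDimensional K V]

theorem rho_injective' (ρ : Representation K G V) (g : G) : Function.Injective (ρ g) :=
  QGroupIrrDim.rho_injective ρ g

theorem finrank_map_rho (ρ : Representation K G V) (g : G) (W : Submodule K V) :
    finrank K (W.map (ρ g)) = finrank K W :=
  (Submodule.equivMapOfInjective (ρ g) (rho_injective' ρ g) W).finrank_eq.symm

/-- **Induced decomposition.**  If an abelian-acting subgroup `A` commuting with `Q` does not act by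
scalars on the `⟨Q, x⟩`-irreducible space `V`, then `V` is the direct sum of `t ≥ 2` translates
`ρ(x)^i W` of a `Q`-invariant subspace `W`, with `t ∣ P`. -/
theorem exists_induced_decomp [Nontrivial V] (ρ : Representation K G V) (Q A : Subgroup G) (x : G)
    (P : ℕ) (hP : 0 < P) (hxP : x ^ P = 1) (hAQ : A ≤ Q)
    (hxQ : ∀ g ∈ Q, x⁻¹ * g * x ∈ Q) (hxA : ∀ a ∈ A, x⁻¹ * a * x ∈ A)
    (hAc : ∀ a ∈ A, ∀ g ∈ Q, ρ a * ρ g = ρ g * ρ a)
    (hirr : ∀ W : Submodule K V, (∀ g ∈ Q, W.map (ρ g) ≤ W) → W.map (ρ x) ≤ W → W = ⊥ ∨ W = ⊤)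
    (hns : ∃ a ∈ A, ¬ ∃ c : K, ρ a = c • 1) :
    ∃ (t : ℕ) (W : Submodule K V), 2 ≤ t ∧ t ∣ P ∧ W ≠ ⊥ ∧ (∀ g ∈ Q, W.map (ρ g) ≤ W) ∧
      W.map (ρ x ^ t) = W ∧ (⨆ i : Fin t, W.map (ρ x ^ (i : ℕ))) = ⊤ ∧
      (∀ m < t, Disjoint (W.map (ρ x ^ m)) (⨆ i, ⨆ (_ : i < m), W.map (ρ x ^ i))) := by
  classical
  set ρA : Representation K A V := ρ.comp A.subtype with hρA
  have hρA_apply : ∀ a : A, ρA a = ρ (a : G) := fun a => rfl
  have hcommA : ∀ a b : A, ρA a * ρA b = ρA b * ρA a := fun a b => hAc a a.2 b (hAQ b.2)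
  obtain ⟨χ, hχ⟩ := exists_common_eigenvector ρA hcommA
  -- conjugation on `A`
  let c : A → A := fun a => ⟨x⁻¹ * a * x, hxA a a.2⟩
  have hc_iter : ∀ (i : ℕ) (a : A), ((c^[i] a : A) : G) = (x ^ i)⁻¹ * a * x ^ i := by
    intro i
    induction i with
    | zero => intro a; simp
    | succ i ih =>
      intro a
      rw [Function.iterate_succ_apply', show ((c (c^[i] a) : A) : G) = x⁻¹ * (c^[i] a : A) * x from rfl,
        ih a, pow_succ]
      group
  have hc_surj : ∀ i : ℕ, Function.Surjective (c^[i]) := by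
    have h1 : Function.Surjective c := by
      have hP' : c^[P] = id := by
        funext a
        apply Subtype.ext
        rw [hc_iter, hxP]; simp
      have : c ∘ c^[P - 1] = id := by
        rw [← Function.iterate_succ', Nat.succ_eq_add_one, Nat.sub_add_cancel hP, hP']
      intro a
      exact ⟨c^[P - 1] a, congrFun this a⟩
    exact fun i => h1.iterate i
  -- simultaneous eigenspaces
  set Vχ : (A → K) → Submodule K V := fun ψ => ⨅ a, Module.End.eigenspace (ρA a) (ψ a) with hVχ
  have hmemV : ∀ ψ v, v ∈ Vχ ψ ↔ ∀ a : A, ρ (a : G) v = ψ a • v := by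
    intro ψ v
    simp only [hVχ, Submodule.mem_iInf, Module.End.mem_eigenspace_iff, hρA_apply]
  have hF1 : ∀ ψ, (Vχ ψ).map (ρ x) ≤ Vχ (ψ ∘ c) := by
    rintro ψ _ ⟨v, hv, rfl⟩
    rw [SetLike.mem_coe, hmemV] at hv
    rw [hmemV]
    intro a
    have h1 : ρ (a : G) * ρ x = ρ x * ρ (x⁻¹ * a * x) := by
      rw [← map_mul, ← map_mul]; congr 1; group
    have h2 := congrArg (fun f => f v) h1
    simp only [Module.End.mul_apply] at h2
    rw [h2]
    have h3 := hv (c a)
    rw [show ((c a : A) : G) = x⁻¹ * a * x from rfl] at h3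
    rw [h3, map_smul]
    rfl
  have hF2 : ∀ ψ, ∀ g ∈ Q, (Vχ ψ).map (ρ g) ≤ Vχ ψ := by
    rintro ψ g hg _ ⟨v, hv, rfl⟩
    rw [SetLike.mem_coe, hmemV] at hv
    rw [hmemV]
    intro a
    have h2 := congrArg (fun f => f v) (hAc a a.2 g hg)
    simp only [Module.End.mul_apply] at h2
    rw [h2, hv a, map_smul]
  set W : Submodule K V := Vχ χ with hW
  set Wi : ℕ → Submodule K V := fun i => W.map (ρ x ^ i) with hWi
  have hWi_succ : ∀ i, Wi (i + 1) = (Wi i).map (ρ x) := by
    intro i
    simp only [hWi]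
    rw [← Submodule.map_comp, pow_succ']
    rfl
  have hF3 : ∀ i, Wi i ≤ Vχ (χ ∘ c^[i]) := by
    intro i
    induction i with
    | zero =>
      simp only [hWi, pow_zero, Function.iterate_zero, Function.comp_id]
      exact le_of_eq (Submodule.map_id W)
    | succ i ih =>
      rw [hWi_succ, Function.iterate_succ]
      exact (Submodule.map_mono ih).trans (hF1 _)
  have hF4 : ∀ i, ∀ g ∈ Q, (Wi i).map (ρ g) ≤ Wi i := by
    intro i
    induction i with
    | zero =>
      intro g hg
      simp only [hWi, pow_zero]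
      have : W.map (1 : Module.End K V) = W := Submodule.map_id W
      rw [this]
      exact hF2 χ g hg
    | succ i ih =>
      intro g hg
      rw [hWi_succ]
      have h1 : ρ g * ρ x = ρ x * ρ (x⁻¹ * g * x) := by
        rw [← map_mul, ← map_mul]; congr 1; group
      have hmapmul : ∀ (f g : Module.End K V) (U : Submodule K V),
          U.map (f * g) = (U.map g).map f := fun f g U => Submodule.map_comp g f U
      calc ((Wi i).map (ρ x)).map (ρ g) = (Wi i).map (ρ g * ρ x) := (hmapmul _ _ _).symm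
        _ = (Wi i).map (ρ x * ρ (x⁻¹ * g * x)) := by rw [h1]
        _ = ((Wi i).map (ρ (x⁻¹ * g * x))).map (ρ x) := hmapmul _ _ _
        _ ≤ (Wi i).map (ρ x) := Submodule.map_mono (ih _ (hxQ g hg))
  have hpow_eq : ∀ i, ρ x ^ i = ρ (x ^ i) := fun i => (map_pow ρ x i).symm
  have hF5 : ∀ i, finrank K (Wi i) = finrank K W := by
    intro i
    show finrank K (W.map (ρ x ^ i)) = finrank K W
    rw [hpow_eq]
    exact finrank_map_rho ρ _ W
  have hF6 : Wi P = W := by
    show W.map (ρ x ^ P) = W
    rw [hpow_eq, hxP, map_one]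
    exact Submodule.map_id W
  have hex : ∃ i, 0 < i ∧ Wi i = W := ⟨P, hP, hF6⟩
  set t := Nat.find hex with ht
  have ht_spec : 0 < t ∧ Wi t = W := Nat.find_spec hex
  have ht_min : ∀ i, 0 < i → i < t → Wi i ≠ W := by
    intro i hi hit h
    exact Nat.find_min hex hit ⟨hi, h⟩
  have hF7 : ∀ i, Wi (i + t) = Wi i := by
    intro i
    have h1 : Wi (i + t) = (Wi t).map (ρ x ^ i) := by
      simp only [hWi]
      rw [← Submodule.map_comp, pow_add]
      rfl
    rw [h1, ht_spec.2]
  have hF7' : ∀ k i, Wi (k * t + i) = Wi i := by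
    intro k
    induction k with
    | zero => intro i; rw [Nat.zero_mul, Nat.zero_add]
    | succ k ih =>
      intro i
      have : (k + 1) * t + i = (k * t + i) + t := by ring
      rw [this, hF7, ih]
  have hF8 : t ∣ P := by
    have h1 : Wi (P % t) = W := by
      have := hF7' (P / t) (P % t)
      rw [Nat.div_add_mod'] at this
      rw [← this, hF6]
    by_contra hnd
    have hr : 0 < P % t := Nat.pos_of_ne_zero (fun h => hnd (Nat.dvd_of_mod_eq_zero h))
    exact ht_min _ hr (Nat.mod_lt _ ht_spec.1) h1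
  have hWne : W ≠ ⊥ := hχ
  have hF9 : ∀ i j, i < j → j < t → χ ∘ c^[i] ≠ χ ∘ c^[j] := by
    intro i j hij hjt heq
    have h1 : χ = χ ∘ c^[j - i] := by
      funext a
      obtain ⟨b, rfl⟩ := hc_surj i a
      have := congrFun heq b
      simp only [Function.comp_apply] at this ⊢
      rw [this, ← Function.iterate_add_apply, Nat.sub_add_cancel hij.le]
    have h2 : Wi (j - i) ≤ W := by
      have := hF3 (j - i)
      rwa [← h1] at this
    have h3 : Wi (j - i) = W :=
      Submodule.eq_of_le_of_finrank_le h2 (le_of_eq (hF5 (j - i)).symm)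
    exact ht_min _ (by omega) (by omega) h3
  -- the sum is everything
  have hS : (⨆ i : Fin t, Wi (i : ℕ)) = ⊤ := by
    have hQinv : ∀ g ∈ Q, (⨆ i : Fin t, Wi (i : ℕ)).map (ρ g) ≤ ⨆ i : Fin t, Wi (i : ℕ) := by
      intro g hg
      rw [Submodule.map_iSup]
      exact iSup_le fun i => (hF4 i g hg).trans (le_iSup (fun i : Fin t => Wi (i : ℕ)) i)
    have hxinv : (⨆ i : Fin t, Wi (i : ℕ)).map (ρ x) ≤ ⨆ i : Fin t, Wi (i : ℕ) := by
      rw [Submodule.map_iSup]
      refine iSup_le fun i => ?_
      rw [← hWi_succ]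
      by_cases hi : (i : ℕ) + 1 < t
      · exact le_iSup (fun i : Fin t => Wi (i : ℕ)) ⟨(i : ℕ) + 1, hi⟩
      · have : (i : ℕ) + 1 = t := by have := i.2; omega
        rw [this, ht_spec.2]
        refine le_trans (le_of_eq ?_) (le_iSup (fun i : Fin t => Wi (i : ℕ)) ⟨0, ht_spec.1⟩)
        simp only [hWi, pow_zero]
        exact (Submodule.map_id W).symm
    rcases hirr _ hQinv hxinv with h | h
    · exfalso
      apply hWne
      rw [eq_bot_iff, ← h]
      refine le_trans (le_of_eq ?_) (le_iSup (fun i : Fin t => Wi (i : ℕ)) ⟨0, ht_spec.1⟩)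
      simp only [hWi, pow_zero]
      exact (Submodule.map_id W).symm
    · exact h
  have ht2 : 2 ≤ t := by
    by_contra hlt
    have ht1 : t = 1 := by have := ht_spec.1; omega
    have hWtop : W = ⊤ := by
      rw [← hS, eq_comm]
      apply le_antisymm
      · refine iSup_le fun i => ?_
        have hi : (i : ℕ) = 0 := by have := i.2; omega
        rw [hi]
        simp only [hWi, pow_zero]
        exact le_of_eq (Submodule.map_id W)
      · refine le_trans (le_of_eq ?_) (le_iSup (fun i : Fin t => Wi (i : ℕ)) ⟨0, ht_spec.1⟩)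
        simp only [hWi, pow_zero]
        exact (Submodule.map_id W).symm
    obtain ⟨a, ha, hna⟩ := hns
    apply hna
    refine ⟨χ ⟨a, ha⟩, ?_⟩
    apply LinearMap.ext
    intro v
    have hv : v ∈ W := by rw [hWtop]; trivial
    rw [hW, hmemV] at hv
    have := hv ⟨a, ha⟩
    simpa using this
  refine ⟨t, W, ht2, hF8, hWne, hF2 χ, ht_spec.2, hS, ?_⟩
  -- disjointness
  intro m hm
  have hind : iSupIndep fun ψ : A → K => ⨅ a, Module.End.maxGenEigenspace (ρA a) (ψ a) := by
    apply Module.End.independent_iInf_maxGenEigenspace_of_forall_mapsTo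
    intro a b μ
    exact Module.End.mapsTo_maxGenEigenspace_of_comm (show Commute (ρA b) (ρA a) from hcommA b a) μ
  have hle : ∀ ψ, Vχ ψ ≤ ⨅ a, Module.End.maxGenEigenspace (ρA a) (ψ a) := by
    intro ψ
    exact iInf_mono fun a => Module.End.eigenspace_le_maxGenEigenspace
  have hnot : (χ ∘ c^[m]) ∉ {ψ : A → K | ∃ i < m, ψ = χ ∘ c^[i]} := by
    rintro ⟨i, hi, heq⟩
    exact hF9 i m hi hm heq.symm
  have hd := hind.disjoint_biSup hnot
  refine hd.mono ((hF3 m).trans (hle _)) ?_
  refine iSup_le fun i => iSup_le fun hi => ?_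
  exact ((hF3 i).trans (hle _)).trans
    (le_iSup₂ (f := fun ψ (_ : ψ ∈ {ψ : A → K | ∃ i < m, ψ = χ ∘ c^[i]}) =>
      ⨅ a, Module.End.maxGenEigenspace (ρA a) (ψ a)) (χ ∘ c^[i]) ⟨i, hi, rfl⟩)

end Induced

end Cfsg.Agent.Lib.Helper63.HHIndLA
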