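import Cfsg.Agent.Lib.Helper63.PLen

/-!
`p`-length API (continued): the upper `p`-series is characteristic, and `p`-length is subadditive
in extensions.
-/

set_option autoImplicit false
set_option linter.unusedSectionVars false

namespace Cfsg.Agent.Lib.Helper63

open Cfsg

section char

variable {G : Type*} [Group G]

theorem comap_mk'_characteristic (U : Subgroup G) [U.Normal] [hU : U.Characteristic]
    (C : Subgroup (G ⧸ U)) [hC : C.Characteristic] :
    (C.comap (QuotientGroup.mk' U)).Characteristic := by
  rw [Subgroup.characteristic_iff_comap_le]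
  intro φ x hx
  rw [Subgroup.mem_comap] at hx ⊢
  have hUφ : U.map φ.toMonoidHom = U := Subgroup.characteristic_iff_map_eq.1 hU φ
  have h2 : C.comap (QuotientGroup.congr U U φ hUφ).toMonoidHom = C :=
    Subgroup.characteristic_iff_comap_eq.1 hC (QuotientGroup.congr U U φ hUφ)
  have h3 : (QuotientGroup.mk' U) x ∈ C.comap (QuotientGroup.congr U U φ hUφ).toMonoidHom := by
    rw [Subgroup.mem_comap]
    exact hx
  rwa [h2] at h3

theorem ups_characteristic (p : ℕ) (n : ℕ) : (upperPSeries p G n).1.Characteristic := by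
  induction n with
  | zero =>
    rw [ups_zero]
    exact Subgroup.botCharacteristic
  | succ n ih =>
    by_cases h : Even n
    · rw [ups_succ_even p h]
      have := Cfsg.Agent.Lib.Helper1.pPrimeCore_characteristic (G := G ⧸ (upperPSeries p G n).1) p
      exact comap_mk'_characteristic _ _
    · rw [ups_succ_odd p h]
      have := Cfsg.Agent.Lib.Helper1.pCore_characteristic (G := G ⧸ (upperPSeries p G n).1) p
      exact comap_mk'_characteristic _ _

end char

section ext

variable {G : Type*} [Group G] [Finite G] {p : ℕ} [hp : Fact p.Prime]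

/-- `p`-length is subadditive in extensions -/
theorem PLengthLE.extension {a b : ℕ} (N : Subgroup G) [hNn : N.Normal] (hN : PLengthLE p a ↥N)
    (hQ : PLengthLE p b (G ⧸ N)) : PLengthLE p (a + b) G := by
  rw [pLengthLE_iff]
  have hA := isPSeries_ups (G := ↥N) (p := p)
  have hB := isPSeries_ups (G := G ⧸ N) (p := p)
  have hsurj := QuotientGroup.mk'_surjective N
  -- the two halves
  have hAn : ∀ i, (((upperPSeries p ↥N i).1).map N.subtype).Normal := fun i => by
    have := ups_characteristic (G := ↥N) p i
    exact ConjAct.normal_of_characteristic_of_normal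
  have hBn : ∀ j, (((upperPSeries p (G ⧸ N) j).1).comap (QuotientGroup.mk' N)).Normal :=
    fun j => Subgroup.Normal.comap inferInstance _
  have hAle : ∀ i, ((upperPSeries p ↥N i).1).map N.subtype ≤ N := fun i =>
    Subgroup.map_subtype_le _
  have hBge : ∀ j, N ≤ ((upperPSeries p (G ⧸ N) j).1).comap (QuotientGroup.mk' N) := fun j => by
    intro x hx
    rw [Subgroup.mem_comap]
    have : (QuotientGroup.mk' N) x = 1 := (QuotientGroup.eq_one_iff x).2 hx
    rw [this]
    exact Subgroup.one_mem _
  have hAtop : ((upperPSeries p ↥N (2 * a + 1)).1).map N.subtype = N := by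
    have : (upperPSeries p ↥N (2 * a + 1)).1 = ⊤ := hN
    rw [this, ← MonoidHom.range_eq_map, Subgroup.range_subtype]
  have hB0 : ((upperPSeries p (G ⧸ N) 0).1).comap (QuotientGroup.mk' N) = N := by
    rw [ups_zero, MonoidHom.comap_bot, QuotientGroup.ker_mk']
  have hArel : ∀ i, (((upperPSeries p ↥N i).1).map N.subtype).relIndex
      (((upperPSeries p ↥N (i + 1)).1).map N.subtype) =
      ((upperPSeries p ↥N i).1).relIndex (upperPSeries p ↥N (i + 1)).1 := fun i =>
    Subgroup.relIndex_map_map_of_injective _ _ N.subtype_injective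
  have hBrel : ∀ j, (((upperPSeries p (G ⧸ N) j).1).comap (QuotientGroup.mk' N)).relIndex
      (((upperPSeries p (G ⧸ N) (j + 1)).1).comap (QuotientGroup.mk' N)) =
      ((upperPSeries p (G ⧸ N) j).1).relIndex (upperPSeries p (G ⧸ N) (j + 1)).1 := fun j => by
    rw [Subgroup.relIndex_comap, Subgroup.map_comap_eq_self_of_surjective hsurj]
  have hAmono : ∀ i, ((upperPSeries p ↥N i).1).map N.subtype ≤
      ((upperPSeries p ↥N (i + 1)).1).map N.subtype := fun i =>
    Subgroup.map_mono (ups_le_succ p i)
  have hBmono : ∀ j, ((upperPSeries p (G ⧸ N) j).1).comap (QuotientGroup.mk' N) ≤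
      ((upperPSeries p (G ⧸ N) (j + 1)).1).comap (QuotientGroup.mk' N) := fun j =>
    Subgroup.comap_mono (ups_le_succ p j)
  -- the junction
  have hjunc : ((((upperPSeries p ↥N (2 * a)).1).map N.subtype).relIndex
      (((upperPSeries p (G ⧸ N) 1).1).comap (QuotientGroup.mk' N))).Coprime p := by
    have h1 := Subgroup.relIndex_mul_relIndex (((upperPSeries p ↥N (2 * a)).1).map N.subtype) N
      (((upperPSeries p (G ⧸ N) 1).1).comap (QuotientGroup.mk' N)) (hAle _) (hBge _)
    rw [← h1]
    apply Nat.Coprime.mul_left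
    · have h2 := hArel (2 * a)
      rw [hAtop] at h2
      rw [h2]
      exact hA.even (2 * a) ⟨a, by ring⟩
    · have h2 := hBrel 0
      rw [hB0] at h2
      rw [h2]
      exact hB.even 0 ⟨0, rfl⟩
  refine ⟨fun i => if i ≤ 2 * a then ((upperPSeries p ↥N i).1).map N.subtype
    else ((upperPSeries p (G ⧸ N) (i - 2 * a)).1).comap (QuotientGroup.mk' N), ?_, ?_⟩
  · refine ⟨?_, ?_, ?_, ?_, ?_⟩
    · show (if 0 ≤ 2 * a then ((upperPSeries p ↥N 0).1).map N.subtype
        else ((upperPSeries p (G ⧸ N) (0 - 2 * a)).1).comap (QuotientGroup.mk' N)) = ⊥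
      rw [if_pos (Nat.zero_le _), ups_zero, Subgroup.map_bot]
    · intro i
      show (if i ≤ 2 * a then ((upperPSeries p ↥N i).1).map N.subtype
        else ((upperPSeries p (G ⧸ N) (i - 2 * a)).1).comap (QuotientGroup.mk' N)).Normal
      split_ifs
      · exact hAn i
      · exact hBn _
    · apply monotone_nat_of_le_succ
      intro i
      show (if i ≤ 2 * a then ((upperPSeries p ↥N i).1).map N.subtype
        else ((upperPSeries p (G ⧸ N) (i - 2 * a)).1).comap (QuotientGroup.mk' N)) ≤
        (if i + 1 ≤ 2 * a then ((upperPSeries p ↥N (i + 1)).1).map N.subtype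
        else ((upperPSeries p (G ⧸ N) (i + 1 - 2 * a)).1).comap (QuotientGroup.mk' N))
      by_cases h1 : i + 1 ≤ 2 * a
      · rw [if_pos h1, if_pos (by omega)]
        exact hAmono i
      · by_cases h2 : i ≤ 2 * a
        · rw [if_pos h2, if_neg h1]
          exact (hAle i).trans (hBge _)
        · rw [if_neg h2, if_neg h1]
          have : i + 1 - 2 * a = (i - 2 * a) + 1 := by omega
          rw [this]
          exact hBmono _
    · intro i hi
      show ((if i ≤ 2 * a then ((upperPSeries p ↥N i).1).map N.subtype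
        else ((upperPSeries p (G ⧸ N) (i - 2 * a)).1).comap (QuotientGroup.mk' N)).relIndex
        (if i + 1 ≤ 2 * a then ((upperPSeries p ↥N (i + 1)).1).map N.subtype
        else ((upperPSeries p (G ⧸ N) (i + 1 - 2 * a)).1).comap (QuotientGroup.mk' N))).Coprime p
      by_cases h1 : i + 1 ≤ 2 * a
      · rw [if_pos h1, if_pos (by omega), hArel]
        exact hA.even i hi
      · by_cases h2 : i ≤ 2 * a
        · have h3 : i = 2 * a := by omega
          subst h3
          rw [if_pos h2, if_neg h1]
          have : 2 * a + 1 - 2 * a = 1 := by omega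
          rw [this]
          exact hjunc
        · rw [if_neg h2, if_neg h1]
          have : i + 1 - 2 * a = (i - 2 * a) + 1 := by omega
          rw [this, hBrel]
          apply hB.even
          obtain ⟨c, hc⟩ := hi
          exact ⟨c - a, by omega⟩
    · intro i hi
      show ∃ m : ℕ, (if i ≤ 2 * a then ((upperPSeries p ↥N i).1).map N.subtype
        else ((upperPSeries p (G ⧸ N) (i - 2 * a)).1).comap (QuotientGroup.mk' N)).relIndex
        (if i + 1 ≤ 2 * a then ((upperPSeries p ↥N (i + 1)).1).map N.subtype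
        else ((upperPSeries p (G ⧸ N) (i + 1 - 2 * a)).1).comap (QuotientGroup.mk' N)) = p ^ m
      by_cases h1 : i + 1 ≤ 2 * a
      · rw [if_pos h1, if_pos (by omega), hArel]
        exact hA.odd i hi
      · by_cases h2 : i ≤ 2 * a
        · exfalso
          apply hi
          exact ⟨a, by omega⟩
        · rw [if_neg h2, if_neg h1]
          have : i + 1 - 2 * a = (i - 2 * a) + 1 := by omega
          rw [this, hBrel]
          apply hB.odd
          intro hcon
          apply hi
          obtain ⟨c, hc⟩ := hcon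
          exact ⟨c + a, by omega⟩
  · show (if 2 * (a + b) + 1 ≤ 2 * a then ((upperPSeries p ↥N (2 * (a + b) + 1)).1).map N.subtype
      else ((upperPSeries p (G ⧸ N) (2 * (a + b) + 1 - 2 * a)).1).comap (QuotientGroup.mk' N)) = ⊤
    rw [if_neg (by omega)]
    have h1 : 2 * (a + b) + 1 - 2 * a = 2 * b + 1 := by omega
    have h2 : (upperPSeries p (G ⧸ N) (2 * b + 1)).1 = ⊤ := hQ
    rw [h1, h2, Subgroup.comap_top]

/-- a group of order prime to `p` has `p`-length `0` -/
theorem PLengthLE.zero_of_coprime (h : (Nat.card G).Coprime p) : PLengthLE p 0 G := by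
  rw [pLengthLE_iff]
  refine ⟨fun i => if i = 0 then ⊥ else ⊤, ⟨rfl, ?_, ?_, ?_, ?_⟩, rfl⟩
  · intro i
    show (if i = 0 then (⊥ : Subgroup G) else ⊤).Normal
    split_ifs <;> infer_instance
  · apply monotone_nat_of_le_succ
    intro i
    show (if i = 0 then (⊥ : Subgroup G) else ⊤) ≤ (if i + 1 = 0 then (⊥ : Subgroup G) else ⊤)
    rw [if_neg (Nat.succ_ne_zero i)]
    exact le_top
  · intro i _
    show ((if i = 0 then (⊥ : Subgroup G) else ⊤).relIndex
      (if i + 1 = 0 then (⊥ : Subgroup G) else ⊤)).Coprime p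
    rw [if_neg (Nat.succ_ne_zero i)]
    split_ifs
    · rw [Subgroup.relIndex_top_right, Subgroup.index_bot]
      exact h
    · rw [Subgroup.relIndex_self]
      exact Nat.coprime_one_left p
  · intro i hi
    show ∃ m : ℕ, (if i = 0 then (⊥ : Subgroup G) else ⊤).relIndex
      (if i + 1 = 0 then (⊥ : Subgroup G) else ⊤) = p ^ m
    have hi0 : i ≠ 0 := by
      rintro rfl
      exact hi ⟨0, rfl⟩
    rw [if_neg (Nat.succ_ne_zero i), if_neg hi0, Subgroup.relIndex_self]
    exact ⟨0, (pow_zero p).symm⟩

/-- a `p`-group has `p`-length at most `1` -/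
theorem PLengthLE.one_of_isPGroup (h : IsPGroup p G) : PLengthLE p 1 G := by
  rw [pLengthLE_iff]
  refine ⟨fun i => if i ≤ 1 then ⊥ else ⊤, ⟨rfl, ?_, ?_, ?_, ?_⟩, rfl⟩
  · intro i
    show (if i ≤ 1 then (⊥ : Subgroup G) else ⊤).Normal
    split_ifs <;> infer_instance
  · apply monotone_nat_of_le_succ
    intro i
    show (if i ≤ 1 then (⊥ : Subgroup G) else ⊤) ≤ (if i + 1 ≤ 1 then (⊥ : Subgroup G) else ⊤)
    by_cases h1 : i + 1 ≤ 1
    · rw [if_pos h1, if_pos (by omega)]
    · rw [if_neg h1]
      exact le_top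
  · intro i hi
    show ((if i ≤ 1 then (⊥ : Subgroup G) else ⊤).relIndex
      (if i + 1 ≤ 1 then (⊥ : Subgroup G) else ⊤)).Coprime p
    by_cases h1 : i + 1 ≤ 1
    · rw [if_pos h1, if_pos (by omega), Subgroup.relIndex_self]
      exact Nat.coprime_one_left p
    · have h2 : ¬ i ≤ 1 := by
        intro h3
        have : i = 1 := by omega
        subst this
        exact absurd hi (by decide)
      rw [if_neg h1, if_neg h2, Subgroup.relIndex_self]
      exact Nat.coprime_one_left p
  · intro i hi
    show ∃ m : ℕ, (if i ≤ 1 then (⊥ : Subgroup G) else ⊤).relIndex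
      (if i + 1 ≤ 1 then (⊥ : Subgroup G) else ⊤) = p ^ m
    by_cases h2 : i ≤ 1
    · have h3 : i = 1 := by
        by_contra h4
        have : i = 0 := by omega
        subst this
        exact hi ⟨0, rfl⟩
      subst h3
      rw [if_pos h2, if_neg (by omega), Subgroup.relIndex_top_right, Subgroup.index_bot]
      exact IsPGroup.iff_card.1 h
    · rw [if_neg h2, if_neg (by omega), Subgroup.relIndex_self]
      exact ⟨0, (pow_zero p).symm⟩

end ext

end Cfsg.Agent.Lib.Helper63
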