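import Mathlib
import Cfsg.Agent.Lib.Helper70.FrattiniFaithful

set_option autoImplicit false

/-!
Helper63 library: the Frattini quotient `V/Φ(V)` of a normal `p`-subgroup `V` of a finite group `Γ`
as a module (an additive group of exponent `p`) on which `Γ` acts by conjugation; packaged abstractly
as data `(M, ρ, π)` so that users never see the quotient construction.
-/

namespace Cfsg.Agent.Lib.Helper63

universe u

open Cfsg.Agent.Lib.Helper70

section

variable {Γ : Type u} [Group Γ]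

/-- The data of a "Frattini module" for a normal subgroup `V` of `Γ`. -/
structure FrattData (p : ℕ) (V : Subgroup Γ) [hVn : V.Normal] (M : Type u) [AddCommGroup M]
    (ρ : Γ →* (AddMonoid.End M)ˣ) (π : ↥V → M) : Prop where
  exp : ∀ m : M, p • m = 0
  surj : Function.Surjective π
  add : ∀ u v : ↥V, π (u * v) = π u + π v
  act : ∀ (g : Γ) (v : ↥V), ((ρ g : (AddMonoid.End M)ˣ) : AddMonoid.End M) (π v) =
    π ⟨g * v * g⁻¹, hVn.conj_mem v v.2 g⟩
  ker : ∀ v : ↥V, π v = 0 ↔ v ∈ frattini ↥V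

theorem exists_frattData [Finite Γ] {p : ℕ} [Fact p.Prime] (V : Subgroup Γ) [hVn : V.Normal]
    (hV : IsPGroup p V) :
    ∃ (M : Type u) (_ : AddCommGroup M) (ρ : Γ →* (AddMonoid.End M)ˣ) (π : ↥V → M),
      FrattData p V M ρ π := by
  obtain ⟨hcomm, hpow⟩ := Cfsg.Agent.S0012.result p hV
  haveI hFn : (frattini ↥V).Normal := inferInstance
  letI instQ : CommGroup (↥V ⧸ frattini ↥V) :=
    { (inferInstance : Group (↥V ⧸ frattini ↥V)) with
      mul_comm := by
        intro a b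
        obtain ⟨a, rfl⟩ := QuotientGroup.mk_surjective a
        obtain ⟨b, rfl⟩ := QuotientGroup.mk_surjective b
        rw [← QuotientGroup.mk_mul, ← QuotientGroup.mk_mul, QuotientGroup.eq]
        apply hcomm
        rw [commutator_eq_closure]
        apply Subgroup.subset_closure
        refine ⟨b⁻¹, a⁻¹, ?_⟩
        simp [commutatorElement_def, mul_assoc] }
  have hchar : ∀ g : Γ, frattini ↥V ≤
      (frattini ↥V).comap (MulAut.conjNormal g : MulAut ↥V).toMonoidHom := by
    intro g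
    have h := (frattini_characteristic (G := ↥V))
    rw [Subgroup.characteristic_iff_comap_eq] at h
    rw [h]
  let φ : Γ → (↥V ⧸ frattini ↥V →* ↥V ⧸ frattini ↥V) := fun g =>
    QuotientGroup.map (frattini ↥V) (frattini ↥V) (MulAut.conjNormal g : MulAut ↥V).toMonoidHom (hchar g)
  have hφ : ∀ g (v : ↥V), φ g (QuotientGroup.mk v) =
      QuotientGroup.mk ((MulAut.conjNormal g : MulAut ↥V) v) := fun g v => rfl
  let ρ₀ : Γ →* AddMonoid.End (Additive (↥V ⧸ frattini ↥V)) :=
    { toFun := fun g => MonoidHom.toAdditive (φ g)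
      map_one' := by
        apply AddMonoidHom.ext
        intro x
        obtain ⟨y, rfl⟩ := Additive.ofMul.surjective x
        obtain ⟨v, rfl⟩ := QuotientGroup.mk_surjective y
        show Additive.ofMul (φ 1 (QuotientGroup.mk v)) = Additive.ofMul (QuotientGroup.mk v)
        rw [hφ, map_one]; rfl
      map_mul' := by
        intro g h
        apply AddMonoidHom.ext
        intro x
        obtain ⟨y, rfl⟩ := Additive.ofMul.surjective x
        obtain ⟨v, rfl⟩ := QuotientGroup.mk_surjective y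
        show Additive.ofMul (φ (g * h) (QuotientGroup.mk v)) =
          Additive.ofMul (φ g (φ h (QuotientGroup.mk v)))
        rw [hφ, hφ, hφ, map_mul]; rfl }
  refine ⟨Additive (↥V ⧸ frattini ↥V), inferInstance, ρ₀.toHomUnits,
    fun v => Additive.ofMul (QuotientGroup.mk v), ?_, ?_, ?_, ?_, ?_⟩
  · intro m
    obtain ⟨y, rfl⟩ := Additive.ofMul.surjective m
    obtain ⟨v, rfl⟩ := QuotientGroup.mk_surjective y
    rw [← ofMul_pow, ← QuotientGroup.mk_pow]
    have := (QuotientGroup.eq_one_iff (N := frattini ↥V) (v ^ p)).2 (hpow v)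
    rw [this]; rfl
  · intro m
    obtain ⟨y, rfl⟩ := Additive.ofMul.surjective m
    obtain ⟨v, rfl⟩ := QuotientGroup.mk_surjective y
    exact ⟨v, rfl⟩
  · intro u v
    rfl
  · intro g v
    show Additive.ofMul (φ g (QuotientGroup.mk v)) = _
    rw [hφ]
    rfl
  · intro v
    show Additive.ofMul (QuotientGroup.mk v : ↥V ⧸ frattini ↥V) = 0 ↔ _
    rw [← QuotientGroup.eq_one_iff]
    rfl

variable {p : ℕ} {V : Subgroup Γ} [hVn : V.Normal] {M : Type u} [AddCommGroup M]
  {ρ : Γ →* (AddMonoid.End M)ˣ} {π : ↥V → M}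

theorem end_add_apply (f g : AddMonoid.End M) (m : M) : (f + g) m = f m + g m := rfl
theorem end_zero_apply (m : M) : (0 : AddMonoid.End M) m = 0 := rfl
theorem end_one_apply (m : M) : (1 : AddMonoid.End M) m = m := rfl

theorem FrattData.map_one (D : FrattData p V M ρ π) : π 1 = 0 := by
  have h := D.add 1 1
  rw [mul_one] at h
  have : π 1 + 0 = π 1 + π 1 := by rw [add_zero]; exact h
  exact (add_left_cancel this).symm

theorem FrattData.map_inv (D : FrattData p V M ρ π) (v : ↥V) : π v⁻¹ = - π v := by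
  have h := D.add v v⁻¹
  rw [mul_inv_cancel, D.map_one] at h
  exact eq_neg_of_add_eq_zero_right h.symm

/-- The kernel of the action is contained in the subgroup acting trivially on `V/Φ(V)`. -/
theorem FrattData.mem_trivOnFrattiniQuot (D : FrattData p V M ρ π) {g : Γ} (hg : ρ g = 1) :
    g ∈ trivOnFrattiniQuot V := by
  intro r hr
  have h1 := D.act g ⟨r, hr⟩
  rw [hg, Units.val_one, end_one_apply] at h1
  have hmem : g * r * g⁻¹ * r⁻¹ ∈ V := V.mul_mem (hVn.conj_mem r hr g) (V.inv_mem hr)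
  rw [mem_frattiniIn hmem, ← D.ker]
  have h2 : (⟨g * r * g⁻¹ * r⁻¹, hmem⟩ : ↥V) =
      (⟨g * r * g⁻¹, hVn.conj_mem r hr g⟩ : ↥V) * (⟨r, hr⟩ : ↥V)⁻¹ := by
    apply Subtype.ext; rfl
  rw [h2, D.add, D.map_inv, ← h1]
  exact add_neg_cancel _

/-- Elements of `trivOnFrattiniQuot V` act trivially. -/
theorem FrattData.eq_one_of_mem (D : FrattData p V M ρ π) {g : Γ} (hg : g ∈ trivOnFrattiniQuot V) :
    ρ g = 1 := by
  apply Units.ext
  apply AddMonoid.End.ext
  intro m
  obtain ⟨v, rfl⟩ := D.surj m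
  rw [D.act g v, Units.val_one, end_one_apply]
  have h1 := hg v v.2
  have hmem : g * v * g⁻¹ * (v : Γ)⁻¹ ∈ V := V.mul_mem (hVn.conj_mem v v.2 g) (V.inv_mem v.2)
  rw [mem_frattiniIn hmem, ← D.ker] at h1
  have h2 : (⟨g * v * g⁻¹ * (v : Γ)⁻¹, hmem⟩ : ↥V) =
      (⟨g * v * g⁻¹, hVn.conj_mem v v.2 g⟩ : ↥V) * v⁻¹ := by
    apply Subtype.ext; rfl
  rw [h2, D.add, D.map_inv] at h1
  exact eq_of_sub_eq_zero (by rw [sub_eq_add_neg]; exact h1)

/-- The "norm" computation: `∑_{i<k} ρ(x)^i (π v) = π (w)` where `w * x^k = (v * x)^k`. -/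
theorem FrattData.exists_norm (D : FrattData p V M ρ π) (x : Γ) (v : ↥V) (k : ℕ) :
    ∃ w : ↥V, (w : Γ) * x ^ k = ((v : Γ) * x) ^ k ∧
      (∑ i ∈ Finset.range k, ((ρ x : (AddMonoid.End M)ˣ) : AddMonoid.End M) ^ i) (π v) = π w := by
  induction k with
  | zero =>
    refine ⟨1, by simp, ?_⟩
    simp [D.map_one]
  | succ k ih =>
    obtain ⟨w, hw1, hw2⟩ := ih
    refine ⟨w * ⟨x ^ k * v * (x ^ k)⁻¹, hVn.conj_mem v v.2 (x ^ k)⟩, ?_, ?_⟩
    · show (w : Γ) * (x ^ k * v * (x ^ k)⁻¹) * x ^ (k + 1) = ((v : Γ) * x) ^ (k + 1)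
      rw [pow_succ ((v : Γ) * x), ← hw1, pow_succ x]
      group
    · rw [Finset.sum_range_succ, end_add_apply, hw2, D.add]
      congr 1
      rw [← Units.val_pow_eq_pow_val, ← map_pow]
      exact D.act (x ^ k) v

/-- If `x ^ N = 1` and `(v x) ^ N = 1` for all `v ∈ V`, the norm `∑_{i<N} ρ(x)^i` vanishes. -/
theorem FrattData.norm_eq_zero (D : FrattData p V M ρ π) (x : Γ) (N : ℕ) (hx : x ^ N = 1)
    (hvx : ∀ v : ↥V, ((v : Γ) * x) ^ N = 1) :
    ∑ i ∈ Finset.range N, ((ρ x : (AddMonoid.End M)ˣ) : AddMonoid.End M) ^ i = 0 := by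
  apply AddMonoid.End.ext
  intro m
  obtain ⟨v, rfl⟩ := D.surj m
  obtain ⟨w, hw1, hw2⟩ := D.exists_norm x v N
  rw [hw2, end_zero_apply]
  rw [hx, hvx v, mul_one] at hw1
  have : w = 1 := Subtype.ext hw1
  rw [this, D.map_one]

/-- `p = 0` in the endomorphism ring. -/
theorem FrattData.natCast_eq_zero (D : FrattData p V M ρ π) : ((p : ℕ) : AddMonoid.End M) = 0 := by
  apply AddMonoid.End.ext
  intro m
  rw [AddMonoid.End.natCast_apply, end_zero_apply]
  exact D.exp m

end

end Cfsg.Agent.Lib.Helper63
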