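import Mathlib
import Cfsg.Agent.Lib.Helper34.HallHigmanAbelian

set_option autoImplicit false

/-!
Helper63 library: the abelian case of the Hall–Higman theorem B for elements of order `p ^ m`,
in ring-theoretic form (generalizing `Cfsg.Agent.Lib.Helper34.commute_of_geom_sum_eq_zero`).

Let `R` be a ring with `p = 0`, `g` a unit and `A` a finite abelian group of units of order prime to `p`
normalized by `g`. If `1 + g + ⋯ + g^(p^m-1) = 0`, then `g ^ p ^ (m-1)` commutes with `A`.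
-/

namespace Cfsg.Agent.Lib.Helper63

open Finset

section hh

variable {R : Type*} [Ring R]

/-- Averaging argument: if `∑_{i<N} g^i = 0`, `B` is a finite group of units normalized by `g` on which
no `g^i` (`0<i<N`) has a nontrivial fixed point, and `|B|` is invertible in `R`, then `B` is trivial. -/
theorem eq_one_of_geom_sum_eq_zero (g : Rˣ) (N : ℕ) (hN0 : 0 < N)
    (hN : ∑ i ∈ range N, (g : R) ^ i = 0)
    (B : Subgroup Rˣ) [Finite B]
    (hBg : ∀ i : ℕ, ∀ b ∈ B, (g ^ i)⁻¹ * b * g ^ i ∈ B)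
    (hfix : ∀ i : ℕ, 0 < i → i < N → ∀ d ∈ B, d * g ^ i = g ^ i * d → d = 1)
    (m : R) (hunit : (Nat.card B : R) * m = 1) : ∀ c ∈ B, c = 1 := by
  classical
  have hBfintype : Fintype B := Fintype.ofFinite B
  set sB : R := ∑ c : B, ((c : Rˣ) : R) with hsBdef
  have hTi : ∀ i : ℕ, 0 < i → i < N →
      ∑ b : B, ((b : Rˣ) : R) * ((g : R) ^ i) * (((b : Rˣ)⁻¹ : Rˣ) : R) = (g : R) ^ i * sB := by
    intro i hi0 hip
    have := Cfsg.Agent.Lib.Helper34.sum_conj_eq_mul_sum B (g ^ i) (hBg i) (hfix i hi0 hip)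
    rw [Units.val_pow_eq_pow_val] at this
    exact this
  have hT0 : ∑ b : B, ((b : Rˣ) : R) * ((g : R) ^ 0) * (((b : Rˣ)⁻¹ : Rˣ) : R) = (Nat.card B : R) := by
    simp [Nat.card_eq_fintype_card]
  have hsum : (Nat.card B : R) = sB := by
    have h0 : ∑ b : B, ((b : Rˣ) : R) * (∑ i ∈ range N, (g : R) ^ i) * (((b : Rˣ)⁻¹ : Rˣ) : R) = 0 := by
      rw [hN]; simp
    have h1 : ∑ b : B, ((b : Rˣ) : R) * (∑ i ∈ range N, (g : R) ^ i) * (((b : Rˣ)⁻¹ : Rˣ) : R) =
        ∑ i ∈ range N, ∑ b : B, ((b : Rˣ) : R) * ((g : R) ^ i) * (((b : Rˣ)⁻¹ : Rˣ) : R) := by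
      rw [Finset.sum_comm]
      apply Finset.sum_congr rfl
      intro b _
      rw [Finset.mul_sum, Finset.sum_mul]
    have h2 : ∑ i ∈ range N, ∑ b : B, ((b : Rˣ) : R) * ((g : R) ^ i) * (((b : Rˣ)⁻¹ : Rˣ) : R) =
        ∑ i ∈ range N, ((g : R) ^ i * sB + if i = 0 then ((Nat.card B : R) - sB) else 0) := by
      apply Finset.sum_congr rfl
      intro i hi
      by_cases hi0 : i = 0
      · subst hi0
        rw [hT0]; simp
      · rw [hTi i (Nat.pos_of_ne_zero hi0) (Finset.mem_range.mp hi), if_neg hi0, add_zero]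
    rw [h1, h2, Finset.sum_add_distrib, ← Finset.sum_mul, hN, zero_mul, zero_add,
      Finset.sum_ite_eq' (range N) 0 (fun _ => (Nat.card B : R) - sB),
      if_pos (Finset.mem_range.mpr hN0)] at h0
    exact sub_eq_zero.mp h0
  intro c hc
  have h1 : (c : R) * sB = sB := by
    rw [hsBdef, Finset.mul_sum]
    exact Fintype.sum_equiv (Equiv.mulLeft (⟨c, hc⟩ : B)) _ _ (fun b => by simp)
  rw [← hsum] at h1
  apply Units.ext
  have h2 : (c : R) = (c : R) * ((Nat.card B : R) * m) := by rw [hunit, mul_one]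
  rw [h2, ← mul_assoc, h1, hunit, Units.val_one]

variable {p : ℕ}

/-- **Hall–Higman, abelian case, elements of order `p ^ m`.** -/
theorem commute_pow_of_geom_sum_eq_zero [hp : Fact p.Prime] (hpR : (p : R) = 0)
    (g : Rˣ) (m : ℕ) (hm : 1 ≤ m) (A : Subgroup Rˣ) [Finite A]
    (hA : ∀ a ∈ A, ∀ b ∈ A, a * b = b * a) (hcop : (Nat.card A).Coprime p)
    (hg : ∀ a ∈ A, g * a * g⁻¹ ∈ A)
    (hN : ∑ i ∈ range (p ^ m), (g : R) ^ i = 0) :
    ∀ a ∈ A, g ^ p ^ (m - 1) * a = a * g ^ p ^ (m - 1) := by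
  classical
  have hpp : p.Prime := hp.out
  -- `g ^ (p^m) = 1`
  have hgp : g ^ p ^ m = 1 := by
    apply Units.ext
    have h1 := mul_geom_sum (g : R) (p ^ m)
    rw [hN, mul_zero] at h1
    rw [Units.val_pow_eq_pow_val, Units.val_one]
    exact (sub_eq_zero.mp h1.symm)
  set z : Rˣ := g ^ p ^ (m - 1) with hz
  have hzp : z ^ p = 1 := by
    rw [hz, ← pow_mul, ← pow_succ, Nat.sub_add_cancel hm, hgp]
  have hgz : g * z = z * g := by
    rw [hz, ← pow_succ', ← pow_succ]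
  have hgn : ∀ n : ℕ, ∀ a ∈ A, g ^ n * a * (g ^ n)⁻¹ ∈ A := by
    intro n
    induction n with
    | zero => intro a ha; simpa using ha
    | succ n ih =>
      intro a ha
      have := hg _ (ih a ha)
      have h1 : g ^ (n + 1) * a * (g ^ (n + 1))⁻¹ = g * (g ^ n * a * (g ^ n)⁻¹) * g⁻¹ := by
        rw [pow_succ']; group
      rw [h1]; exact this
  have hzA : ∀ a ∈ A, z * a * z⁻¹ ∈ A := fun a ha => hgn _ a ha
  -- the subgroup `B = [A, z]`
  let B : Subgroup Rˣ :=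
    { carrier := {d | ∃ a ∈ A, d = z * a * z⁻¹ * a⁻¹}
      one_mem' := ⟨1, A.one_mem, by simp⟩
      mul_mem' := by
        rintro _ _ ⟨a, ha, rfl⟩ ⟨b, hb, rfl⟩
        refine ⟨a * b, A.mul_mem ha hb, ?_⟩
        have h1 : a⁻¹ * (z * b * z⁻¹ * b⁻¹) = (z * b * z⁻¹ * b⁻¹) * a⁻¹ :=
          hA _ (A.inv_mem ha) _ (A.mul_mem (hzA b hb) (A.inv_mem hb))
        calc z * a * z⁻¹ * a⁻¹ * (z * b * z⁻¹ * b⁻¹)
            = z * a * z⁻¹ * (a⁻¹ * (z * b * z⁻¹ * b⁻¹)) := by group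
          _ = z * a * z⁻¹ * ((z * b * z⁻¹ * b⁻¹) * a⁻¹) := by rw [h1]
          _ = z * (a * b) * z⁻¹ * (a * b)⁻¹ := by group
      inv_mem' := by
        rintro _ ⟨a, ha, rfl⟩
        refine ⟨a⁻¹, A.inv_mem ha, ?_⟩
        have h1 : a * (z * a⁻¹ * z⁻¹) = (z * a⁻¹ * z⁻¹) * a := hA _ ha _ (hzA _ (A.inv_mem ha))
        calc (z * a * z⁻¹ * a⁻¹)⁻¹ = a * (z * a⁻¹ * z⁻¹) := by group
          _ = z * a⁻¹ * z⁻¹ * a := h1
          _ = z * a⁻¹ * z⁻¹ * a⁻¹⁻¹ := by group }
  have hBA : B ≤ A := by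
    rintro _ ⟨a, ha, rfl⟩
    exact A.mul_mem (hzA a ha) (A.inv_mem ha)
  have hBfin : Finite B := Finite.of_injective (Subgroup.inclusion hBA) (Subgroup.inclusion_injective hBA)
  -- `B` is normalized by `g`
  have hBg1 : ∀ b ∈ B, g * b * g⁻¹ ∈ B := by
    rintro _ ⟨a, ha, rfl⟩
    refine ⟨g * a * g⁻¹, hg a ha, ?_⟩
    have hc : Commute g z := hgz
    have hci : Commute g z⁻¹ := hc.inv_right
    calc g * (z * a * z⁻¹ * a⁻¹) * g⁻¹
        = (g * z) * a * z⁻¹ * a⁻¹ * g⁻¹ := by group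
      _ = (z * g) * a * z⁻¹ * a⁻¹ * g⁻¹ := by rw [hc.eq]
      _ = z * (g * a * g⁻¹) * (g * z⁻¹) * a⁻¹ * g⁻¹ := by group
      _ = z * (g * a * g⁻¹) * (z⁻¹ * g) * a⁻¹ * g⁻¹ := by rw [hci.eq]
      _ = z * (g * a * g⁻¹) * z⁻¹ * (g * a * g⁻¹)⁻¹ := by group
  have hBgn : ∀ n : ℕ, ∀ b ∈ B, g ^ n * b * (g ^ n)⁻¹ ∈ B := by
    intro n
    induction n with
    | zero => intro b hb; simpa using hb
    | succ n ih =>
      intro b hb
      have := hBg1 _ (ih b hb)
      have h1 : g ^ (n + 1) * b * (g ^ (n + 1))⁻¹ = g * (g ^ n * b * (g ^ n)⁻¹) * g⁻¹ := by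
        rw [pow_succ']; group
      rw [h1]; exact this
  have hBgn' : ∀ n : ℕ, ∀ b ∈ B, (g ^ n)⁻¹ * b * g ^ n ∈ B := by
    intro n b hb
    have h1 : (g ^ n)⁻¹ = g ^ ((p ^ m - 1) * n) := by
      apply inv_eq_of_mul_eq_one_right
      rw [← pow_add]
      have h0 : 0 < p ^ m := pow_pos hpp.pos m
      have : n + (p ^ m - 1) * n = p ^ m * n := by
        have h2 : p ^ m - 1 + 1 = p ^ m := by omega
        calc n + (p ^ m - 1) * n = (p ^ m - 1 + 1) * n := by ring
          _ = p ^ m * n := by rw [h2]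
      rw [this, pow_mul, hgp, one_pow]
    have := hBgn ((p ^ m - 1) * n) b hb
    rw [← h1, inv_inv] at this
    exact this
  -- no nontrivial element of `B` commutes with `z`
  have hfix : ∀ d ∈ B, d * z = z * d → d = 1 := by
    rintro d ⟨a, ha, hd⟩ hdg
    have hconj : z * a * z⁻¹ = d * a := by rw [hd]; group
    have hpow : ∀ n : ℕ, z ^ n * a * (z ^ n)⁻¹ = d ^ n * a := by
      intro n
      induction n with
      | zero => simp
      | succ n ih =>
        have hdn : z * d ^ n = d ^ n * z := by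
          have : Commute d z := hdg
          exact (this.pow_left n).eq.symm
        calc z ^ (n + 1) * a * (z ^ (n + 1))⁻¹ = z * (z ^ n * a * (z ^ n)⁻¹) * z⁻¹ := by
              rw [pow_succ']; group
          _ = z * (d ^ n * a) * z⁻¹ := by rw [ih]
          _ = (z * d ^ n) * a * z⁻¹ := by group
          _ = d ^ n * z * a * z⁻¹ := by rw [hdn]
          _ = d ^ n * (z * a * z⁻¹) := by group
          _ = d ^ n * (d * a) := by rw [hconj]
          _ = d ^ (n + 1) * a := by rw [pow_succ]; group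
    have h1 := hpow p
    rw [hzp] at h1
    have hdp : d ^ p = 1 := by
      have : a = d ^ p * a := by simpa using h1
      have h2 : d ^ p * a = 1 * a := by rw [one_mul]; exact this.symm
      exact mul_right_cancel h2
    have hdA : d ∈ A := hBA ⟨a, ha, hd⟩
    have ho1 : orderOf d ∣ p := orderOf_dvd_of_pow_eq_one hdp
    have ho2 : orderOf d ∣ Nat.card A := Subgroup.orderOf_dvd_natCard A hdA
    have ho3 : orderOf d ∣ Nat.gcd (Nat.card A) p := Nat.dvd_gcd ho2 ho1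
    rw [hcop.gcd_eq_one, Nat.dvd_one] at ho3
    exact orderOf_eq_one_iff.mp ho3
  -- the same for the powers `g ^ i`, `0 < i < p ^ m`
  have hfixi : ∀ i : ℕ, 0 < i → i < p ^ m → ∀ d ∈ B, d * g ^ i = g ^ i * d → d = 1 := by
    intro i hi0 hip d hd hdi
    apply hfix d hd
    -- `i = p ^ k * u` with `p ∤ u`, `k < m`
    obtain ⟨k, u, hu, hiu⟩ := Nat.exists_eq_pow_mul_and_not_dvd hi0.ne' p hpp.ne_one
    have hkm : k < m := by
      by_contra hkm
      push Not at hkm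
      have h1 : p ^ m ∣ i := by
        rw [hiu]
        exact Dvd.dvd.mul_right (pow_dvd_pow p hkm) u
      exact absurd (Nat.le_of_dvd hi0 h1) (not_le.2 hip)
    have hcop' : Nat.Coprime u p := ((Nat.Prime.coprime_iff_not_dvd hpp).mpr hu).symm
    obtain ⟨w, -, hw⟩ := Nat.exists_mul_mod_eq_one_of_coprime hcop' hpp.one_lt
    -- `(g^i)^(p^(m-1-k) * w) = z`
    have h1 : (g ^ i) ^ (p ^ (m - 1 - k) * w) = z := by
      have e1 : i * (p ^ (m - 1 - k) * w) = p ^ (m - 1) * (u * w) := by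
        rw [hiu]
        have : p ^ (m - 1) = p ^ k * p ^ (m - 1 - k) := by
          rw [← pow_add]; congr 1; omega
        rw [this]; ring
      rw [← pow_mul, e1, pow_mul, ← hz]
      have := Nat.div_add_mod (u * w) p
      rw [hw] at this
      rw [← this, pow_add, pow_mul, hzp, one_pow, one_mul, pow_one]
    have h2 : Commute d (g ^ i) := hdi
    have h3 : Commute d ((g ^ i) ^ (p ^ (m - 1 - k) * w)) := h2.pow_right _
    rw [h1] at h3
    exact h3.eq
  -- `|B|` is invertible in `R`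
  have hBcop : (Nat.card B).Coprime p :=
    Nat.Coprime.coprime_dvd_left (Subgroup.card_dvd_of_le hBA) hcop
  obtain ⟨w, -, hw⟩ := Nat.exists_mul_mod_eq_one_of_coprime hBcop hpp.one_lt
  have hunit : (Nat.card B : R) * (w : R) = 1 := by
    have := Nat.div_add_mod (Nat.card B * w) p
    rw [hw] at this
    have h1 : ((Nat.card B * w : ℕ) : R) = 1 := by
      rw [← this, Nat.cast_add, Nat.cast_mul, hpR, zero_mul, zero_add, Nat.cast_one]
    rwa [Nat.cast_mul] at h1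
  have hBtriv := eq_one_of_geom_sum_eq_zero g (p ^ m) (pow_pos hpp.pos m) hN B hBgn' hfixi (w : R) hunit
  intro a ha
  have h1 := hBtriv (z * a * z⁻¹ * a⁻¹) ⟨a, ha, rfl⟩
  calc z * a = (z * a * z⁻¹ * a⁻¹) * (a * z) := by group
    _ = a * z := by rw [h1, one_mul]

end hh

end Cfsg.Agent.Lib.Helper63
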