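import Mathlib
import Cfsg.Agent.Lib.Helper63.HHAb
import Cfsg.Agent.Lib.Helper63.FrattMod
import Cfsg.Agent.Lib.Helper1.PCore
import Cfsg.Agent.Lib.Helper1.Fitting
import Cfsg.Agent.Lib.Helper76.PCore
import Cfsg.Agent.Lib.Helper62.HHDual

set_option autoImplicit false

/-!
Helper63 library: the group-theoretic core of the Hall–Higman bound `l_p ≤ e` when all Sylow
`q`-subgroups (`q ≠ p`) are abelian: if `G` is `p`-soluble with `O_{p'}(G) = 1` and the Sylow
`p`-subgroups have exponent dividing `p ^ n` (`n ≥ 1`), then the Sylow `p`-subgroups of `G / O_p(G)`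
have exponent dividing `p ^ (n-1)`.
-/

namespace Cfsg.Agent.Lib.Helper63

open Cfsg
open scoped Pointwise

universe u

section aux

variable {H : Type*} [Group H]

/-- A `p`-element normalizing a `p'`-group `K` normalizes some Sylow `q`-subgroup of `K`. -/
theorem exists_invariant_sylow [Finite H] (K : Subgroup H) [K.Normal] (p q : ℕ) [Fact p.Prime]
    [Fact q.Prime] (hK : (Nat.card K).Coprime p) (x : H) (m : ℕ) (hx : x ^ p ^ m = 1) :
    ∃ Q : Sylow q ↥K, ∀ k : ↥K, k ∈ Q → (MulAut.conjNormal x : MulAut ↥K) k ∈ Q := by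
  have hp : p.Prime := Fact.out
  set α : MulAut ↥K := MulAut.conjNormal x with hα
  have hαp : α ^ p ^ m = 1 := by
    rw [hα, ← map_pow, hx, map_one]
  have hZ : IsPGroup p (Subgroup.zpowers α) := by
    apply IsPGroup.of_card (n := (Nat.factorization (orderOf α)) p)
    rw [Nat.card_zpowers]
    have hdvd : orderOf α ∣ p ^ m := orderOf_dvd_of_pow_eq_one hαp
    obtain ⟨j, _, hj⟩ := (Nat.dvd_prime_pow hp).1 hdvd
    rw [hj, hp.factorization_pow]
    simp
  have hnd : ¬ p ∣ Nat.card (Sylow q ↥K) := by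
    intro hdvd
    obtain ⟨Q0⟩ : Nonempty (Sylow q ↥K) := inferInstance
    have h1 : Nat.card (Sylow q ↥K) ∣ Nat.card ↥K :=
      (Sylow.card_dvd_index Q0).trans (Subgroup.index_dvd_card _)
    have h2 : p ∣ Nat.gcd (Nat.card ↥K) p := Nat.dvd_gcd (hdvd.trans h1) dvd_rfl
    rw [hK] at h2
    exact hp.one_lt.ne' (Nat.dvd_one.1 h2)
  obtain ⟨Q, hQ⟩ := hZ.nonempty_fixed_point_of_prime_not_dvd_card (Sylow q ↥K) hnd
  refine ⟨Q, ?_⟩
  intro k hk
  have h1 : (⟨α, Subgroup.mem_zpowers α⟩ : Subgroup.zpowers α) • Q = Q := hQ _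
  have h2 : (⟨α, Subgroup.mem_zpowers α⟩ : Subgroup.zpowers α) • (k : ↥K) ∈
      (⟨α, Subgroup.mem_zpowers α⟩ : Subgroup.zpowers α) • (Q : Subgroup ↥K) :=
    Subgroup.smul_mem_pointwise_smul _ _ _ hk
  have h3 : (((⟨α, Subgroup.mem_zpowers α⟩ : Subgroup.zpowers α) • Q : Sylow q ↥K) : Subgroup ↥K) =
      (⟨α, Subgroup.mem_zpowers α⟩ : Subgroup.zpowers α) • (Q : Subgroup ↥K) :=
    Sylow.pointwise_smul_def
  rw [h1] at h3
  rw [← h3] at h2
  exact h2

/-- A subgroup of `K` containing a Sylow `q`-subgroup of `K` for every prime `q` is `K`. -/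
theorem eq_of_forall_sylow_le [Finite H] (K S : Subgroup H) (hSK : S ≤ K)
    (h : ∀ (q : ℕ) [Fact q.Prime], ∃ Q : Sylow q ↥K, (Q : Subgroup ↥K).map K.subtype ≤ S) :
    S = K := by
  apply Subgroup.eq_of_le_of_card_ge hSK
  apply Nat.le_of_dvd Nat.card_pos
  rw [← Nat.factorization_prime_le_iff_dvd Nat.card_pos.ne' Nat.card_pos.ne']
  intro q hq
  haveI : Fact q.Prime := ⟨hq⟩
  obtain ⟨Q, hQ⟩ := h q
  rw [← hq.pow_dvd_iff_le_factorization Nat.card_pos.ne']
  have h1 : Nat.card ↥((Q : Subgroup ↥K).map K.subtype) = q ^ (Nat.card ↥K).factorization q := by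
    rw [Subgroup.card_map_of_injective K.subtype_injective]
    exact Q.card_eq_multiplicity
  rw [← h1]
  exact Subgroup.card_dvd_of_le hQ

end aux

section quot

variable {G : Type u} [Group G]

/-- `q`-subgroups of a quotient of a group with abelian Sylow `q`-subgroups are abelian. -/
theorem commute_of_isPGroup_quotient [Finite G] (N : Subgroup G) [N.Normal] (q : ℕ) [Fact q.Prime]
    (hab : ∀ Q : Sylow q G, ∀ a ∈ (Q : Subgroup G), ∀ b ∈ (Q : Subgroup G), a * b = b * a)
    (A : Subgroup (G ⧸ N)) (hA : IsPGroup q A) : ∀ a ∈ A, ∀ b ∈ A, a * b = b * a := by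
  obtain ⟨T, hT⟩ := hA.exists_le_sylow
  obtain ⟨S, rfl⟩ := Sylow.mapSurjective_surjective (QuotientGroup.mk'_surjective N) q T
  intro a ha b hb
  have ha' := hT ha
  have hb' := hT hb
  rw [Sylow.coe_mapSurjective] at ha' hb'
  obtain ⟨s, hs, rfl⟩ := ha'
  obtain ⟨t, ht, rfl⟩ := hb'
  rw [← map_mul, ← map_mul, hab S s hs t ht]

/-- **Exponent reduction.** -/
theorem pow_mem_pCore_of_abelian_sylow [Finite G] {p : ℕ} [Fact p.Prime]
    (hsolv : IsPSolvable p G) (hcore : pPrimeCore p G = ⊥)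
    (hab : ∀ (q : ℕ) [Fact q.Prime], q ≠ p → ∀ Q : Sylow q G,
      ∀ a ∈ (Q : Subgroup G), ∀ b ∈ (Q : Subgroup G), a * b = b * a)
    (n : ℕ) (hn : 1 ≤ n)
    (hexp : ∀ (P : Sylow p G), ∀ x ∈ (P : Subgroup G), x ^ p ^ n = 1)
    (P : Sylow p G) (x : G) (hx : x ∈ (P : Subgroup G)) : x ^ p ^ (n - 1) ∈ pCore p G := by
  have hp : p.Prime := Fact.out
  set V : Subgroup G := pCore p G with hVdef
  have hVn : V.Normal := inferInstance
  have hV : IsPGroup p V := Cfsg.Agent.Lib.Helper1.pCore_isPGroup p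
  have hcoreN : ∀ N : Subgroup G, N.Normal → (Nat.card N).Coprime p → N = ⊥ := by
    intro N hN hNp
    have := Cfsg.Agent.Lib.Helper1.le_pPrimeCore hN hNp
    rw [hcore] at this
    exact le_bot_iff.1 this
  have hcent : Subgroup.centralizer (V : Set G) ≤ V :=
    Cfsg.Agent.Lib.Helper76.centralizer_pCore_le p hsolv hcoreN
  have htriv : Cfsg.Agent.Lib.Helper70.trivOnFrattiniQuot V ≤ V :=
    Cfsg.Agent.Lib.Helper70.trivOnFrattiniQuot_le V hV hcent
      (fun N hN hNp => Cfsg.Agent.Lib.Helper1.le_pCore hN hNp)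
  obtain ⟨M, instM, ρ, π, D⟩ := exists_frattData V hV
  -- the induced faithful action of `G ⧸ V`
  have hVker : ∀ v ∈ V, ρ v = 1 := fun v hv =>
    D.eq_one_of_mem (Cfsg.Agent.Lib.Helper70.le_trivOnFrattiniQuot V hV hv)
  set ρb : G ⧸ V →* (AddMonoid.End M)ˣ := QuotientGroup.lift V ρ hVker with hρb
  have hρb_mk : ∀ g : G, ρb (QuotientGroup.mk' V g) = ρ g := fun g => rfl
  have hρb_inj : Function.Injective ρb := by
    rw [injective_iff_map_eq_one]
    intro y hy
    obtain ⟨g, rfl⟩ := QuotientGroup.mk'_surjective V y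
    rw [hρb_mk] at hy
    have hg : g ∈ V := htriv (D.mem_trivOnFrattiniQuot hy)
    exact (QuotientGroup.eq_one_iff g).2 hg
  -- the norm vanishes
  have hN : ∑ i ∈ Finset.range (p ^ n), ((ρ x : (AddMonoid.End M)ˣ) : AddMonoid.End M) ^ i = 0 :=
    D.norm_eq_zero x (p ^ n) (hexp P x hx)
      (fun v => hexp P _ (P.mul_mem (Cfsg.Agent.Lib.Helper1.pCore_le_sylow p P v.2) hx))
  -- notation in the quotient
  set xb : G ⧸ V := QuotientGroup.mk' V x with hxb
  set zb : G ⧸ V := xb ^ p ^ (n - 1) with hzb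
  have hxbp : xb ^ p ^ n = 1 := by
    rw [hxb, ← map_pow, hexp P x hx, map_one]
  have hzbp : zb ^ p ^ 1 = 1 := by
    rw [hzb, ← pow_mul, pow_one, ← pow_succ, Nat.sub_add_cancel hn, hxbp]
  -- the `p'`-core of the quotient
  have hsolvb : IsPSolvable p (G ⧸ V) :=
    Cfsg.Agent.Lib.Helper76.IsPSolvable_of_surjective p (QuotientGroup.mk' V)
      (QuotientGroup.mk'_surjective V) hsolv
  have hcoreb : ∀ N : Subgroup (G ⧸ V), N.Normal → IsPGroup p N → N = ⊥ := by
    intro N hNn hNp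
    have h1 : (N.comap (QuotientGroup.mk' V)).Normal := hNn.comap _
    have h2 : IsPGroup p (N.comap (QuotientGroup.mk' V)) := by
      apply hNp.comap_of_ker_isPGroup
      rw [QuotientGroup.ker_mk']
      exact hV
    have h3 := Cfsg.Agent.Lib.Helper1.le_pCore h1 h2
    rw [eq_bot_iff]
    intro y hy
    obtain ⟨g, rfl⟩ := QuotientGroup.mk'_surjective V y
    rw [Subgroup.mem_bot]
    exact (QuotientGroup.eq_one_iff g).2 (h3 hy)
  set K : Subgroup (G ⧸ V) := pPrimeCore p (G ⧸ V) with hKdef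
  have hKn : K.Normal := inferInstance
  have hKcent : Subgroup.centralizer (K : Set (G ⧸ V)) ≤ K :=
    Cfsg.Agent.Lib.Helper62.centralizer_pPrimeCore_le p hsolvb hcoreb
  have hKcop : (Nat.card K).Coprime p := Cfsg.Agent.Lib.Helper1.pPrimeCore_card_coprime p
  -- `zb` centralizes `K`
  have hzK : K ⊓ Subgroup.centralizer ({zb} : Set (G ⧸ V)) = K := by
    apply eq_of_forall_sylow_le K _ inf_le_left
    intro q hq
    obtain ⟨Q, hQ⟩ := exists_invariant_sylow K p q hKcop xb n hxbp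
    refine ⟨Q, ?_⟩
    set A : Subgroup (G ⧸ V) := (Q : Subgroup ↥K).map K.subtype with hA
    have hAK : A ≤ K := by
      rintro _ ⟨k, _, rfl⟩
      exact k.2
    refine le_inf hAK ?_
    by_cases hqp : q = p
    · -- `Q` is trivial
      subst hqp
      have hcard : Nat.card ↥(Q : Subgroup ↥K) = 1 := by
        rw [Q.card_eq_multiplicity]
        have : (Nat.card ↥K).factorization q = 0 := by
          apply Nat.factorization_eq_zero_of_not_dvd
          intro hdvd
          have h2 : q ∣ Nat.gcd (Nat.card ↥K) q := Nat.dvd_gcd hdvd dvd_rfl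
          rw [hKcop] at h2
          exact hp.one_lt.ne' (Nat.dvd_one.1 h2)
        rw [this, pow_zero]
      have hbot : (Q : Subgroup ↥K) = ⊥ := Subgroup.card_eq_one.1 hcard
      rintro _ ⟨k, hk, rfl⟩
      have hk1 : k = 1 := by
        have hk' : k ∈ (Q : Subgroup ↥K) := hk
        rw [hbot] at hk'
        exact Subgroup.mem_bot.1 hk'
      rw [hk1, map_one]
      exact Subgroup.one_mem _
    · -- the Hall–Higman argument
      have hAq : IsPGroup q A := Q.2.map _
      have hAab : ∀ a ∈ A, ∀ b ∈ A, a * b = b * a :=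
        commute_of_isPGroup_quotient V q (hab q hqp) A hAq
      have hAcop : (Nat.card A).Coprime p := by
        obtain ⟨j, hj⟩ := IsPGroup.iff_card.1 hAq
        rw [hj]
        apply Nat.Coprime.pow_left
        exact (Nat.coprime_primes hq.out hp).2 hqp
      have hAx : ∀ a ∈ A, xb * a * xb⁻¹ ∈ A := by
        rintro _ ⟨k, hk, rfl⟩
        refine ⟨(MulAut.conjNormal xb : MulAut ↥K) k, hQ k hk, ?_⟩
        simp [MulAut.conjNormal_apply]
      -- transport to units of the endomorphism ring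
      set A' : Subgroup (AddMonoid.End M)ˣ := A.map ρb with hA'
      have hfinA' : Finite A' :=
        Finite.of_surjective _ (MonoidHom.subgroupMap_surjective ρb A)
      have hA'ab : ∀ a ∈ A', ∀ b ∈ A', a * b = b * a := by
        rintro _ ⟨a, ha, rfl⟩ _ ⟨b, hb, rfl⟩
        rw [← map_mul, ← map_mul, hAab a ha b hb]
      have hA'cop : (Nat.card A').Coprime p := by
        rw [hA', Subgroup.card_map_of_injective hρb_inj]
        exact hAcop
      have hA'g : ∀ a ∈ A', ρb xb * a * (ρb xb)⁻¹ ∈ A' := by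
        rintro _ ⟨a, ha, rfl⟩
        refine ⟨xb * a * xb⁻¹, hAx a ha, ?_⟩
        simp
      have hN' : ∑ i ∈ Finset.range (p ^ n),
          ((ρb xb : (AddMonoid.End M)ˣ) : AddMonoid.End M) ^ i = 0 := by
        rw [hxb, hρb_mk]
        exact hN
      have hcomm := commute_pow_of_geom_sum_eq_zero (p := p) D.natCast_eq_zero (ρb xb) n hn A'
        hA'ab hA'cop hA'g hN'
      intro a ha
      rw [Subgroup.mem_centralizer_iff]
      intro y hy
      rw [Set.mem_singleton_iff] at hy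
      subst hy
      have h1 := hcomm (ρb a) ⟨a, ha, rfl⟩
      rw [← map_pow, ← map_mul, ← map_mul] at h1
      exact hρb_inj h1
  have hzcent : zb ∈ Subgroup.centralizer (K : Set (G ⧸ V)) := by
    rw [Subgroup.mem_centralizer_iff]
    intro k hk
    have hk' : k ∈ K ⊓ Subgroup.centralizer ({zb} : Set (G ⧸ V)) := by rw [hzK]; exact hk
    have := Subgroup.mem_centralizer_iff.1 hk'.2 zb rfl
    exact this.symm
  have hzbK : zb ∈ K := hKcent hzcent
  have hzb1 : zb = 1 := by
    have h1 : zb ^ Nat.card K = 1 := by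
      have := pow_card_eq_one' (G := ↥K) (x := ⟨zb, hzbK⟩)
      exact congrArg Subtype.val this
    exact Cfsg.Agent.Lib.Helper76.eq_one_of_pow_eq_one_of_coprime p zb (Nat.card K) 1 hKcop h1 hzbp
  rw [hzb, hxb, ← map_pow] at hzb1
  exact (QuotientGroup.eq_one_iff _).1 hzb1

end quot

end Cfsg.Agent.Lib.Helper63
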