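import Mathlib
import Cfsg.Agent.Lib.Helper2.FrobFree
import Cfsg.Agent.Lib.Helper2.FrobCount

/-!
# Fixed points of a cyclic group acting on a module for a Frobenius-like group

`exists_fixed_add_norm`: let `Q` be a nilpotent normal subgroup of the finite group `G`, of order
invertible in `K`, and let `x ∈ G` be such that every non-trivial element of `⟨x⟩` acts
fixed-point-freely on `Q / (Q ∩ Z(G))`.  If `Z(G)` acts trivially on the `K G`-module `M`, then every
`x`-fixed vector of `M` is the sum of a `Q`-fixed vector and a norm `∑_{h ∈ ⟨x⟩} h w`.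
-/

set_option autoImplicit false
set_option linter.unusedSectionVars false
set_option linter.style.haveILetI false

namespace Cfsg.Agent.Lib.Helper63.HHCritGp

open Cfsg.Agent.Lib.Helper2 Cfsg.Agent.Lib.Helper2.FreeAssembly

section Free

variable {k H V : Type*} [Field k] [Group H] [AddCommGroup V] [Module k V]

/-- In a free module the fixed vectors are norms. -/
theorem exists_eq_sum_of_fixed [Fintype H] (ρ : Representation k H V) (hfree : FreeOn ρ ⊤)
    (v : V) (hv : ∀ h, ρ h v = v) : ∃ w : V, v = ∑ h : H, ρ h w := by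
  classical
  obtain ⟨W, hi, hs⟩ := hfree
  have hbij := FrobCount.sumMap_bijective ρ W hi hs
  obtain ⟨f, hf⟩ := hbij.2 v
  have hconst : ∀ h, f h = f 1 := by
    intro h
    have h1 : FrobCount.sumMap ρ W (fun y => f (h⁻¹ * y)) = FrobCount.sumMap ρ W f := by
      have h2 : ρ h (FrobCount.sumMap ρ W f) = FrobCount.sumMap ρ W f := by rw [hf]; exact hv h
      rw [FrobCount.sumMap, map_sum] at h2
      have h3 : ∀ y : H, ρ h (ρ y (f y : V)) = ρ (h * y) (f y : V) := by
        intro y; rw [map_mul]; rfl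
      simp_rw [h3] at h2
      show ∑ y : H, ρ y ((f (h⁻¹ * y) : W) : V) = ∑ y : H, ρ y (f y : V)
      rw [← h2]
      refine (Fintype.sum_equiv (Equiv.mulLeft h) _ _ (fun y => ?_)).symm
      simp
    have h4 := congrFun (hbij.1 h1) h
    simp only [inv_mul_cancel] at h4
    exact h4.symm
  refine ⟨(f 1 : V), ?_⟩
  rw [← hf, FrobCount.sumMap]
  exact Finset.sum_congr rfl fun h _ => by rw [hconst h]

end Free

section Main

variable {G : Type*} [Group G] [Finite G] {K : Type*} [Field K]
  {M : Type*} [AddCommGroup M] [Module K M]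

/-- Averaging over a normal subgroup commutes with the group action. -/
theorem avg_comm (σ : Representation K G M) (Q : Subgroup G) [Q.Normal] [Fintype ↥Q] (g : G)
    (v : M) : σ g (FrobFree.avg σ Q v) = FrobFree.avg σ Q (σ g v) := by
  rw [FrobFree.avg_apply, FrobFree.avg_apply, map_smul, map_sum]
  congr 1
  refine Fintype.sum_equiv (MulAut.conjNormal g : ↥Q ≃* ↥Q).toEquiv _ _ (fun n => ?_)
  show σ g (σ (n : G) v) = σ ((MulAut.conjNormal g n : ↥Q) : G) (σ g v)
  rw [MulAut.conjNormal_apply, ← Module.End.mul_apply, ← Module.End.mul_apply, ← map_mul,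
    ← map_mul]
  congr 2
  group

theorem fixed_of_mem_zpowers (σ : Representation K G M) (x : G) (v : M) (hv : σ x v = v)
    (h : G) (hh : h ∈ Subgroup.zpowers x) : σ h v = v := by
  let S : Subgroup G :=
    { carrier := {g | σ g v = v}
      one_mem' := by show σ 1 v = v; rw [map_one]; rfl
      mul_mem' := by
        intro a b ha hb
        show σ (a * b) v = v
        rw [map_mul, Module.End.mul_apply, show σ b v = v from hb, show σ a v = v from ha]
      inv_mem' := by
        intro a ha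
        show σ a⁻¹ v = v
        have : σ a⁻¹ (σ a v) = v := by
          rw [← Module.End.mul_apply, ← map_mul, inv_mul_cancel, map_one]; rfl
        rwa [show σ a v = v from ha] at this }
  have hle : Subgroup.zpowers x ≤ S := Subgroup.zpowers_le.mpr hv
  exact hle hh

theorem exists_fixed_add_norm (Q : Subgroup G) [Q.Normal] [hnil : Group.IsNilpotent ↥Q]
    (hQK : (Nat.card ↥Q : K) ≠ 0) (x : G)
    (hfpf : ∀ h ∈ Subgroup.zpowers x, h ≠ 1 → ∀ g ∈ Q,
      (h * g * h⁻¹)⁻¹ * g ∈ Subgroup.center G → g ∈ Subgroup.center G)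
    (σ : Representation K G M) (hZ : ∀ z ∈ Subgroup.center G, σ z = 1)
    (m : M) (hm : σ x m = m) :
    ∃ m₀ w : M, (∀ g ∈ Q, σ g m₀ = m₀) ∧
      m = m₀ + ∑ i ∈ Finset.range (orderOf x), (σ x ^ i) w := by
  classical
  haveI : Fintype ↥Q := Fintype.ofFinite _
  haveI : Fintype ↥(Subgroup.zpowers x) := Fintype.ofFinite _
  -- the complement of the fixed points
  set E : Submodule K M := LinearMap.ker (FrobFree.avg σ Q) with hE
  have hinv : ∀ g, E ≤ E.comap (σ g) := by
    intro g v hv
    rw [Submodule.mem_comap, hE, LinearMap.mem_ker, ← avg_comm, LinearMap.mem_ker.mp hv, map_zero]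
  set σE : Representation K G E := σ.subrepresentation E hinv with hσE
  have hσE_coe : ∀ (g : G) (v : E), ((σE g v : E) : M) = σ g (v : M) := fun g v => rfl
  -- the groups
  set H : Subgroup G := Subgroup.zpowers x with hH
  set ZQ : Subgroup ↥Q := (Subgroup.center G).subgroupOf Q with hZQ
  have hker : ZQ ≤ (σE.comp Q.subtype).ker := by
    intro z hz
    rw [MonoidHom.mem_ker]
    ext v
    show σ (z : G) (v : M) = (v : M)
    rw [hZ _ (Subgroup.mem_subgroupOf.mp hz)]
    rfl
  set ρF : Representation K (↥Q ⧸ ZQ) E := QuotientGroup.lift ZQ (σE.comp Q.subtype) hker with hρF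
  set ρH : Representation K ↥H E := σE.comp H.subtype with hρH
  set φ₀ : ↥H →* MulAut ↥Q := (MulAut.conjNormal (H := Q)).comp H.subtype with hφ₀
  have hN : ∀ h : ↥H, ∀ z ∈ ZQ, φ₀ h z ∈ ZQ := by
    intro h z hz
    rw [hZQ, Subgroup.mem_subgroupOf] at hz ⊢
    have : ((φ₀ h z : ↥Q) : G) = (z : G) := by
      show ((MulAut.conjNormal (h : G) z : ↥Q) : G) = z
      rw [MulAut.conjNormal_apply]
      have := Subgroup.mem_center_iff.mp hz (h : G)
      rw [this]; group
    rw [this]; exact hz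
  set φ : ↥H →* MulAut (↥Q ⧸ ZQ) := FrobFree.quotientAut φ₀ ZQ hN with hφ
  -- fixed-point-freeness
  have hfpf' : ∀ h : ↥H, h ≠ 1 → ∀ f : ↥Q ⧸ ZQ, φ h f = f → f = 1 := by
    intro h hh f hf
    induction f using QuotientGroup.induction_on with
    | H g =>
      rw [hφ, FrobFree.quotientAut_mk, QuotientGroup.eq] at hf
      rw [QuotientGroup.eq_one_iff, hZQ, Subgroup.mem_subgroupOf]
      rw [hZQ, Subgroup.mem_subgroupOf] at hf
      refine hfpf (h : G) h.2 (fun h1 => hh (Subtype.ext h1)) (g : G) g.2 ?_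
      have e : (((φ₀ h g)⁻¹ * g : ↥Q) : G) = ((h : G) * (g : G) * (h : G)⁻¹)⁻¹ * (g : G) := by
        rw [Subgroup.coe_mul, Subgroup.coe_inv]
        show ((MulAut.conjNormal (h : G) g : ↥Q) : G)⁻¹ * (g : G) = _
        rw [MulAut.conjNormal_apply]
      rw [← e]; exact hf
  -- compatibility
  have hcompat : ∀ (h : ↥H) (f : ↥Q ⧸ ZQ) (v : E), ρH h (ρF f v) = ρF (φ h f) (ρH h v) := by
    intro h f v
    induction f using QuotientGroup.induction_on with
    | H g =>
      rw [hφ, FrobFree.quotientAut_mk, hρF, QuotientGroup.lift_mk, QuotientGroup.lift_mk]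
      apply Subtype.ext
      show σ (h : G) (σ (g : G) (v : M)) = σ ((φ₀ h g : ↥Q) : G) (σ (h : G) (v : M))
      have : ((φ₀ h g : ↥Q) : G) = (h : G) * (g : G) * (h : G)⁻¹ := by
        show ((MulAut.conjNormal (h : G) g : ↥Q) : G) = _
        rw [MulAut.conjNormal_apply]
      rw [this, ← Module.End.mul_apply, ← Module.End.mul_apply, ← map_mul, ← map_mul]
      congr 2
      group
  -- no fixed points
  have hfix : ∀ v : E, (∀ f : ↥Q ⧸ ZQ, ρF f v = v) → v = 0 := by
    intro v hv
    have h1 : (v : M) ∈ FrobFree.fixedSub σ Q := by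
      intro n hn
      have := hv ((⟨n, hn⟩ : ↥Q) : ↥Q ⧸ ZQ)
      rw [hρF, QuotientGroup.lift_mk] at this
      exact congrArg Subtype.val this
    have h2 : (v : M) ∈ LinearMap.ker (FrobFree.avg σ Q) := v.2
    have := (Submodule.disjoint_def.mp (FrobFree.disjoint_fixedSub_ker σ Q hQK)) _ h1 h2
    exact Subtype.ext this
  have hfree : FreeOn ρH ⊤ := FrobFree.nilpotent_free φ hfpf' ρF ρH hcompat hfix
  -- decompose `m`
  set m₀ : M := FrobFree.avg σ Q m with hm₀
  have hm₀fix : ∀ g ∈ Q, σ g m₀ = m₀ := fun g hg => FrobFree.avg_mem_fixedSub σ Q m g hg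
  have hm₀x : σ x m₀ = m₀ := by rw [hm₀, avg_comm, hm]
  have hm1 : m - m₀ ∈ E := by
    rw [hE, LinearMap.mem_ker, map_sub, hm₀, FrobFree.avg_idem σ Q hQK, sub_self]
  have hm1x : σ x (m - m₀) = m - m₀ := by rw [map_sub, hm, hm₀x]
  have hm1H : ∀ h : ↥H, ρH h ⟨m - m₀, hm1⟩ = ⟨m - m₀, hm1⟩ := by
    intro h
    apply Subtype.ext
    show σ (h : G) (m - m₀) = m - m₀
    exact fixed_of_mem_zpowers σ x _ hm1x h h.2
  obtain ⟨w, hw⟩ := exists_eq_sum_of_fixed ρH hfree ⟨m - m₀, hm1⟩ hm1H
  refine ⟨m₀, (w : M), hm₀fix, ?_⟩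
  have hw' : m - m₀ = ∑ h : ↥H, σ (h : G) (w : M) := by
    have := congrArg Subtype.val hw
    rw [Submodule.coe_sum] at this
    exact this
  have hsum : ∑ h : ↥H, σ (h : G) (w : M) = ∑ i ∈ Finset.range (orderOf x), (σ x ^ i) (w : M) := by
    rw [← Fin.sum_univ_eq_sum_range (fun i => (σ x ^ i) (w : M)) (orderOf x)]
    refine (Fintype.sum_equiv (finEquivZPowers (isOfFinOrder_of_finite x)) _ _ (fun i => ?_)).symm
    rw [finEquivZPowers_apply]
    show (σ x ^ (i : ℕ)) (w : M) = σ (x ^ (i : ℕ)) (w : M)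
    rw [map_pow]
  rw [← hsum, ← hw']
  abel

end Main

end Cfsg.Agent.Lib.Helper63.HHCritGp
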