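import Mathlib
import Cfsg.Agent.Lib.Helper2.FrobFree
import Cfsg.Agent.Lib.Helper2.FrobCount
import Cfsg.Agent.Lib.Helper63.HHCritGp

/-!
# Generalisation of `HHCritGp.exists_fixed_add_norm`

The centre of `G` is replaced by an arbitrary normal subgroup `Zs` acting trivially, and the
complement `E` of the `Q`-fixed points is exposed together with the divisibility
`|⟨x⟩| ∣ dim E` (freeness).
-/

set_option autoImplicit false
set_option linter.unusedSectionVars false
set_option linter.style.haveILetI false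

namespace Cfsg.Agent.Lib.Helper63.HHCritGp2

open Cfsg.Agent.Lib.Helper2 Cfsg.Agent.Lib.Helper2.FreeAssembly Cfsg.Agent.Lib.Helper63.HHCritGp

section Free

variable {k H V : Type*} [Field k] [Group H] [AddCommGroup V] [Module k V]

/-- The dimension of a free module is divisible by the group order. -/
theorem card_dvd_finrank_of_freeOn [Finite H] [FiniteDimensional k V] (ρ : Representation k H V)
    (hfree : FreeOn ρ ⊤) : Nat.card H ∣ Module.finrank k V := by
  classical
  haveI : Fintype H := Fintype.ofFinite H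
  obtain ⟨W, hi, hs⟩ := hfree
  have hbij := FrobCount.sumMap_bijective ρ W hi hs
  let L : (H → W) →ₗ[k] V := ∑ h : H, (ρ h ∘ₗ W.subtype) ∘ₗ LinearMap.proj h
  have hL : ∀ f, L f = FrobCount.sumMap ρ W f := by
    intro f
    simp only [L, LinearMap.sum_apply, LinearMap.comp_apply, LinearMap.proj_apply,
      Submodule.subtype_apply, FrobCount.sumMap]
  have hLbij : Function.Bijective L := by
    have : (L : (H → W) → V) = FrobCount.sumMap ρ W := funext hL
    rw [this]; exact hbij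
  have e := LinearEquiv.ofBijective L hLbij
  rw [← e.finrank_eq, Module.finrank_pi_fintype, Finset.sum_const, Finset.card_univ,
    Nat.card_eq_fintype_card, smul_eq_mul]
  exact dvd_mul_right _ _

end Free

section Main

variable {G : Type*} [Group G] [Finite G] {K : Type*} [Field K]
  {M : Type*} [AddCommGroup M] [Module K M]

theorem exists_compl_free (Q : Subgroup G) [Q.Normal] [hnil : Group.IsNilpotent ↥Q]
    (hQK : (Nat.card ↥Q : K) ≠ 0) (x : G) (Zs : Subgroup G) [Zs.Normal]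
    (hfpf : ∀ h ∈ Subgroup.zpowers x, h ≠ 1 → ∀ g ∈ Q, (h * g * h⁻¹)⁻¹ * g ∈ Zs → g ∈ Zs)
    (σ : Representation K G M) (hZ : ∀ z ∈ Zs, σ z = 1) :
    ∃ E : Submodule K M, (∀ g, E ≤ E.comap (σ g)) ∧ FrobFree.fixedSub σ Q ⊓ E = ⊥ ∧
      FrobFree.fixedSub σ Q ⊔ E = ⊤ ∧
      (∀ m, σ x m = m → ∃ m₀ w : M, (∀ g ∈ Q, σ g m₀ = m₀) ∧ σ x m₀ = m₀ ∧
        m = m₀ + ∑ i ∈ Finset.range (orderOf x), (σ x ^ i) w) ∧
      (FiniteDimensional K M → orderOf x ∣ Module.finrank K E) := by
  classical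
  haveI : Fintype ↥Q := Fintype.ofFinite _
  haveI : Fintype ↥(Subgroup.zpowers x) := Fintype.ofFinite _
  set E : Submodule K M := LinearMap.ker (FrobFree.avg σ Q) with hE
  have hinv : ∀ g, E ≤ E.comap (σ g) := by
    intro g v hv
    rw [Submodule.mem_comap, hE, LinearMap.mem_ker, ← avg_comm, LinearMap.mem_ker.mp hv, map_zero]
  set σE : Representation K G E := σ.subrepresentation E hinv with hσE
  set H : Subgroup G := Subgroup.zpowers x with hH
  set ZQ : Subgroup ↥Q := Zs.subgroupOf Q with hZQ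
  have hker : ZQ ≤ (σE.comp Q.subtype).ker := by
    intro z hz
    rw [MonoidHom.mem_ker]
    ext v
    show σ (z : G) (v : M) = (v : M)
    rw [hZ _ (Subgroup.mem_subgroupOf.mp hz)]
    rfl
  set ρF : Representation K (↥Q ⧸ ZQ) E := QuotientGroup.lift ZQ (σE.comp Q.subtype) hker with hρF
  set ρH : Representation K ↥H E := σE.comp H.subtype with hρH
  set φ₀ : ↥H →* MulAut ↥Q := (MulAut.conjNormal (H := Q)).comp H.subtype with hφ₀
  have hN : ∀ h : ↥H, ∀ z ∈ ZQ, φ₀ h z ∈ ZQ := by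
    intro h z hz
    rw [hZQ, Subgroup.mem_subgroupOf] at hz ⊢
    have : ((φ₀ h z : ↥Q) : G) = (h : G) * (z : G) * (h : G)⁻¹ := by
      show ((MulAut.conjNormal (h : G) z : ↥Q) : G) = _
      rw [MulAut.conjNormal_apply]
    rw [this]
    exact ‹Zs.Normal›.conj_mem _ hz _
  set φ : ↥H →* MulAut (↥Q ⧸ ZQ) := FrobFree.quotientAut φ₀ ZQ hN with hφ
  have hfpf' : ∀ h : ↥H, h ≠ 1 → ∀ f : ↥Q ⧸ ZQ, φ h f = f → f = 1 := by
    intro h hh f hf
    induction f using QuotientGroup.induction_on with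
    | H g =>
      rw [hφ, FrobFree.quotientAut_mk, QuotientGroup.eq] at hf
      rw [QuotientGroup.eq_one_iff, hZQ, Subgroup.mem_subgroupOf]
      rw [hZQ, Subgroup.mem_subgroupOf] at hf
      refine hfpf (h : G) h.2 (fun h1 => hh (Subtype.ext h1)) (g : G) g.2 ?_
      have e : (((φ₀ h g)⁻¹ * g : ↥Q) : G) = ((h : G) * (g : G) * (h : G)⁻¹)⁻¹ * (g : G) := by
        rw [Subgroup.coe_mul, Subgroup.coe_inv]
        show ((MulAut.conjNormal (h : G) g : ↥Q) : G)⁻¹ * (g : G) = _
        rw [MulAut.conjNormal_apply]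
      rw [← e]; exact hf
  have hcompat : ∀ (h : ↥H) (f : ↥Q ⧸ ZQ) (v : E), ρH h (ρF f v) = ρF (φ h f) (ρH h v) := by
    intro h f v
    induction f using QuotientGroup.induction_on with
    | H g =>
      rw [hφ, FrobFree.quotientAut_mk, hρF, QuotientGroup.lift_mk, QuotientGroup.lift_mk]
      apply Subtype.ext
      show σ (h : G) (σ (g : G) (v : M)) = σ ((φ₀ h g : ↥Q) : G) (σ (h : G) (v : M))
      have : ((φ₀ h g : ↥Q) : G) = (h : G) * (g : G) * (h : G)⁻¹ := by
        show ((MulAut.conjNormal (h : G) g : ↥Q) : G) = _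
        rw [MulAut.conjNormal_apply]
      rw [this, ← Module.End.mul_apply, ← Module.End.mul_apply, ← map_mul, ← map_mul]
      congr 2
      group
  have hfix : ∀ v : E, (∀ f : ↥Q ⧸ ZQ, ρF f v = v) → v = 0 := by
    intro v hv
    have h1 : (v : M) ∈ FrobFree.fixedSub σ Q := by
      intro n hn
      have := hv ((⟨n, hn⟩ : ↥Q) : ↥Q ⧸ ZQ)
      rw [hρF, QuotientGroup.lift_mk] at this
      exact congrArg Subtype.val this
    have h2 : (v : M) ∈ LinearMap.ker (FrobFree.avg σ Q) := v.2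
    have := (Submodule.disjoint_def.mp (FrobFree.disjoint_fixedSub_ker σ Q hQK)) _ h1 h2
    exact Subtype.ext this
  have hfree : FreeOn ρH ⊤ := FrobFree.nilpotent_free φ hfpf' ρF ρH hcompat hfix
  refine ⟨E, hinv, ?_, ?_, ?_, ?_⟩
  · exact (FrobFree.disjoint_fixedSub_ker σ Q hQK).eq_bot
  · exact FrobFree.fixedSub_sup_ker σ Q hQK
  · intro m hm
    set m₀ : M := FrobFree.avg σ Q m with hm₀
    have hm₀fix : ∀ g ∈ Q, σ g m₀ = m₀ := fun g hg => FrobFree.avg_mem_fixedSub σ Q m g hg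
    have hm₀x : σ x m₀ = m₀ := by rw [hm₀, avg_comm, hm]
    have hm1 : m - m₀ ∈ E := by
      rw [hE, LinearMap.mem_ker, map_sub, hm₀, FrobFree.avg_idem σ Q hQK, sub_self]
    have hm1x : σ x (m - m₀) = m - m₀ := by rw [map_sub, hm, hm₀x]
    have hm1H : ∀ h : ↥H, ρH h ⟨m - m₀, hm1⟩ = ⟨m - m₀, hm1⟩ := by
      intro h
      apply Subtype.ext
      show σ (h : G) (m - m₀) = m - m₀
      exact fixed_of_mem_zpowers σ x _ hm1x h h.2
    obtain ⟨w, hw⟩ := exists_eq_sum_of_fixed ρH hfree ⟨m - m₀, hm1⟩ hm1H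
    refine ⟨m₀, (w : M), hm₀fix, hm₀x, ?_⟩
    have hw' : m - m₀ = ∑ h : ↥H, σ (h : G) (w : M) := by
      have := congrArg Subtype.val hw
      rw [Submodule.coe_sum] at this
      exact this
    have hsum : ∑ h : ↥H, σ (h : G) (w : M) =
        ∑ i ∈ Finset.range (orderOf x), (σ x ^ i) (w : M) := by
      rw [← Fin.sum_univ_eq_sum_range (fun i => (σ x ^ i) (w : M)) (orderOf x)]
      refine (Fintype.sum_equiv (finEquivZPowers (isOfFinOrder_of_finite x)) _ _ (fun i => ?_)).symm
      rw [finEquivZPowers_apply]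
      show (σ x ^ (i : ℕ)) (w : M) = σ (x ^ (i : ℕ)) (w : M)
      rw [map_pow]
    rw [← hsum, ← hw']
    abel
  · intro hfd
    have := card_dvd_finrank_of_freeOn ρH hfree
    rwa [hH, Nat.card_zpowers] at this

end Main

end Cfsg.Agent.Lib.Helper63.HHCritGp2
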