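import Mathlib

/-!
# Linear algebra for the critical case of the Hall–Higman theorem

* `geom_sum_eq_sub_one_pow`: in characteristic `p`, `∑_{i < p^k} T^i = (T - 1)^(p^k - 1)`.
* `Shift`: a filtration on endomorphisms relative to a nilpotent `N`; conjugation by `1 + N`
  minus the identity raises the filtration degree.
* `false_of_small_index`, `finrank_eq_of_boundary`: the two final nilpotent-operator arguments.
-/

set_option autoImplicit false
set_option linter.unusedSectionVars false

namespace Cfsg.Agent.Lib.Helper63.HHCritLA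

open Module

section GeomSum

theorem geom_sum_eq_sub_one_pow (K : Type*) [Field K] (p : ℕ) [hp : Fact p.Prime] [CharP K p]
    {A : Type*} [Ring A] [Algebra K A] (T : A) (k : ℕ) :
    ∑ i ∈ Finset.range (p ^ k), T ^ i = (T - 1) ^ (p ^ k - 1) := by
  have hpoly : ∑ i ∈ Finset.range (p ^ k), (Polynomial.X : Polynomial K) ^ i =
      (Polynomial.X - 1) ^ (p ^ k - 1) := by
    have hX : (Polynomial.X - 1 : Polynomial K) ≠ 0 := by
      have := Polynomial.X_sub_C_ne_zero (1 : K)
      rwa [Polynomial.C_1] at this
    apply mul_left_cancel₀ hX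
    have h1 : 1 ≤ p ^ k := Nat.one_le_pow _ _ hp.out.pos
    rw [mul_geom_sum, ← pow_succ', Nat.sub_add_cancel h1, sub_pow_char_pow, one_pow]
  have := congrArg (Polynomial.aeval T) hpoly
  simpa using this

end GeomSum

section Filtration

variable {K : Type*} [Field K] {V : Type*} [AddCommGroup V] [Module K V]

theorem pow_apply_mem_range_of_le (N : Module.End K V) {a b : ℕ} (hab : b ≤ a) (w : V) :
    (N ^ a) w ∈ LinearMap.range (N ^ b) := by
  refine ⟨(N ^ (a - b)) w, ?_⟩
  rw [← Module.End.mul_apply, ← pow_add, Nat.add_sub_cancel' hab]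

/-- `φ` maps `N^i V` into `N^(i + t - r) V` for all `i`. -/
def Shift (N : Module.End K V) (r t : ℕ) (φ : Module.End K V) : Prop :=
  ∀ (i : ℕ) (v : V), φ ((N ^ i) v) ∈ LinearMap.range (N ^ (i + t - r))

theorem shift_zero (N : Module.End K V) (r : ℕ) (hN : N ^ (r + 1) = 0) (φ : Module.End K V) :
    Shift N r 0 φ := by
  intro i v
  by_cases hi : i ≤ r
  · have : i + 0 - r = 0 := by omega
    rw [this, pow_zero]
    exact ⟨_, rfl⟩
  · have h0 : N ^ i = 0 := by
      have : i = (r + 1) + (i - (r + 1)) := by omega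
      rw [this, pow_add, hN, zero_mul]
    rw [h0, LinearMap.zero_apply, map_zero]
    exact Submodule.zero_mem _

theorem shift_succ (N : Module.End K V) (r t : ℕ) (φ u uinv : Module.End K V)
    (hu : u = 1 + N) (h1 : u * uinv = 1) (h2 : uinv * u = 1) (h : Shift N r t φ) :
    Shift N r (t + 1) (u * φ * uinv - φ) := by
  have hid : u * φ * uinv - φ = (N * φ - φ * N) * uinv := by
    calc u * φ * uinv - φ = u * φ * uinv - φ * (u * uinv) := by rw [h1, mul_one]
      _ = (N * φ - φ * N) * uinv := by rw [hu]; noncomm_ring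
  have hcomm : Commute uinv N := by
    have hN : N = u - 1 := by rw [hu]; abel
    show uinv * N = N * uinv
    rw [hN, mul_sub, sub_mul, h1, h2, mul_one, one_mul]
  intro i v
  rw [hid]
  have hc : uinv ((N ^ i) v) = (N ^ i) (uinv v) := by
    have := (hcomm.pow_right i).eq
    rw [← Module.End.mul_apply, this, Module.End.mul_apply]
  rw [Module.End.mul_apply, hc, LinearMap.sub_apply]
  refine Submodule.sub_mem _ ?_ ?_
  · obtain ⟨w, hw⟩ := h i (uinv v)
    rw [Module.End.mul_apply, ← hw, ← Module.End.mul_apply, ← pow_succ']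
    exact pow_apply_mem_range_of_le N (by omega) w
  · rw [Module.End.mul_apply, ← Module.End.mul_apply N, ← pow_succ']
    have := h (i + 1) (uinv v)
    have e : i + 1 + t - r = i + (t + 1) - r := by omega
    rwa [e] at this

theorem shift_pow (N : Module.End K V) (r : ℕ) (hN : N ^ (r + 1) = 0) (u uinv : Module.End K V)
    (hu : u = 1 + N) (h1 : u * uinv = 1) (h2 : uinv * u = 1)
    (c : Module.End K (Module.End K V)) (hc : ∀ φ, c φ = u * φ * uinv - φ)
    (j : ℕ) (ψ : Module.End K V) : Shift N r j ((c ^ j) ψ) := by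
  induction j with
  | zero => rw [pow_zero]; exact shift_zero N r hN ψ
  | succ j ih =>
    rw [pow_succ', Module.End.mul_apply, hc]
    exact shift_succ N r j _ u uinv hu h1 h2 ih

end Filtration

section Final

variable {K : Type*} [Field K] {V : Type*} [AddCommGroup V] [Module K V]

/-- If `N ≠ 0` has nilpotency index `s` and `(N - c) V ⊆ N^d V` with `d ≥ 2` and `s - 2 + d ≥ s`,
we get a contradiction. -/
theorem false_of_small_index (N : Module.End K V) (s d : ℕ) (hs : N ^ s = 0)
    (hmin : ∀ k < s, N ^ k ≠ 0) (hN : N ≠ 0) (hd : 2 ≤ d)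
    (hstar : ∃ c : K, ∀ v, (N - c • (1 : Module.End K V)) v ∈ LinearMap.range (N ^ d)) :
    False := by
  have hs2 : 2 ≤ s := by
    by_contra hlt
    push Not at hlt
    interval_cases s
    · apply hN
      have : (1 : Module.End K V) = 0 := by simpa using hs
      rw [← mul_one N, this, mul_zero]
    · apply hN
      simpa using hs
  obtain ⟨c, hc⟩ := hstar
  have h1 : N ^ (s - 2) * (N - c • (1 : Module.End K V)) = 0 := by
    ext v
    obtain ⟨w, hw⟩ := hc v
    rw [Module.End.mul_apply, ← hw, ← Module.End.mul_apply, ← pow_add]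
    have : s - 2 + d = s + (d - 2) := by omega
    rw [this, pow_add, hs, zero_mul]
    rfl
  have h2 : N ^ (s - 1) = c • N ^ (s - 2) := by
    have : N ^ (s - 2) * N - c • N ^ (s - 2) = 0 := by
      rw [← h1, mul_sub, mul_smul_comm, mul_one]
    have e : s - 1 = s - 2 + 1 := by omega
    rw [e, pow_succ]
    exact sub_eq_zero.mp this
  have h3 : c • N ^ (s - 1) = 0 := by
    have : N ^ s = c • N ^ (s - 1) := by
      have e1 : s = (s - 1) + 1 := by omega
      have e2 : s - 1 = s - 2 + 1 := by omega
      conv_lhs => rw [e1, pow_succ, h2, smul_mul_assoc, ← pow_succ, ← e2]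
    rw [← this, hs]
  rcases smul_eq_zero.mp h3 with h | h
  · rw [h, zero_smul] at h2
    exact hmin (s - 1) (by omega) h2
  · exact hmin (s - 1) (by omega) h

/-- The trace-like operator `∑_{k<s} N^(s-1-k) ∘ (f ⊗ v') ∘ N^k` commutes with `N`. -/
theorem traceLike_commute (N : Module.End K V) (s : ℕ) (hs : N ^ s = 0) (F : Module.End K V) :
    (∑ k ∈ Finset.range s, N ^ (s - 1 - k) * F * N ^ k) * N =
      N * ∑ k ∈ Finset.range s, N ^ (s - 1 - k) * F * N ^ k := by
  rw [Finset.sum_mul, Finset.mul_sum]
  have hL : ∀ k ∈ Finset.range s, N ^ (s - 1 - k) * F * N ^ k * N =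
      (fun j => N ^ (s - j) * F * N ^ j) (k + 1) := by
    intro k hk
    have hk' := Finset.mem_range.mp hk
    show _ = N ^ (s - (k + 1)) * F * N ^ (k + 1)
    have : s - (k + 1) = s - 1 - k := by omega
    rw [this, pow_succ, mul_assoc]
  have hR : ∀ k ∈ Finset.range s, N * (N ^ (s - 1 - k) * F * N ^ k) =
      (fun j => N ^ (s - j) * F * N ^ j) k := by
    intro k hk
    have hk' := Finset.mem_range.mp hk
    show _ = N ^ (s - k) * F * N ^ k
    have : s - k = (s - 1 - k) + 1 := by omega
    rw [this, pow_succ', mul_assoc, mul_assoc, mul_assoc]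
  rw [Finset.sum_congr rfl hL, Finset.sum_congr rfl hR, ← sub_eq_zero, ← Finset.sum_sub_distrib,
    Finset.sum_range_sub (fun j => N ^ (s - j) * F * N ^ j)]
  simp [hs]

/-- Boundary case: if every endomorphism commuting with `N` is a scalar modulo `N V`, then `V` is
cyclic for `N` and `dim V` is the nilpotency index. -/
theorem finrank_eq_of_boundary [FiniteDimensional K V] (N : Module.End K V) (s : ℕ)
    (hs : N ^ s = 0) (hmin : ∀ k < s, N ^ k ≠ 0)
    (hstar : ∀ φ : Module.End K V, φ * N = N * φ →
      ∃ c : K, ∀ v, (φ - c • (1 : Module.End K V)) v ∈ LinearMap.range N) :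
    finrank K V = s := by
  -- lower bound
  have hge : s ≤ finrank K V := by
    by_contra hlt
    push Not at hlt
    apply hmin _ hlt
    have hk := Module.End.ker_pow_eq_ker_pow_finrank_of_le (f := N) hlt.le
    rw [hs, LinearMap.ker_zero] at hk
    exact LinearMap.ker_eq_top.mp hk.symm
  refine le_antisymm ?_ hge
  rcases Nat.eq_zero_or_pos s with h0 | hpos
  · subst h0
    have h1 : (1 : Module.End K V) = 0 := by simpa using hs
    have hsub : ∀ v : V, v = 0 := by
      intro v
      have := congrArg (fun f => f v) h1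
      simpa using this
    have : Subsingleton V := ⟨fun a b => by rw [hsub a, hsub b]⟩
    rw [finrank_zero_of_subsingleton]
  -- a vector generating a full-length chain
  have hne := hmin (s - 1) (by omega)
  have hex : ∃ v, (N ^ (s - 1)) v ≠ 0 := by
    by_contra hall
    push Not at hall
    exact hne (LinearMap.ext hall)
  obtain ⟨v, hv⟩ := hex
  obtain ⟨f₀, hf₀⟩ : ∃ f : Module.Dual K V, f ((N ^ (s - 1)) v) ≠ 0 := by
    by_contra hall
    push Not at hall
    exact hv ((Module.forall_dual_apply_eq_zero_iff K _).mp hall)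
  set f : Module.Dual K V := (f₀ ((N ^ (s - 1)) v))⁻¹ • f₀ with hf
  have hfv : f ((N ^ (s - 1)) v) = 1 := by
    rw [hf, LinearMap.smul_apply, smul_eq_mul, inv_mul_cancel₀ hf₀]
  -- every vector is a multiple of `v` modulo `N V`
  have hspade : ∀ v' : V, ∃ c : K, v' - c • v ∈ LinearMap.range N := by
    intro v'
    set F : Module.End K V := f.smulRight v' with hF
    obtain ⟨c, hc⟩ := hstar _ (traceLike_commute N s hs F)
    refine ⟨c, ?_⟩
    have h1 := hc v
    rw [LinearMap.sub_apply, LinearMap.smul_apply, Module.End.one_apply, LinearMap.sum_apply] at h1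
    -- split off the last term
    have e : s = (s - 1) + 1 := by omega
    rw [e, Finset.sum_range_succ] at h1
    have hlast : (N ^ (s - 1 + 1 - 1 - (s - 1)) * F * N ^ (s - 1)) v = v' := by
      have : s - 1 + 1 - 1 - (s - 1) = 0 := by omega
      rw [this, pow_zero, one_mul, Module.End.mul_apply, hF, LinearMap.smulRight_apply, hfv,
        one_smul]
    rw [hlast] at h1
    have hrest : ∑ k ∈ Finset.range (s - 1), (N ^ (s - 1 + 1 - 1 - k) * F * N ^ k) v ∈
        LinearMap.range N := by
      refine Submodule.sum_mem _ fun k hk => ?_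
      have hk' := Finset.mem_range.mp hk
      have : s - 1 + 1 - 1 - k = (s - 1 - k - 1) + 1 := by omega
      rw [this, pow_succ', mul_assoc, mul_assoc, Module.End.mul_apply]
      exact ⟨_, rfl⟩
    have : v' - c • v = (∑ k ∈ Finset.range (s - 1), (N ^ (s - 1 + 1 - 1 - k) * F * N ^ k) v + v'
        - c • v) - ∑ k ∈ Finset.range (s - 1), (N ^ (s - 1 + 1 - 1 - k) * F * N ^ k) v := by abel
    rw [this]
    exact Submodule.sub_mem _ h1 hrest
  -- hence the chain spans
  have hchain : ∀ (j : ℕ) (v' : V), ∃ y ∈ Submodule.span K (Set.range fun i : Fin s => (N ^ (i : ℕ)) v),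
      j ≤ s → v' - y ∈ LinearMap.range (N ^ j) := by
    intro j
    induction j with
    | zero =>
      intro v'
      exact ⟨0, Submodule.zero_mem _, fun _ => by rw [pow_zero]; exact ⟨_, rfl⟩⟩
    | succ j ih =>
      intro v'
      obtain ⟨y, hy, hyj⟩ := ih v'
      by_cases hj : j + 1 ≤ s
      · obtain ⟨w, hw⟩ := hyj (by omega)
        obtain ⟨c, w', hw'⟩ := hspade w
        refine ⟨y + c • (N ^ j) v, Submodule.add_mem _ hy (Submodule.smul_mem _ _
          (Submodule.subset_span ⟨⟨j, by omega⟩, rfl⟩)), fun _ => ⟨w', ?_⟩⟩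
        have hw2 : w = c • v + N w' := by rw [hw']; abel
        rw [pow_succ, Module.End.mul_apply]
        have : v' - (y + c • (N ^ j) v) = (v' - y) - c • (N ^ j) v := by abel
        rw [this, ← hw, hw2, map_add, map_smul]
        abel
      · exact ⟨0, Submodule.zero_mem _, fun h => absurd h hj⟩
  have htop : (⊤ : Submodule K V) ≤ Submodule.span K (Set.range fun i : Fin s => (N ^ (i : ℕ)) v) := by
    intro v' _
    obtain ⟨y, hy, hyj⟩ := hchain s v'
    have := hyj le_rfl
    rw [hs, LinearMap.range_zero, Submodule.mem_bot, sub_eq_zero] at this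
    rw [this]
    exact hy
  calc finrank K V = finrank K (⊤ : Submodule K V) := (finrank_top K V).symm
    _ ≤ finrank K (Submodule.span K (Set.range fun i : Fin s => (N ^ (i : ℕ)) v)) :=
      Submodule.finrank_mono htop
    _ ≤ Fintype.card (Fin s) := finrank_range_le_card _
    _ = s := Fintype.card_fin s

end Final

end Cfsg.Agent.Lib.Helper63.HHCritLA
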