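import Mathlib
import Cfsg.Agent.Lib.Helper2.FrobFree
import Cfsg.Agent.Lib.Helper63.QGroupIrrDim
import Cfsg.Agent.Lib.Helper63.HHCritLA
import Cfsg.Agent.Lib.Helper63.HHCritGp2
import Cfsg.Agent.Lib.Helper63.HHIndLA

/-!
# Helper lemmas for the Hall–Higman Theorem B induction
-/

set_option autoImplicit false
set_option linter.unusedSectionVars false
set_option linter.style.haveILetI false

namespace Cfsg.Agent.Lib.Helper63.HHCore1

open Module Cfsg.Agent.Lib.Helper2 Cfsg.Agent.Lib.Helper63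

section Frobenius

/-- `(T - 1)^(p^k) = T^(p^k) - 1` in characteristic `p`. -/
theorem sub_one_pow_char_pow (K : Type*) [Field K] (p : ℕ) [Fact p.Prime] [CharP K p]
    {A : Type*} [Ring A] [Algebra K A] (T : A) (k : ℕ) :
    (T - 1) ^ (p ^ k) = T ^ (p ^ k) - 1 := by
  have hpoly : (Polynomial.X - 1 : Polynomial K) ^ (p ^ k) = Polynomial.X ^ (p ^ k) - 1 := by
    rw [sub_pow_char_pow, one_pow]
  have := congrArg (Polynomial.aeval T) hpoly
  simpa using this

/-- A unipotent operator of `q`-power order in characteristic `p ≠ q` is trivial. -/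
theorem eq_one_of_unipotent (K : Type*) [Field K] (p q : ℕ) [hp : Fact p.Prime] [hq : Fact q.Prime]
    (hpq : p ≠ q) [CharP K p] {V : Type*} [AddCommGroup V] [Module K V]
    (T : Module.End K V) (h2 : (T - 1) ^ 2 = 0) (k : ℕ) (hqk : T ^ (q ^ k) = 1) : T = 1 := by
  have hp2 : (T - 1) ^ (p ^ 1) = 0 := by
    have : 2 ≤ p ^ 1 := by rw [pow_one]; exact hp.out.two_le
    obtain ⟨m, hm⟩ := Nat.exists_eq_add_of_le this
    rw [hm, pow_add, h2, zero_mul]
  rw [sub_one_pow_char_pow K p T 1] at hp2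
  have hTp : T ^ (p ^ 1) = 1 := sub_eq_zero.mp hp2
  have hd : orderOf T ∣ Nat.gcd (p ^ 1) (q ^ k) :=
    Nat.dvd_gcd (orderOf_dvd_of_pow_eq_one hTp) (orderOf_dvd_of_pow_eq_one hqk)
  have hcop : Nat.Coprime (p ^ 1) (q ^ k) :=
    Nat.Coprime.pow _ _ ((Nat.coprime_primes hp.out hq.out).mpr hpq)
  rw [hcop] at hd
  exact orderOf_eq_one_iff.mp (Nat.dvd_one.mp hd)

end Frobenius

section Restrict

variable {K : Type*} [Field K] {V : Type*} [AddCommGroup V] [Module K V]

/-- Powers of `f - 1` on an invariant subspace. -/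
theorem coe_sub_one_pow_restrict (f : Module.End K V) (W : Submodule K V)
    (hW : ∀ w ∈ W, f w ∈ W) (s : ℕ) (w : W) :
    ((((f.restrict hW : Module.End K W) - 1) ^ s) w : V) = ((f - 1) ^ s) (w : V) := by
  induction s generalizing w with
  | zero => simp
  | succ s ih =>
    rw [pow_succ, Module.End.mul_apply, ih, pow_succ, Module.End.mul_apply]
    rfl

/-- Powers of `f - 1` on a quotient by an invariant subspace. -/
theorem sub_one_pow_mapQ (f : Module.End K V) (W : Submodule K V)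
    (hW : W ≤ W.comap f) (s : ℕ) (v : V) :
    (((W.mapQ W f hW : Module.End K (V ⧸ W)) - 1) ^ s) (Submodule.Quotient.mk v) =
      Submodule.Quotient.mk (((f - 1) ^ s) v) := by
  induction s generalizing v with
  | zero => simp
  | succ s ih =>
    rw [pow_succ, Module.End.mul_apply, pow_succ, Module.End.mul_apply]
    have : ((W.mapQ W f hW : Module.End K (V ⧸ W)) - 1) (Submodule.Quotient.mk v) =
        Submodule.Quotient.mk ((f - 1) v) := by
      rw [LinearMap.sub_apply, LinearMap.sub_apply, Module.End.one_apply, Module.End.one_apply,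
        Submodule.Quotient.mk_sub]
      rfl
    rw [this, ih]

end Restrict

section Cyclic

variable {G : Type*} [Group G]

/-- In a cyclic group of order `p^n`, every non-trivial subgroup contains `x^(p^(n-1))`. -/
theorem x0_mem_zpowers [Finite G] (p : ℕ) [hp : Fact p.Prime] (x : G) (n : ℕ) (hn : 1 ≤ n)
    (hord : orderOf x = p ^ n) (h : G) (hh : h ∈ Subgroup.zpowers x) (hh1 : h ≠ 1) :
    x ^ p ^ (n - 1) ∈ Subgroup.zpowers h := by
  have hh' : h ∈ Submonoid.powers x := (isOfFinOrder_of_finite x).mem_powers_iff_mem_zpowers.mpr hh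
  obtain ⟨i, rfl⟩ := hh'
  have hi0 : i ≠ 0 := by
    rintro rfl
    exact hh1 (pow_zero x)
  obtain ⟨v, u, hu, hiu⟩ := Nat.exists_eq_pow_mul_and_not_dvd hi0 p hp.out.ne_one
  have hvn : v < n := by
    by_contra hvn
    push Not at hvn
    apply hh1
    rw [hiu]
    have : p ^ n ∣ p ^ v * u := Dvd.dvd.mul_right (pow_dvd_pow p hvn) u
    rw [← hord] at this
    exact orderOf_dvd_iff_pow_eq_one.mp this
  set x₀ := x ^ p ^ (n - 1) with hx₀
  have hx₀p : x₀ ^ p = 1 := by
    rw [hx₀, ← pow_mul, ← pow_succ, Nat.sub_add_cancel hn, ← hord, pow_orderOf_eq_one]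
  have hx₀1 : x₀ ≠ 1 := by
    intro h1
    have := orderOf_dvd_iff_pow_eq_one.mpr h1
    rw [hord] at this
    have hlt : p ^ (n - 1) < p ^ n := Nat.pow_lt_pow_right hp.out.one_lt (by omega)
    exact absurd (Nat.le_of_dvd (pow_pos hp.out.pos _) this) (not_le.mpr hlt)
  have hox₀ : orderOf x₀ = p := orderOf_eq_prime hx₀p hx₀1
  have hpow : (x ^ i) ^ p ^ (n - 1 - v) = x₀ ^ u := by
    rw [hiu, hx₀, ← pow_mul, ← pow_mul]
    congr 1
    have : n - 1 = v + (n - 1 - v) := by omega
    conv_rhs => rw [this, pow_add]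
    ring
  have hcop : Nat.Coprime u (orderOf x₀) := by
    rw [hox₀]
    exact (Nat.Coprime.symm ((Nat.Prime.coprime_iff_not_dvd hp.out).mpr hu))
  obtain ⟨m, hm⟩ := exists_pow_eq_self_of_coprime hcop
  rw [← hm, ← hpow]
  exact Subgroup.pow_mem _ (Subgroup.pow_mem _ (Subgroup.mem_zpowers _) _) _

end Cyclic

section Gen

variable {K : Type*} [Field K] {G : Type*} [Group G] [Finite G]
  {V : Type*} [AddCommGroup V] [Module K V]

/-- A subspace invariant under `Q` and `x` is invariant under `⟨Q, x⟩`. -/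
theorem invariant_of_gen (ρ : Representation K G V) (Q : Subgroup G) (x : G)
    (hgen : Q ⊔ Subgroup.zpowers x = ⊤) (W : Submodule K V)
    (hQ : ∀ g ∈ Q, W.map (ρ g) ≤ W) (hx : W.map (ρ x) ≤ W) : ∀ g : G, W.map (ρ g) ≤ W := by
  have hmul : ∀ a b : G, W.map (ρ a) ≤ W → W.map (ρ b) ≤ W → W.map (ρ (a * b)) ≤ W := by
    intro a b ha hb
    rw [map_mul]
    calc W.map (ρ a * ρ b) = (W.map (ρ b)).map (ρ a) := Submodule.map_comp (ρ b) (ρ a) W
      _ ≤ W.map (ρ a) := Submodule.map_mono hb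
      _ ≤ W := ha
  have hpow : ∀ m : ℕ, W.map (ρ (x ^ m)) ≤ W := by
    intro m
    induction m with
    | zero => rw [pow_zero, map_one]; exact le_of_eq (Submodule.map_id W)
    | succ m ih => rw [pow_succ]; exact hmul _ _ ih hx
  let S : Subgroup G :=
    { carrier := {g | W.map (ρ g) ≤ W ∧ W.map (ρ g⁻¹) ≤ W}
      one_mem' := by
        constructor
        · rw [map_one]; exact le_of_eq (Submodule.map_id W)
        · rw [inv_one, map_one]; exact le_of_eq (Submodule.map_id W)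
      mul_mem' := by
        rintro a b ⟨ha1, ha2⟩ ⟨hb1, hb2⟩
        refine ⟨hmul a b ha1 hb1, ?_⟩
        rw [mul_inv_rev]
        exact hmul _ _ hb2 ha2
      inv_mem' := by
        rintro a ⟨ha1, ha2⟩
        refine ⟨ha2, ?_⟩
        rw [inv_inv]; exact ha1 }
  have hQS : Q ≤ S := fun g hg => ⟨hQ g hg, hQ _ (Q.inv_mem hg)⟩
  have hxS : x ∈ S := by
    refine ⟨hx, ?_⟩
    have hxi : x⁻¹ ∈ Submonoid.powers x :=
      (isOfFinOrder_of_finite x).mem_powers_iff_mem_zpowers.mpr
        (Subgroup.inv_mem _ (Subgroup.mem_zpowers x))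
    obtain ⟨m, hm⟩ := hxi
    rw [← hm]
    exact hpow m
  have hS : S = ⊤ := by
    rw [eq_top_iff, ← hgen]
    exact sup_le hQS (Subgroup.zpowers_le.mpr hxS)
  intro g
  have : g ∈ S := by rw [hS]; trivial
  exact this.1

/-- An endomorphism commuting with `ρ(Q)` and `ρ x` commutes with `ρ(G)`. -/
theorem commute_of_gen (ρ : Representation K G V) (Q : Subgroup G) (x : G)
    (hgen : Q ⊔ Subgroup.zpowers x = ⊤) (φ : Module.End K V)
    (hQ : ∀ g ∈ Q, ρ g * φ = φ * ρ g) (hx : ρ x * φ = φ * ρ x) : ∀ g : G, ρ g * φ = φ * ρ g := by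
  let S : Subgroup G :=
    { carrier := {g | ρ g * φ = φ * ρ g}
      one_mem' := by show ρ 1 * φ = φ * ρ 1; rw [map_one, one_mul, mul_one]
      mul_mem' := by
        intro a b ha hb
        show ρ (a * b) * φ = φ * ρ (a * b)
        rw [map_mul, mul_assoc, show ρ b * φ = φ * ρ b from hb, ← mul_assoc,
          show ρ a * φ = φ * ρ a from ha, mul_assoc]
      inv_mem' := by
        intro a ha
        show ρ a⁻¹ * φ = φ * ρ a⁻¹
        have h1 : ρ a⁻¹ * ρ a = 1 := by rw [← map_mul, inv_mul_cancel, map_one]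
        have h2 : ρ a * ρ a⁻¹ = 1 := by rw [← map_mul, mul_inv_cancel, map_one]
        calc ρ a⁻¹ * φ = ρ a⁻¹ * φ * (ρ a * ρ a⁻¹) := by rw [h2, mul_one]
          _ = ρ a⁻¹ * (φ * ρ a) * ρ a⁻¹ := by simp only [mul_assoc]
          _ = ρ a⁻¹ * (ρ a * φ) * ρ a⁻¹ := by rw [show ρ a * φ = φ * ρ a from ha]
          _ = (ρ a⁻¹ * ρ a) * φ * ρ a⁻¹ := by simp only [mul_assoc]
          _ = φ * ρ a⁻¹ := by rw [h1, one_mul] }
  have hS : S = ⊤ := by
    rw [eq_top_iff, ← hgen]
    exact sup_le (fun g hg => hQ g hg) (Subgroup.zpowers_le.mpr hx)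
  intro g
  have : g ∈ S := by rw [hS]; trivial
  exact this

end Gen

end Cfsg.Agent.Lib.Helper63.HHCore1
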