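import Mathlib

/-!
# A minimal invariant subgroup lemma (Hall–Higman reduction)

`centralizer_le_center_of_minimal`: let the `q`-subgroup `Q` be normalised by `x`, let `x₀` be a
`p`-element (`p ≠ q`) in `⟨x⟩` not centralising `Q`, and suppose that `x₀` centralises every proper
`x`-invariant subgroup of `Q`.  Then `C_Q(x₀) ≤ Z(Q)`.
-/

set_option autoImplicit false

namespace Cfsg.Agent.Lib.Helper63.HHGroup

open scoped commutatorElement

variable {G : Type*} [Group G]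

/-- Invariance under conjugation by `x` passes to natural powers. -/
theorem conj_pow_mem (R : Subgroup G) (x : G) (hx : ∀ g ∈ R, x * g * x⁻¹ ∈ R) (m : ℕ) :
    ∀ g ∈ R, x ^ m * g * (x ^ m)⁻¹ ∈ R := by
  induction m with
  | zero => intro g hg; simpa using hg
  | succ m ih =>
    intro g hg
    have := hx _ (ih g hg)
    have e : x ^ (m + 1) * g * (x ^ (m + 1))⁻¹ = x * (x ^ m * g * (x ^ m)⁻¹) * x⁻¹ := by
      rw [pow_succ']; group
    rw [e]; exact this

/-- Invariance under conjugation by `x` passes to elements of `⟨x⟩` (finite order). -/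
theorem conj_mem_of_mem_zpowers [Finite G] (R : Subgroup G) (x : G)
    (hx : ∀ g ∈ R, x * g * x⁻¹ ∈ R) {y : G} (hy : y ∈ Subgroup.zpowers x) :
    ∀ g ∈ R, y * g * y⁻¹ ∈ R := by
  have hy' : y ∈ Submonoid.powers x := (isOfFinOrder_of_finite x).mem_powers_iff_mem_zpowers.mpr hy
  obtain ⟨m, rfl⟩ := hy'
  exact conj_pow_mem R x hx m

/-- Coprime trick: if `a x a⁻¹ = x z` with `a z = z a`, `a^m = 1`, `z^k = 1`, `(m,k) = 1`, then
`z = 1`. -/
theorem eq_one_of_conj_eq_mul (a x z : G) (hz : a * x * a⁻¹ = x * z) (hc : a * z = z * a)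
    {m k : ℕ} (ha : a ^ m = 1) (hzk : z ^ k = 1) (hcop : Nat.Coprime m k) : z = 1 := by
  have hiter : ∀ i : ℕ, a ^ i * x * (a ^ i)⁻¹ = x * z ^ i := by
    intro i
    induction i with
    | zero => simp
    | succ i ih =>
      have hzi : a * z ^ i * a⁻¹ = z ^ i := by
        have : Commute a (z ^ i) := (show Commute a z from hc).pow_right i
        rw [this.eq, mul_assoc, mul_inv_cancel, mul_one]
      calc a ^ (i + 1) * x * (a ^ (i + 1))⁻¹ = a * (a ^ i * x * (a ^ i)⁻¹) * a⁻¹ := by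
            rw [pow_succ']; group
        _ = (a * x * a⁻¹) * (a * z ^ i * a⁻¹) := by rw [ih]; group
        _ = x * z ^ (i + 1) := by rw [hz, hzi, pow_succ', mul_assoc]
  have h := hiter m
  rw [ha, one_mul, inv_one, mul_one] at h
  have hzm : z ^ m = 1 := by
    have := congrArg (fun t => x⁻¹ * t) h
    simpa using this.symm
  have hd : orderOf z ∣ Nat.gcd m k :=
    Nat.dvd_gcd (orderOf_dvd_of_pow_eq_one hzm) (orderOf_dvd_of_pow_eq_one hzk)
  rw [hcop] at hd
  exact orderOf_eq_one_iff.mp (Nat.dvd_one.mp hd)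

theorem centralizer_le_center_of_minimal [Finite G] (p q : ℕ) [hp : Fact p.Prime]
    [hq : Fact q.Prime] (hpq : p ≠ q) (Q : Subgroup G) (hQ : IsPGroup q Q) (x x₀ : G)
    (hx : ∀ g ∈ Q, x * g * x⁻¹ ∈ Q) (hx₀ : x₀ ∈ Subgroup.zpowers x) (hx₀p : ∃ k, x₀ ^ (p ^ k) = 1)
    (hmin : ∀ R : Subgroup G, R < Q → (∀ g ∈ R, x * g * x⁻¹ ∈ R) → ∀ g ∈ R, x₀ * g = g * x₀)
    (hnc : ∃ g ∈ Q, x₀ * g ≠ g * x₀) :
    ∀ c ∈ Q, x₀ * c = c * x₀ → ∀ g ∈ Q, c * g = g * c := by
  obtain ⟨k₀, hk₀⟩ := hx₀p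
  have hxx₀ : x * x₀ = x₀ * x := by
    obtain ⟨i, rfl⟩ := Subgroup.mem_zpowers_iff.mp hx₀
    exact ((Commute.refl x).zpow_right i).eq
  have hx₀Q : ∀ g ∈ Q, x₀ * g * x₀⁻¹ ∈ Q := conj_mem_of_mem_zpowers Q x hx hx₀
  -- the centraliser of `x₀` in `Q`
  set C : Subgroup G := Q ⊓ Subgroup.centralizer ({x₀} : Set G) with hC
  have hCmem : ∀ g, g ∈ C ↔ g ∈ Q ∧ x₀ * g = g * x₀ := by
    intro g
    rw [hC, Subgroup.mem_inf, Subgroup.mem_centralizer_singleton_iff]
    constructor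
    · rintro ⟨h1, h2⟩; exact ⟨h1, h2.symm⟩
    · rintro ⟨h1, h2⟩; exact ⟨h1, h2.symm⟩
  have hCx : ∀ g ∈ C, x * g * x⁻¹ ∈ C := by
    intro g hg
    rw [hCmem] at hg ⊢
    refine ⟨hx g hg.1, ?_⟩
    calc x₀ * (x * g * x⁻¹) = x * (x₀ * g) * x⁻¹ := by
          rw [← mul_assoc, ← mul_assoc, ← hxx₀]; group
      _ = x * (g * x₀) * x⁻¹ := by rw [hg.2]
      _ = x * g * x⁻¹ * x₀ := by
          have : x₀ * x⁻¹ = x⁻¹ * x₀ := by
            have := congrArg (fun t => x⁻¹ * t * x⁻¹) hxx₀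
            simp only [mul_assoc, mul_inv_cancel, mul_one, inv_mul_cancel_left] at this
            exact this
          rw [mul_assoc x g, mul_assoc x (g * x₀), mul_assoc g x₀, this]; group
  have hCQ : C ≤ Q := inf_le_left
  have hCltQ : C < Q := by
    refine lt_of_le_of_ne hCQ ?_
    intro h
    obtain ⟨g, hg, hne⟩ := hnc
    rw [← h, hCmem] at hg
    exact hne hg.2
  -- `Q` normalises `C`
  have hQN : Q ≤ Subgroup.normalizer (C : Set G) := by
    by_contra hnot
    set N : Subgroup G := Q ⊓ Subgroup.normalizer (C : Set G) with hN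
    have hNQ : N < Q := lt_of_le_of_ne inf_le_left (fun h => hnot (h ▸ inf_le_right))
    have hNx : ∀ g ∈ N, x * g * x⁻¹ ∈ N := by
      intro g hg
      rw [hN, Subgroup.mem_inf] at hg ⊢
      refine ⟨hx g hg.1, ?_⟩
      rw [Subgroup.mem_normalizer_iff]
      intro c
      have hgn := Subgroup.mem_normalizer_iff.mp hg.2
      -- `c ∈ C ↔ x⁻¹ c x ∈ C`
      have hxinv : ∀ c, c ∈ C ↔ x⁻¹ * c * x ∈ C := by
        intro c
        constructor
        · intro hc
          have hxi : x⁻¹ ∈ Subgroup.zpowers x := Subgroup.inv_mem _ (Subgroup.mem_zpowers x)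
          have := conj_mem_of_mem_zpowers C x hCx hxi c hc
          simpa using this
        · intro hc
          have := hCx _ hc
          simpa [mul_assoc] using this
      have hxinv' : ∀ y, y ∈ C ↔ x * y * x⁻¹ ∈ C := by
        intro y
        have := hxinv (x * y * x⁻¹)
        have e : x⁻¹ * (x * y * x⁻¹) * x = y := by group
        rw [e] at this
        exact this.symm
      have e : x * g * x⁻¹ * c * (x * g * x⁻¹)⁻¹ = x * (g * (x⁻¹ * c * x) * g⁻¹) * x⁻¹ := by group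
      rw [e]
      exact (hxinv c).trans ((hgn _).trans (hxinv' _))
    have hcent := hmin N hNQ hNx
    -- normaliser condition inside `Q`
    have : Group.IsNilpotent ↥Q := hQ.isNilpotent
    have hnc' := Group.normalizerCondition_of_isNilpotent (G := ↥Q)
    have hlt : C.subgroupOf Q < ⊤ := by
      rw [lt_top_iff_ne_top]
      intro h
      rw [Subgroup.subgroupOf_eq_top] at h
      exact absurd (le_antisymm hCQ h) (ne_of_lt hCltQ)
    have h2 := hnc' _ hlt
    rw [← Subgroup.subgroupOf_normalizer_eq hCQ] at h2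
    obtain ⟨n, hn1, hn2⟩ := SetLike.exists_of_lt h2
    rw [Subgroup.mem_subgroupOf] at hn1 hn2
    apply hn2
    rw [hCmem]
    exact ⟨n.2, hcent _ (by rw [hN, Subgroup.mem_inf]; exact ⟨n.2, hn1⟩)⟩
  -- three subgroups lemma
  set Z : Subgroup G := Subgroup.zpowers x₀ with hZ
  have hCZ : ⁅C, Z⁆ = ⊥ := by
    rw [Subgroup.commutator_eq_bot_iff_le_centralizer]
    intro c hc
    rw [Subgroup.mem_centralizer_iff]
    intro z hz
    rw [hZ, SetLike.mem_coe] at hz
    obtain ⟨i, rfl⟩ := Subgroup.mem_zpowers_iff.mp hz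
    have h1 : Commute x₀ c := ((hCmem c).mp hc).2
    exact (h1.zpow_left i).eq
  have h1 : ⁅⁅Q, C⁆, Z⁆ = ⊥ := by
    rw [eq_bot_iff, ← hCZ]
    refine Subgroup.commutator_mono ?_ le_rfl
    rw [Subgroup.commutator_le]
    intro g hg c hc
    have hgn := Subgroup.mem_normalizer_iff.mp (hQN hg)
    rw [commutatorElement_def]
    have : g * c * g⁻¹ ∈ C := (hgn c).mp hc
    have := C.mul_mem this (C.inv_mem hc)
    simpa [mul_assoc] using this
  have h2 : ⁅⁅C, Z⁆, Q⁆ = ⊥ := by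
    rw [hCZ]
    rw [eq_bot_iff, Subgroup.commutator_le]
    intro g hg c _
    rw [Subgroup.mem_bot] at hg
    rw [hg, commutatorElement_def]
    simp
  have h3 : ⁅⁅Z, Q⁆, C⁆ = ⊥ := Subgroup.commutator_commutator_eq_bot_of_rotate h1 h2
  -- `[x₀, Q] = Q`
  have hRQ : ⁅Z, Q⁆ ≤ Q := by
    rw [Subgroup.commutator_le]
    intro z hz g hg
    rw [commutatorElement_def]
    have hzQ : z * g * z⁻¹ ∈ Q := by
      have hzx : z ∈ Subgroup.zpowers x := by
        obtain ⟨i, rfl⟩ := Subgroup.mem_zpowers_iff.mp hz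
        exact Subgroup.zpow_mem _ hx₀ i
      exact conj_mem_of_mem_zpowers Q x hx hzx g hg
    exact Q.mul_mem hzQ (Q.inv_mem hg)
  have hRx : ∀ g ∈ ⁅Z, Q⁆, x * g * x⁻¹ ∈ ⁅Z, Q⁆ := by
    intro g hg
    have hmap : (⁅Z, Q⁆).map (MulAut.conj x).toMonoidHom ≤ ⁅Z, Q⁆ := by
      rw [Subgroup.map_commutator]
      refine Subgroup.commutator_mono ?_ ?_
      · rintro _ ⟨z, hz, rfl⟩
        obtain ⟨i, rfl⟩ := Subgroup.mem_zpowers_iff.mp hz
        show x * x₀ ^ i * x⁻¹ ∈ Z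
        have : x * x₀ ^ i * x⁻¹ = x₀ ^ i := by
          have hc : Commute x (x₀ ^ i) := (show Commute x x₀ from hxx₀).zpow_right i
          rw [hc.eq, mul_assoc, mul_inv_cancel, mul_one]
        rw [this]
        exact Subgroup.zpow_mem _ (Subgroup.mem_zpowers x₀) i
      · rintro _ ⟨g, hg, rfl⟩
        exact hx g hg
    exact hmap ⟨g, hg, rfl⟩
  have hReq : ⁅Z, Q⁆ = Q := by
    by_contra hne
    have hlt : ⁅Z, Q⁆ < Q := lt_of_le_of_ne hRQ hne
    have hcent := hmin _ hlt hRx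
    obtain ⟨g, hg, hgne⟩ := hnc
    apply hgne
    -- `z = g⁻¹ (x₀ g x₀⁻¹)` lies in `[Z, Q]`, hence commutes with `x₀`
    set z : G := g⁻¹ * (x₀ * g * x₀⁻¹) with hz
    have hzR : z ∈ ⁅Z, Q⁆ := by
      have : z = ⁅g⁻¹, x₀⁆ := by rw [commutatorElement_def, hz]; group
      rw [this, Subgroup.commutator_comm]
      exact Subgroup.commutator_mem_commutator (Q.inv_mem hg) (Subgroup.mem_zpowers x₀)
    have hzc : x₀ * z = z * x₀ := hcent z hzR
    obtain ⟨j, hj⟩ := hQ ⟨z, hRQ hzR⟩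
    have hzj : z ^ (q ^ j) = 1 := congrArg Subtype.val hj
    have hcop : Nat.Coprime (p ^ k₀) (q ^ j) :=
      Nat.Coprime.pow _ _ ((Nat.coprime_primes hp.out hq.out).mpr hpq)
    have hz1 : z = 1 := eq_one_of_conj_eq_mul x₀ g z (by rw [hz]; group) hzc hk₀ hzj hcop
    have : x₀ * g * x₀⁻¹ = g := by
      have := congrArg (fun t => g * t) hz1
      simpa [hz] using this
    calc x₀ * g = x₀ * g * x₀⁻¹ * x₀ := by group
      _ = g * x₀ := by rw [this]
  intro c hc hcx g hg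
  have hcC : c ∈ C := (hCmem c).mpr ⟨hc, hcx⟩
  have hle := Subgroup.commutator_eq_bot_iff_le_centralizer.mp h3
  have hgR : g ∈ ⁅Z, Q⁆ := by rw [hReq]; exact hg
  have := Subgroup.mem_centralizer_iff.mp (hle hgR) c hcC
  exact this

end Cfsg.Agent.Lib.Helper63.HHGroup
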