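import Mathlib
import Cfsg.Agent.Lib.Helper63.HHGroup
import Cfsg.Agent.Lib.Helper63.HHCore1
import Cfsg.Agent.Lib.Helper63.HHCritLA

/-!
# Sections of the shape `C_p ≀ C_p`

* `IsWr p W`: the abstract description of `C_p ≀ C_p` used in the statements.
* `IsWr.of_mulEquiv`: transport along an isomorphism.
* `isWr_quotient`: a group `K = N⟨g⟩` with a surjection `N → F_p^p` which is equivariant for
  conjugation by `g` and `1 + shift` has a quotient of the shape `C_p ≀ C_p`.
* `exists_block_quotient`: a unipotent operator of order `p` with a Jordan block of size `p` has a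
  quotient which is a single block of size `p`.
-/

set_option autoImplicit false
set_option linter.unusedSectionVars false
set_option linter.style.haveILetI false

namespace Cfsg.Agent.Lib.Helper63.WreathSec

open Cfsg.Agent.Lib.Helper63

/-- `W` looks like `C_p ≀ C_p`. -/
def IsWr (p : ℕ) (W : Type*) [Group W] : Prop :=
  ∃ (B : Subgroup W) (t : W), B.Normal ∧ IsMulCommutative B ∧ (∀ b ∈ B, b ^ p = 1) ∧
    Nat.card B = p ^ p ∧ orderOf t = p ∧ t ∉ B ∧ Nat.card W = p ^ (p + 1) ∧
    Nat.card ↥(B ⊓ Subgroup.centralizer ({t} : Set W)) = p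

theorem IsWr.of_mulEquiv {p : ℕ} {W W' : Type*} [Group W] [Group W'] (e : W ≃* W')
    (h : IsWr p W) : IsWr p W' := by
  obtain ⟨B, t, hBn, hBc, hBp, hBcard, ht, htB, hW, hC⟩ := h
  refine ⟨B.map e.toMonoidHom, e t, ?_, ?_, ?_, ?_, ?_, ?_, ?_, ?_⟩
  · exact hBn.map _ e.surjective
  · refine ⟨⟨?_⟩⟩
    rintro ⟨_, a, ha, rfl⟩ ⟨_, b, hb, rfl⟩
    apply Subtype.ext
    show e a * e b = e b * e a
    have := hBc.is_comm.comm (⟨a, ha⟩ : B) ⟨b, hb⟩
    have h2 : a * b = b * a := congrArg Subtype.val this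
    rw [← map_mul, ← map_mul, h2]
  · rintro _ ⟨b, hb, rfl⟩
    show (e b) ^ p = 1
    rw [← map_pow, hBp b hb, map_one]
  · rw [Subgroup.card_map_of_injective e.injective]
    exact hBcard
  · rw [← ht]
    exact e.orderOf_eq t
  · rintro ⟨b, hb, hbt⟩
    have : b = t := e.injective hbt
    exact htB (this ▸ hb)
  · rw [← hW]
    exact Nat.card_congr e.symm.toEquiv
  · have : B.map e.toMonoidHom ⊓ Subgroup.centralizer {e t} =
        (B ⊓ Subgroup.centralizer {t}).map e.toMonoidHom := by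
      ext y
      constructor
      · intro hy0
        obtain ⟨⟨b, hb, rfl⟩, hy⟩ := Subgroup.mem_inf.mp hy0
        refine ⟨b, Subgroup.mem_inf.mpr ⟨hb, ?_⟩, rfl⟩
        rw [Subgroup.mem_centralizer_singleton_iff] at hy ⊢
        apply e.injective
        rw [map_mul, map_mul]
        exact hy
      · rintro ⟨b, hb0, rfl⟩
        obtain ⟨hb, hbt⟩ := Subgroup.mem_inf.mp hb0
        refine Subgroup.mem_inf.mpr ⟨⟨b, hb, rfl⟩, ?_⟩
        rw [Subgroup.mem_centralizer_singleton_iff] at hbt ⊢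
        show e b * e t = e t * e b
        rw [← map_mul, ← map_mul, hbt]
    rw [this, Subgroup.card_map_of_injective e.injective]
    exact hC

/-- The left shift on `F_p^p`. -/
def shiftL (p : ℕ) : (Fin p → ZMod p) →+ (Fin p → ZMod p) where
  toFun f j := if h : (j : ℕ) + 1 < p then f ⟨(j : ℕ) + 1, h⟩ else 0
  map_zero' := by
    funext j
    by_cases h : (j : ℕ) + 1 < p <;> simp [h]
  map_add' f g := by
    funext j
    by_cases h : (j : ℕ) + 1 < p <;> simp [h]

theorem shiftL_apply (p : ℕ) (f : Fin p → ZMod p) (j : Fin p) :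
    shiftL p f j = if h : (j : ℕ) + 1 < p then f ⟨(j : ℕ) + 1, h⟩ else 0 := rfl

section Quot

variable {K : Type*} [Group K] [Finite K]

theorem isWr_quotient (p : ℕ) [hp : Fact p.Prime]
    (N : Subgroup K) [hNn : N.Normal] (g : K) (hgN : g ∉ N)
    (hgen : N ⊔ Subgroup.zpowers g = ⊤)
    (φ : ↥N →* Multiplicative (Fin p → ZMod p)) (hφ : Function.Surjective φ)
    (hgp : ∃ h : g ^ p ∈ N, φ ⟨g ^ p, h⟩ = 1)
    (hconj : ∀ v : ↥N, (φ ⟨g * v * g⁻¹, hNn.conj_mem v v.2 g⟩).toAdd =
      (φ v).toAdd + shiftL p (φ v).toAdd) :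
    ∃ (R : Subgroup K) (_ : R.Normal), IsWr p (K ⧸ R) := by
  classical
  set R : Subgroup K := φ.ker.map N.subtype with hR
  have hRN : R ≤ N := by
    rintro _ ⟨v, _, rfl⟩
    exact v.2
  have hRmem : ∀ k : K, k ∈ R ↔ ∃ h : k ∈ N, φ ⟨k, h⟩ = 1 := by
    intro k
    constructor
    · rintro ⟨v, hv, rfl⟩
      exact ⟨v.2, hv⟩
    · rintro ⟨h, hk⟩
      exact ⟨⟨k, h⟩, hk, rfl⟩
  have hRconjN : ∀ n ∈ N, ∀ r ∈ R, n * r * n⁻¹ ∈ R := by
    intro n hn r hr
    obtain ⟨h, hk⟩ := (hRmem r).mp hr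
    rw [hRmem]
    refine ⟨hNn.conj_mem r h n, ?_⟩
    have e : (⟨n * r * n⁻¹, hNn.conj_mem r h n⟩ : N) = ⟨n, hn⟩ * ⟨r, h⟩ * ⟨n, hn⟩⁻¹ := rfl
    rw [e, map_mul, map_mul, hk, mul_one, map_inv, mul_inv_cancel]
  have hRconjg : ∀ r ∈ R, g * r * g⁻¹ ∈ R := by
    intro r hr
    obtain ⟨h, hk⟩ := (hRmem r).mp hr
    rw [hRmem]
    refine ⟨hNn.conj_mem r h g, ?_⟩
    have := hconj ⟨r, h⟩
    rw [hk, toAdd_one, map_zero, add_zero] at this
    exact Multiplicative.toAdd.injective this
  have hRn : R.Normal := by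
    constructor
    intro r hr k
    have hk : k ∈ N ⊔ Subgroup.zpowers g := by rw [hgen]; trivial
    rw [← SetLike.mem_coe, Subgroup.normal_mul] at hk
    obtain ⟨n, hn, y, hy, rfl⟩ := hk
    have h1 := HHGroup.conj_mem_of_mem_zpowers R g hRconjg hy r hr
    have h2 := hRconjN n hn _ h1
    have e : n * y * r * (n * y)⁻¹ = n * (y * r * y⁻¹) * n⁻¹ := by group
    rw [e]
    exact h2
  refine ⟨R, hRn, ?_⟩
  set mk : K →* K ⧸ R := QuotientGroup.mk' R with hmk
  have hmk1 : ∀ k, mk k = 1 ↔ k ∈ R := fun k => QuotientGroup.eq_one_iff k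
  have hkerle : ∀ v : ↥N, φ v = 1 → mk v = 1 := fun v hv =>
    (hmk1 _).mpr ((hRmem _).mpr ⟨v.2, hv⟩)
  set ι : Multiplicative (Fin p → ZMod p) →* K ⧸ R :=
    (φ.liftOfRightInverse (Function.surjInv hφ) (Function.rightInverse_surjInv hφ))
      ⟨mk.comp N.subtype, fun v hv => hkerle v hv⟩ with hι
  have hιφ : ∀ v : ↥N, ι (φ v) = mk v := fun v =>
    MonoidHom.liftOfRightInverse_comp_apply φ _ (Function.rightInverse_surjInv hφ)
      ⟨mk.comp N.subtype, fun v hv => hkerle v hv⟩ v
  have hιinj : Function.Injective ι := by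
    rw [injective_iff_map_eq_one]
    intro x hx
    obtain ⟨v, rfl⟩ := hφ x
    rw [hιφ, hmk1, hRmem] at hx
    obtain ⟨h, hk⟩ := hx
    exact hk
  set B : Subgroup (K ⧸ R) := ι.range with hB
  have hBeq : B = N.map mk := by
    ext y
    constructor
    · rintro ⟨x, rfl⟩
      obtain ⟨v, rfl⟩ := hφ x
      exact ⟨v, v.2, (hιφ v).symm⟩
    · rintro ⟨k, hk, rfl⟩
      exact ⟨φ ⟨k, hk⟩, hιφ ⟨k, hk⟩⟩
  have hBn : B.Normal := by
    rw [hBeq]
    exact hNn.map mk (QuotientGroup.mk'_surjective R)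
  set t : K ⧸ R := mk g with ht
  have htB : t ∉ B := by
    rw [hBeq]
    rintro ⟨k, hk, hkt⟩
    have h1 : k⁻¹ * g ∈ R := by
      rw [← hmk1, map_mul, map_inv, hkt, ht, inv_mul_cancel]
    have h2 := N.mul_mem hk (hRN h1)
    rw [mul_inv_cancel_left] at h2
    exact hgN h2
  have htp : t ^ p = 1 := by
    obtain ⟨h, hk⟩ := hgp
    rw [ht, ← map_pow, hmk1, hRmem]
    exact ⟨h, hk⟩
  have ht1 : t ≠ 1 := fun h => htB (h ▸ B.one_mem)
  have hord : orderOf t = p := orderOf_eq_prime htp ht1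
  have hconj' : ∀ x : Multiplicative (Fin p → ZMod p),
      t * ι x * t⁻¹ = ι (Multiplicative.ofAdd (x.toAdd + shiftL p x.toAdd)) := by
    intro x
    obtain ⟨v, rfl⟩ := hφ x
    rw [hιφ, ht, ← map_inv, ← map_mul, ← map_mul]
    have h1 := hιφ ⟨g * v * g⁻¹, hNn.conj_mem v v.2 g⟩
    rw [← hconj v, ofAdd_toAdd, h1]
  have hEcard : Nat.card (Multiplicative (Fin p → ZMod p)) = p ^ p := by
    rw [Nat.card_congr Multiplicative.toAdd, Nat.card_fun, Nat.card_zmod, Nat.card_fin]
  have hBcard : Nat.card B = p ^ p := by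
    rw [← hEcard]
    exact (Nat.card_congr (MonoidHom.ofInjective hιinj).toEquiv).symm
  have hBc : IsMulCommutative B := ⟨⟨by
    rintro ⟨_, x, rfl⟩ ⟨_, y, rfl⟩
    apply Subtype.ext
    show ι x * ι y = ι y * ι x
    rw [← map_mul, ← map_mul, mul_comm]⟩⟩
  have hBp : ∀ b ∈ B, b ^ p = 1 := by
    rintro _ ⟨x, rfl⟩
    rw [← map_pow]
    have : x ^ p = 1 := by
      apply Multiplicative.toAdd.injective
      rw [toAdd_pow, toAdd_one]
      funext j
      rw [Pi.smul_apply, Pi.zero_apply, nsmul_eq_mul, CharP.cast_eq_zero, zero_mul]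
    rw [this, map_one]
  have hsup : B ⊔ Subgroup.zpowers t = ⊤ := by
    have := congrArg (Subgroup.map mk) hgen
    rw [Subgroup.map_sup, MonoidHom.map_zpowers, ← hBeq] at this
    rw [this]
    exact Subgroup.map_top_of_surjective mk (QuotientGroup.mk'_surjective R)
  have hWcard : Nat.card (K ⧸ R) = p ^ (p + 1) := by
    rw [← Subgroup.card_mul_index B, hBcard, pow_succ]
    congr 1
    rw [Subgroup.index_eq_card]
    have htop : (⊤ : Subgroup ((K ⧸ R) ⧸ B)) = Subgroup.zpowers (QuotientGroup.mk' B t) := by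
      have := congrArg (Subgroup.map (QuotientGroup.mk' B)) hsup
      rw [Subgroup.map_sup, MonoidHom.map_zpowers, QuotientGroup.map_mk'_self, bot_sup_eq,
        Subgroup.map_top_of_surjective _ (QuotientGroup.mk'_surjective B)] at this
      exact this.symm
    rw [← Subgroup.card_top, htop, Nat.card_zpowers]
    apply orderOf_eq_prime
    · rw [← map_pow, htp, map_one]
    · intro h
      exact htB ((QuotientGroup.eq_one_iff t).mp h)
  -- the centraliser of `t` in `B`
  let E₀ : Subgroup (Multiplicative (Fin p → ZMod p)) :=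
    { carrier := {x | shiftL p x.toAdd = 0}
      one_mem' := map_zero _
      mul_mem' := by
        intro a b ha hb
        show shiftL p (a.toAdd + b.toAdd) = 0
        rw [map_add, show shiftL p a.toAdd = 0 from ha, show shiftL p b.toAdd = 0 from hb,
          add_zero]
      inv_mem' := by
        intro a ha
        show shiftL p (- a.toAdd) = 0
        rw [map_neg, show shiftL p a.toAdd = 0 from ha, neg_zero] }
  have hE₀mem : ∀ x, x ∈ E₀ ↔ shiftL p x.toAdd = 0 := fun x => Iff.rfl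
  have hCeq : B ⊓ Subgroup.centralizer {t} = E₀.map ι := by
    ext y
    constructor
    · intro hy0
      obtain ⟨⟨x, rfl⟩, hy⟩ := Subgroup.mem_inf.mp hy0
      rw [Subgroup.mem_centralizer_singleton_iff] at hy
      refine ⟨x, ?_, rfl⟩
      have h1 : t * ι x * t⁻¹ = ι x := by rw [← hy, mul_assoc, mul_inv_cancel, mul_one]
      rw [hconj' x] at h1
      have h2 := hιinj h1
      have h3 : x.toAdd + shiftL p x.toAdd = x.toAdd := congrArg Multiplicative.toAdd h2
      refine (hE₀mem x).mpr ?_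
      exact add_left_cancel (a := x.toAdd) (by rw [h3, add_zero])
    · rintro ⟨x, hx, rfl⟩
      refine Subgroup.mem_inf.mpr ⟨⟨x, rfl⟩, ?_⟩
      rw [Subgroup.mem_centralizer_singleton_iff]
      have h1 := hconj' x
      rw [(hE₀mem x).mp hx, add_zero, ofAdd_toAdd] at h1
      calc ι x * t = t * ι x * t⁻¹ * t := by rw [h1]
        _ = t * ι x := by group
  have hE₀card : Nat.card E₀ = p := by
    have hp0 : 0 < p := hp.out.pos
    let e : E₀ ≃ ZMod p :=
      { toFun := fun x => x.1.toAdd ⟨0, hp0⟩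
        invFun := fun c => ⟨Multiplicative.ofAdd (Pi.single ⟨0, hp0⟩ c), by
          rw [hE₀mem, toAdd_ofAdd]
          funext j
          rw [shiftL_apply]
          by_cases h : (j : ℕ) + 1 < p
          · rw [dif_pos h, Pi.single_apply, if_neg]
            · rfl
            · intro h0
              have := congrArg Fin.val h0
              simp at this
          · rw [dif_neg h]; rfl⟩
        left_inv := by
          rintro ⟨x, hx⟩
          apply Subtype.ext
          apply Multiplicative.toAdd.injective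
          show Pi.single ⟨0, hp0⟩ (x.toAdd ⟨0, hp0⟩) = x.toAdd
          funext j
          rw [Pi.single_apply]
          by_cases hj : j = ⟨0, hp0⟩
          · rw [if_pos hj, hj]
          · rw [if_neg hj]
            have hj' : (j : ℕ) ≠ 0 := fun h0 => hj (Fin.ext h0)
            obtain ⟨j', hj''⟩ : ∃ j' : ℕ, (j : ℕ) = j' + 1 := ⟨(j : ℕ) - 1, by omega⟩
            have hlt : j' + 1 < p := by rw [← hj'']; exact j.2
            have h1 := congrFun ((hE₀mem x).mp hx) ⟨j', by omega⟩
            rw [shiftL_apply, dif_pos hlt] at h1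
            have : j = ⟨j' + 1, hlt⟩ := Fin.ext hj''
            rw [this]
            exact h1.symm
        right_inv := by
          intro c
          show (Pi.single (⟨0, hp0⟩ : Fin p) c : Fin p → ZMod p) ⟨0, hp0⟩ = c
          rw [Pi.single_eq_same] }
    rw [Nat.card_congr e, Nat.card_zmod]
  refine ⟨B, t, hBn, hBc, hBp, hBcard, hord, htB, hWcard, ?_⟩
  rw [hCeq, Subgroup.card_map_of_injective hιinj]
  exact hE₀card

end Quot

section Block

variable {p : ℕ} [hp : Fact p.Prime] {M : Type*} [AddCommGroup M] [Module (ZMod p) M]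

/-- A unipotent operator `T` of order `p` with `(T - 1)^(p-1) ≠ 0` has a quotient which is a single
Jordan block of size `p`; moreover a given fixed vector `z` can be moved into the kernel by adding
a multiple of `(T - 1)^(p-1) m₀`. -/
theorem exists_block_quotient (T : Module.End (ZMod p) M) (hT : T ^ p = 1)
    (hN : (T - 1) ^ (p - 1) ≠ 0) (z : M) (hz : T z = z) :
    ∃ (Λ : M →ₗ[ZMod p] (Fin p → ZMod p)) (m₀ : M) (c : ZMod p), Function.Surjective Λ ∧
      (∀ m, Λ (T m) = Λ m + shiftL p (Λ m)) ∧ Λ (z + c • ((T - 1) ^ (p - 1)) m₀) = 0 := by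
  classical
  have hp1 : 1 ≤ p := hp.out.pos
  set N : Module.End (ZMod p) M := T - 1 with hNdef
  have hNp : N ^ p = 0 := by
    have := HHCore1.sub_one_pow_char_pow (ZMod p) p T 1
    rw [pow_one, hT, sub_self] at this
    exact this
  have hNz : N z = 0 := by
    rw [hNdef, LinearMap.sub_apply, Module.End.one_apply, hz, sub_self]
  obtain ⟨m₀, hm₀⟩ : ∃ m₀, (N ^ (p - 1)) m₀ ≠ 0 := by
    by_contra hcon
    push Not at hcon
    exact hN (LinearMap.ext hcon)
  obtain ⟨l, hl⟩ : ∃ l : Module.Dual (ZMod p) M, l ((N ^ (p - 1)) m₀) ≠ 0 := by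
    by_contra hcon
    push Not at hcon
    exact hm₀ ((Module.forall_dual_apply_eq_zero_iff (ZMod p) _).mp hcon)
  set Λ : M →ₗ[ZMod p] (Fin p → ZMod p) :=
    LinearMap.pi (fun j : Fin p => l ∘ₗ (N ^ (j : ℕ))) with hΛ
  have hΛapp : ∀ m (j : Fin p), Λ m j = l ((N ^ (j : ℕ)) m) := fun m j => rfl
  have hpow_ge : ∀ k, p ≤ k → N ^ k = 0 := by
    intro k hk
    obtain ⟨e, rfl⟩ := Nat.exists_eq_add_of_le hk
    rw [pow_add, hNp, zero_mul]
  have hΛN : ∀ m, Λ (N m) = shiftL p (Λ m) := by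
    intro m
    funext j
    rw [hΛapp, shiftL_apply, ← Module.End.mul_apply, ← pow_succ]
    by_cases h : (j : ℕ) + 1 < p
    · rw [dif_pos h, hΛapp]
    · rw [dif_neg h, hpow_ge _ (by omega), LinearMap.zero_apply, map_zero]
  have hequiv : ∀ m, Λ (T m) = Λ m + shiftL p (Λ m) := by
    intro m
    have : T m = m + N m := by
      rw [hNdef, LinearMap.sub_apply, Module.End.one_apply]; abel
    rw [this, map_add, hΛN]
  -- surjectivity
  have hsurj : ∀ k : ℕ, k ≤ p → ∀ f : Fin p → ZMod p, (∀ j : Fin p, k ≤ (j : ℕ) → f j = 0) →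
      ∃ m, Λ m = f := by
    intro k
    induction k with
    | zero =>
      intro _ f hf
      refine ⟨0, ?_⟩
      rw [map_zero]
      funext j
      exact (hf j (Nat.zero_le _)).symm
    | succ k ih =>
      intro hk f hf
      have hkp : k < p := hk
      set a : ZMod p := f ⟨k, hkp⟩ / l ((N ^ (p - 1)) m₀) with ha
      set f' : Fin p → ZMod p := f - a • Λ ((N ^ (p - 1 - k)) m₀) with hf'
      obtain ⟨m', hm'⟩ := ih (by omega) f' (by
        intro j hj
        rw [hf', Pi.sub_apply, Pi.smul_apply, hΛapp, ← Module.End.mul_apply, ← pow_add]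
        rcases Nat.lt_or_ge k (j : ℕ) with hlt | hge
        · rw [hf j hlt, hpow_ge _ (by omega), LinearMap.zero_apply, map_zero, smul_zero, sub_zero]
        · have hjk : (j : ℕ) = k := le_antisymm hge hj
          have hj' : j = ⟨k, hkp⟩ := Fin.ext hjk
          rw [hjk, show k + (p - 1 - k) = p - 1 by omega, hj', ha, smul_eq_mul,
            div_mul_cancel₀ _ hl, sub_self])
      refine ⟨m' + a • (N ^ (p - 1 - k)) m₀, ?_⟩
      rw [map_add, hm', map_smul, hf']
      abel
  refine ⟨Λ, m₀, - (l z / l ((N ^ (p - 1)) m₀)), ?_, hequiv, ?_⟩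
  · intro f
    exact hsurj p le_rfl f (fun j hj => absurd j.2 (not_lt.mpr hj))
  · funext j
    rw [map_add, map_smul, Pi.add_apply, Pi.smul_apply, hΛapp, hΛapp, Pi.zero_apply]
    by_cases hj : (j : ℕ) = 0
    · rw [hj, pow_zero, Module.End.one_apply, Module.End.one_apply, smul_eq_mul, neg_mul,
        div_mul_cancel₀ _ hl, add_neg_cancel]
    · obtain ⟨j', hj'⟩ : ∃ j' : ℕ, (j : ℕ) = j' + 1 := ⟨(j : ℕ) - 1, by omega⟩
      have h1 : (N ^ (j : ℕ)) z = 0 := by
        rw [hj', pow_succ, Module.End.mul_apply, hNz, map_zero]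
      have h2 : (N ^ (j : ℕ)) ((N ^ (p - 1)) m₀) = 0 := by
        rw [← Module.End.mul_apply, ← pow_add, hpow_ge _ (by omega), LinearMap.zero_apply]
      rw [h1, h2, map_zero, smul_zero, add_zero]

end Block

end Cfsg.Agent.Lib.Helper63.WreathSec
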