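import Mathlib
import Cfsg.Agent.Lib.Helper63.HHCore1

/-!
# The critical case of Theorem B, in representation form

`critical`: `G = Q⟨x⟩`, `V` irreducible for `G`, elements of `Q` whose image commutes with
`ρ(x^(p^(n-1)))` act as scalars.  Then the nilpotency index `s` of `ρ x - 1` is at least `p^n - 1`,
and if `s = p^n - 1` then `p^n - 1` is a positive power of `q`.
-/

set_option autoImplicit false
set_option linter.unusedSectionVars false
set_option linter.style.haveILetI false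

namespace Cfsg.Agent.Lib.Helper63.HHCore2

open Module Cfsg.Agent.Lib.Helper2 Cfsg.Agent.Lib.Helper63 Cfsg.Agent.Lib.Helper63.HHCore1

section Maschke

variable {K : Type*} [Field K] {G : Type*} [Group G] [Finite G]
  {V : Type*} [AddCommGroup V] [Module K V]

/-- If the only endomorphisms commuting with `ρ(Q)` are scalars (and `|Q|` is invertible), then
`V` is irreducible for `Q`. -/
theorem irreducible_of_fixed_scalar (ρ : Representation K G V) (Q : Subgroup G)
    (hQK : (Nat.card ↥Q : K) ≠ 0)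
    (hD : ∀ φ : Module.End K V, (∀ g ∈ Q, ρ g * φ = φ * ρ g) → ∃ c : K, φ = c • 1)
    (W : Submodule K V) (hW : ∀ g ∈ Q, W.map (ρ g) ≤ W) : W = ⊥ ∨ W = ⊤ := by
  classical
  haveI : Fintype ↥Q := Fintype.ofFinite _
  by_cases hWb : W = ⊥
  · exact Or.inl hWb
  right
  obtain ⟨W', hc⟩ := Submodule.exists_isCompl W
  set π₀ : Module.End K V := W.projection W' hc with hπ₀
  set σ : Representation K G (Module.End K V) := Representation.linHom ρ ρ with hσdef
  have hσ : ∀ g (ψ : Module.End K V), σ g ψ = ρ g * ψ * ρ g⁻¹ := by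
    intro g ψ
    rw [hσdef, Representation.linHom_apply]
    rfl
  set π : Module.End K V := FrobFree.avg σ Q π₀ with hπ
  have hfix : ∀ g ∈ Q, ρ g * π = π * ρ g := by
    intro g hg
    have h1 : ρ g * π * ρ g⁻¹ = π := by
      have := FrobFree.avg_mem_fixedSub σ Q π₀ g hg
      rw [hσ] at this
      exact this
    calc ρ g * π = ρ g * π * ρ g⁻¹ * ρ g := by
          rw [mul_assoc _ (ρ g⁻¹), ← map_mul, inv_mul_cancel, map_one, mul_one]
      _ = π * ρ g := by rw [h1]
  obtain ⟨c, hcπ⟩ := hD π hfix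
  have hterm_mem : ∀ (n : ↥Q) (v : V), (σ (n : G) π₀) v ∈ W := by
    intro n v
    rw [hσ]
    exact hW n n.2 ⟨_, Submodule.projection_apply_mem hc _, rfl⟩
  have hterm_fix : ∀ (n : ↥Q) (w : V), w ∈ W → (σ (n : G) π₀) w = w := by
    intro n w hw
    rw [hσ]
    have h1 : ρ (n : G)⁻¹ w ∈ W := hW _ (Q.inv_mem n.2) ⟨w, hw, rfl⟩
    have h2 : π₀ (ρ (n : G)⁻¹ w) = ρ (n : G)⁻¹ w :=
      Submodule.projection_apply_left hc ⟨_, h1⟩
    show ρ (n : G) (π₀ (ρ (n : G)⁻¹ w)) = w
    rw [h2, ← Module.End.mul_apply, ← map_mul, mul_inv_cancel, map_one]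
    rfl
  have hπapply : ∀ v, π v = (Nat.card ↥Q : K)⁻¹ • ∑ n : ↥Q, (σ (n : G) π₀) v := by
    intro v
    rw [hπ, FrobFree.avg_apply, LinearMap.smul_apply, LinearMap.sum_apply]
  have hπmem : ∀ v, π v ∈ W := by
    intro v
    rw [hπapply]
    exact W.smul_mem _ (Submodule.sum_mem _ fun n _ => hterm_mem n v)
  have hπfix : ∀ w ∈ W, π w = w := by
    intro w hw
    rw [hπapply]
    simp_rw [fun n : ↥Q => hterm_fix n w hw]
    rw [Finset.sum_const, Finset.card_univ, ← Nat.card_eq_fintype_card,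
      ← Nat.cast_smul_eq_nsmul K, smul_smul, inv_mul_cancel₀ hQK, one_smul]
  obtain ⟨w, hw, hw0⟩ := (Submodule.ne_bot_iff W).mp hWb
  have hc1 : c = 1 := by
    have h1 := hπfix w hw
    rw [hcπ, LinearMap.smul_apply, Module.End.one_apply] at h1
    have : (c - 1) • w = 0 := by rw [sub_smul, h1, one_smul, sub_self]
    rcases smul_eq_zero.mp this with h | h
    · exact sub_eq_zero.mp h
    · exact absurd h hw0
  rw [eq_top_iff]
  intro v _
  have := hπmem v
  rwa [hcπ, hc1, one_smul, Module.End.one_apply] at this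

end Maschke

section Critical

variable {G : Type*} [Group G] [Finite G] (p q : ℕ) [hp : Fact p.Prime] [hq : Fact q.Prime]
  {K : Type*} [Field K] [IsAlgClosed K] [CharP K p]
  {V : Type*} [AddCommGroup V] [Module K V] [FiniteDimensional K V]

theorem critical [Nontrivial V] (hpq : p ≠ q) (Q : Subgroup G) [Q.Normal] (hQ : IsPGroup q Q) (x : G)
    (hgen : Q ⊔ Subgroup.zpowers x = ⊤) (n : ℕ) (hn : 1 ≤ n) (hord : orderOf x = p ^ n)
    (ρ : Representation K G V)
    (hirr : ∀ W : Submodule K V, (∀ g, W.map (ρ g) ≤ W) → W = ⊥ ∨ W = ⊤)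
    (hK2 : ∀ g ∈ Q, ρ g * ρ (x ^ p ^ (n - 1)) = ρ (x ^ p ^ (n - 1)) * ρ g → ∃ c : K, ρ g = c • 1)
    (hx1 : ρ x ≠ 1) (s : ℕ) (hs : (ρ x - 1) ^ s = 0) (hmin : ∀ k < s, (ρ x - 1) ^ k ≠ 0) :
    p ^ n - 1 ≤ s ∧ (s = p ^ n - 1 → ∃ b : ℕ, 1 ≤ b ∧ p ^ n - 1 = q ^ b) := by
  classical
  have hone : (1 : Module.End K V) ≠ 0 := one_ne_zero
  have hs1 : 1 ≤ s := by
    by_contra h0
    push Not at h0
    have : s = 0 := by omega
    rw [this, pow_zero] at hs
    exact hone hs
  have hP2 : 2 ≤ p ^ n := by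
    calc 2 ≤ p := hp.out.two_le
      _ = p ^ 1 := (pow_one p).symm
      _ ≤ p ^ n := Nat.pow_le_pow_right hp.out.pos hn
  set σ : Representation K G (Module.End K V) := Representation.linHom ρ ρ with hσdef
  have hσ : ∀ g (ψ : Module.End K V), σ g ψ = ρ g * ψ * ρ g⁻¹ := by
    intro g ψ
    rw [hσdef, Representation.linHom_apply]
    rfl
  -- the scalar subgroup
  haveI := QGroupIrrDim.scalarSubgroup_normal ρ
  set Zs : Subgroup G := QGroupIrrDim.scalarSubgroup ρ with hZs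
  have hZ : ∀ z ∈ Zs, σ z = 1 := by
    rintro z ⟨c, hc⟩
    refine LinearMap.ext fun ψ => ?_
    have hcomm : ρ z * ψ = ψ * ρ z := by
      rw [hc, smul_mul_assoc, one_mul, mul_smul_comm, mul_one]
    rw [hσ, hcomm, mul_assoc, ← map_mul, mul_inv_cancel, map_one, mul_one]
    rfl
  have : Group.IsNilpotent ↥Q := hQ.isNilpotent
  have hQK : (Nat.card ↥Q : K) ≠ 0 := by
    obtain ⟨m, hm⟩ := IsPGroup.iff_card.mp hQ
    rw [hm, Nat.cast_pow]
    apply pow_ne_zero
    intro h0
    have := (CharP.cast_eq_zero_iff K p q).mp h0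
    exact hpq ((Nat.prime_dvd_prime_iff_eq hp.out hq.out).mp this)
  have hxP : x ^ p ^ n = 1 := by rw [← hord]; exact pow_orderOf_eq_one x
  -- fixed-point-freeness
  have hfpf : ∀ h ∈ Subgroup.zpowers x, h ≠ 1 → ∀ g ∈ Q, (h * g * h⁻¹)⁻¹ * g ∈ Zs → g ∈ Zs := by
    intro h hh hh1 g hg hz
    obtain ⟨c, hc⟩ := hz
    have hρh : ρ h * ρ h⁻¹ = 1 := by rw [← map_mul, mul_inv_cancel, map_one]
    have hρh' : ρ h⁻¹ * ρ h = 1 := by rw [← map_mul, inv_mul_cancel, map_one]
    -- `ρ g * ρ h = c • (ρ h * ρ g)`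
    have h1 : ρ g * ρ h = c • (ρ h * ρ g) := by
      have e : g = (h * g * h⁻¹) * ((h * g * h⁻¹)⁻¹ * g) := by group
      have e2 : ρ g = c • ρ (h * g * h⁻¹) := by
        conv_lhs => rw [e, map_mul, hc]
        rw [mul_smul_comm, mul_one]
      conv_lhs => rw [e2]
      rw [smul_mul_assoc, ← map_mul, ← map_mul]
      congr 2
      group
    have hiter : ∀ k : ℕ, ρ g * ρ h ^ k = c ^ k • (ρ h ^ k * ρ g) := by
      intro k
      induction k with
      | zero => simp
      | succ k ih =>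
        calc ρ g * ρ h ^ (k + 1) = (ρ g * ρ h ^ k) * ρ h := by rw [pow_succ, mul_assoc]
          _ = c ^ k • (ρ h ^ k * (ρ g * ρ h)) := by rw [ih, smul_mul_assoc, mul_assoc]
          _ = c ^ (k + 1) • (ρ h ^ (k + 1) * ρ g) := by
              rw [h1, mul_smul_comm, smul_smul, ← mul_assoc, ← pow_succ, ← pow_succ]
    have hhP : h ^ p ^ n = 1 := by
      obtain ⟨i, rfl⟩ := Subgroup.mem_zpowers_iff.mp hh
      rw [← zpow_natCast, ← zpow_mul, mul_comm, zpow_mul, zpow_natCast, hxP, one_zpow]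
    have hcP : c ^ p ^ n = 1 := by
      have h2 := hiter (p ^ n)
      rw [← map_pow, hhP, map_one, mul_one, one_mul] at h2
      obtain ⟨v, hv⟩ := exists_ne (0 : V)
      have hgv : ρ g v ≠ 0 := fun h0 => hv (QGroupIrrDim.rho_injective ρ g (by rw [h0, map_zero]))
      have h3 : (1 - c ^ p ^ n) • ρ g v = 0 := by
        have := congrArg (fun f => f v) h2
        simp only [LinearMap.smul_apply] at this
        rw [sub_smul, one_smul, ← this, sub_self]
      rcases smul_eq_zero.mp h3 with h | h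
      · exact (sub_eq_zero.mp h).symm
      · exact absurd h hgv
    have hc1 : c = 1 := by
      have : (c - 1) ^ p ^ n = 0 := by rw [sub_pow_char_pow, hcP, one_pow, sub_self]
      exact sub_eq_zero.mp (pow_eq_zero_iff (pow_ne_zero _ hp.out.ne_zero) |>.mp this)
    rw [hc1, one_smul] at h1
    -- `ρ h` commutes with `ρ g`
    have hcomm : ρ g * ρ h = ρ h * ρ g := h1
    -- hence so does `ρ x₀`
    have hx0 := x0_mem_zpowers p x n hn hord h hh hh1
    obtain ⟨i, hi⟩ := Subgroup.mem_zpowers_iff.mp hx0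
    have hcomm0 : ρ g * ρ (x ^ p ^ (n - 1)) = ρ (x ^ p ^ (n - 1)) * ρ g := by
      have hfin : ∃ m : ℕ, h ^ m = x ^ p ^ (n - 1) := by
        have hx0' : x ^ p ^ (n - 1) ∈ Submonoid.powers h :=
          (isOfFinOrder_of_finite h).mem_powers_iff_mem_zpowers.mpr hx0
        exact hx0'
      obtain ⟨m, hm⟩ := hfin
      rw [← hm, map_pow]
      exact ((show Commute (ρ g) (ρ h) from hcomm).pow_right m).eq
    exact hK2 g hg hcomm0
  obtain ⟨E, hinv, hDE, hDE', hnorm, hdvd⟩ :=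
    HHCritGp2.exists_compl_free Q hQK x Zs hfpf σ hZ
  -- the key statement
  have hkey : ∀ φ : Module.End K V, φ * ρ x = ρ x * φ → ∃ c : K, ∀ v,
      (φ - c • (1 : Module.End K V)) v ∈
        LinearMap.range ((ρ x - 1) ^ (p ^ n - 1 - (s - 1))) := by
    intro φ hφ
    have hfix : σ x φ = φ := by
      rw [hσ, ← hφ, mul_assoc, ← map_mul, mul_inv_cancel, map_one, mul_one]
    obtain ⟨m₀, w, hm₀, hm₀x, hdec⟩ := hnorm φ hfix
    have hm₀Q : ∀ g ∈ Q, ρ g * m₀ = m₀ * ρ g := by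
      intro g hg
      have h1 := hm₀ g hg
      rw [hσ] at h1
      calc ρ g * m₀ = ρ g * m₀ * ρ g⁻¹ * ρ g := by
            rw [mul_assoc _ (ρ g⁻¹), ← map_mul, inv_mul_cancel, map_one, mul_one]
        _ = m₀ * ρ g := by rw [h1]
    have hm₀x' : ρ x * m₀ = m₀ * ρ x := by
      have h1 := hm₀x
      rw [hσ] at h1
      calc ρ x * m₀ = ρ x * m₀ * ρ x⁻¹ * ρ x := by
            rw [mul_assoc _ (ρ x⁻¹), ← map_mul, inv_mul_cancel, map_one, mul_one]
        _ = m₀ * ρ x := by rw [h1]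
    obtain ⟨c, hc⟩ := QGroupIrrDim.schur_scalar ρ hirr m₀
      (commute_of_gen ρ Q x hgen m₀ hm₀Q hm₀x')
    refine ⟨c, ?_⟩
    rw [← LinearMap.sum_apply, hord, HHCritLA.geom_sum_eq_sub_one_pow K p (σ x) n] at hdec
    have hu : ρ x = 1 + (ρ x - 1) := by abel
    have h1 : ρ x * ρ x⁻¹ = 1 := by rw [← map_mul, mul_inv_cancel, map_one]
    have h2 : ρ x⁻¹ * ρ x = 1 := by rw [← map_mul, inv_mul_cancel, map_one]
    have hN : (ρ x - 1) ^ ((s - 1) + 1) = 0 := by rw [Nat.sub_add_cancel hs1]; exact hs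
    have hshift := HHCritLA.shift_pow (ρ x - 1) (s - 1) hN (ρ x) (ρ x⁻¹) hu h1 h2 (σ x - 1)
      (fun ψ => by rw [LinearMap.sub_apply, hσ, Module.End.one_apply]) (p ^ n - 1) w
    intro v
    have h3 := hshift 0 v
    rw [pow_zero, Module.End.one_apply, zero_add] at h3
    have e : φ - c • (1 : Module.End K V) = ((σ x - 1) ^ (p ^ n - 1)) w := by
      rw [hdec, hc]; abel
    rw [e]
    exact h3
  have hcommN : ∀ φ : Module.End K V, φ * (ρ x - 1) = (ρ x - 1) * φ → φ * ρ x = ρ x * φ := by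
    intro φ h
    have : ρ x = (ρ x - 1) + 1 := by abel
    rw [this, mul_add, add_mul, h, mul_one, one_mul]
  have hN0 : ρ x - 1 ≠ 0 := fun h => hx1 (sub_eq_zero.mp h)
  have hpart1 : p ^ n - 1 ≤ s := by
    by_contra hlt
    push Not at hlt
    refine HHCritLA.false_of_small_index (ρ x - 1) s (p ^ n - 1 - (s - 1)) hs hmin hN0
      (by omega) ?_
    exact hkey (ρ x - 1) (hcommN _ rfl)
  refine ⟨hpart1, ?_⟩
  intro hsP
  have hd : p ^ n - 1 - (s - 1) = 1 := by omega
  have hfin : finrank K V = s := by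
    refine HHCritLA.finrank_eq_of_boundary (ρ x - 1) s hs hmin ?_
    intro φ hφ
    obtain ⟨c, hc⟩ := hkey φ (hcommN φ hφ)
    refine ⟨c, fun v => ?_⟩
    have := hc v
    rwa [hd, pow_one] at this
  -- the fixed algebra `D`
  set D : Submodule K (Module.End K V) := FrobFree.fixedSub σ Q with hD
  have hDmem : ∀ φ, φ ∈ D ↔ ∀ g ∈ Q, ρ g * φ = φ * ρ g := by
    intro φ
    rw [hD, FrobFree.mem_fixedSub]
    constructor
    · intro h g hg
      have h1 := h g hg
      rw [hσ] at h1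
      calc ρ g * φ = ρ g * φ * ρ g⁻¹ * ρ g := by
            rw [mul_assoc _ (ρ g⁻¹), ← map_mul, inv_mul_cancel, map_one, mul_one]
        _ = φ * ρ g := by rw [h1]
    · intro h g hg
      rw [hσ, h g hg, mul_assoc, ← map_mul, mul_inv_cancel, map_one, mul_one]
  have hDinv : ∀ φ ∈ D, σ x φ ∈ D := by
    intro φ hφ
    rw [hDmem] at hφ ⊢
    intro g hg
    rw [hσ]
    have hg' : x⁻¹ * g * x ∈ Q := by
      have := ‹Q.Normal›.conj_mem g hg x⁻¹
      rwa [inv_inv] at this
    have h1 := hφ _ hg'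
    have e1 : ρ g * (ρ x * φ * ρ x⁻¹) = ρ x * (ρ (x⁻¹ * g * x) * φ) * ρ x⁻¹ := by
      have : ρ g * ρ x = ρ x * ρ (x⁻¹ * g * x) := by
        rw [← map_mul, ← map_mul]; congr 1; group
      rw [← mul_assoc, ← mul_assoc, this]; simp only [mul_assoc]
    have e2 : ρ x * φ * ρ x⁻¹ * ρ g = ρ x * (φ * ρ (x⁻¹ * g * x)) * ρ x⁻¹ := by
      have : ρ x⁻¹ * ρ g = ρ (x⁻¹ * g * x) * ρ x⁻¹ := by
        rw [← map_mul, ← map_mul]; congr 1; group
      rw [mul_assoc (ρ x * φ), this]; simp only [mul_assoc]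
    rw [e1, e2, h1]
  set TD : Module.End K D := (σ x).restrict hDinv with hTD
  have hND : (TD - 1) ^ (p ^ n) = 0 := by
    apply LinearMap.ext
    intro φ
    apply Subtype.ext
    rw [coe_sub_one_pow_restrict, sub_one_pow_char_pow K p (σ x) n, ← map_pow, hxP, map_one,
      sub_self]
    rfl
  have hone_mem : (1 : Module.End K V) ∈ D := by
    rw [hDmem]; intro g _; rw [mul_one, one_mul]
  have hker : finrank K (LinearMap.ker (TD - 1)) ≤ 1 := by
    have h1mem : (⟨1, hone_mem⟩ : D) ∈ LinearMap.ker (TD - 1) := by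
      rw [LinearMap.mem_ker, LinearMap.sub_apply, Module.End.one_apply, sub_eq_zero]
      apply Subtype.ext
      show σ x 1 = 1
      rw [hσ, mul_one, ← map_mul, mul_inv_cancel, map_one]
    refine finrank_le_one (⟨⟨1, hone_mem⟩, h1mem⟩ : LinearMap.ker (TD - 1)) ?_
    intro w
    have hw := w.2
    rw [LinearMap.mem_ker, LinearMap.sub_apply, Module.End.one_apply, sub_eq_zero] at hw
    have hwx : σ x (w : D) = (w : D) := congrArg Subtype.val hw
    have hwQ := (hDmem _).mp (w : D).2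
    have hwx' : ρ x * ((w : D) : Module.End K V) = ((w : D) : Module.End K V) * ρ x := by
      rw [hσ] at hwx
      calc ρ x * ((w : D) : Module.End K V)
          = ρ x * ((w : D) : Module.End K V) * ρ x⁻¹ * ρ x := by
            rw [mul_assoc _ (ρ x⁻¹), ← map_mul, inv_mul_cancel, map_one, mul_one]
        _ = ((w : D) : Module.End K V) * ρ x := by rw [hwx]
    obtain ⟨c, hc⟩ := QGroupIrrDim.schur_scalar ρ hirr _ (commute_of_gen ρ Q x hgen _ hwQ hwx')
    refine ⟨c, ?_⟩
    apply Subtype.ext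
    apply Subtype.ext
    exact hc.symm
  have hDle : finrank K D ≤ p ^ n := HHIndLA.finrank_le_of_ker_le_one (TD - 1) hker _ hND
  have hDpos : 1 ≤ finrank K D := by
    have : Nontrivial D := ⟨⟨⟨1, hone_mem⟩, 0, fun h => hone (congrArg Subtype.val h)⟩⟩
    exact finrank_pos
  have hsum : finrank K D + finrank K E = finrank K V * finrank K V := by
    have h1 := Submodule.finrank_sup_add_finrank_inf_eq D E
    rw [hDE, hDE', finrank_top, finrank_bot, add_zero, Module.finrank_linearMap] at h1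
    exact h1.symm
  have hD1 : finrank K D = 1 := by
    obtain ⟨k, hk⟩ := hdvd inferInstance
    rw [hord] at hk
    rw [hk, hfin, hsP] at hsum
    -- `fD + P k = (P - 1)^2`
    obtain ⟨P', hP'⟩ : ∃ P', p ^ n = P' + 2 := ⟨p ^ n - 2, by omega⟩
    rw [hP'] at hsum hDle
    have h2 : (P' + 2 - 1) * (P' + 2 - 1) = (P' + 2) * P' + 1 := by
      have : P' + 2 - 1 = P' + 1 := by omega
      rw [this]; ring
    rw [h2] at hsum
    -- reduce modulo `P' + 2`
    have h3 : finrank K D % (P' + 2) = 1 := by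
      have := congrArg (· % (P' + 2)) hsum
      simp only [Nat.add_mul_mod_self_left, Nat.mul_add_mod] at this
      rw [this]
      exact Nat.mod_eq_of_lt (by omega)
    rcases Nat.lt_or_ge (finrank K D) (P' + 2) with h | h
    · rwa [Nat.mod_eq_of_lt h] at h3
    · have : finrank K D = P' + 2 := le_antisymm hDle h
      rw [this, Nat.mod_self] at h3
      omega
  -- `Q` is irreducible on `V`
  have hscal : ∀ φ : Module.End K V, (∀ g ∈ Q, ρ g * φ = φ * ρ g) → ∃ c : K, φ = c • 1 := by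
    intro φ hφ
    have hφD : φ ∈ D := (hDmem φ).mpr hφ
    have h1 : (⟨1, hone_mem⟩ : D) ≠ 0 := fun h => hone (congrArg Subtype.val h)
    obtain ⟨c, hc⟩ := (finrank_eq_one_iff_of_nonzero' (⟨1, hone_mem⟩ : D) h1).mp hD1 ⟨φ, hφD⟩
    exact ⟨c, (congrArg Subtype.val hc).symm⟩
  have hirrQ : ∀ W : Submodule K V,
      (∀ g : Q, W.map ((ρ.comp Q.subtype : Representation K Q V) g) ≤ W) → W = ⊥ ∨ W = ⊤ :=
    fun W hW => irreducible_of_fixed_scalar ρ Q hQK hscal W (fun g hg => hW ⟨g, hg⟩)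
  obtain ⟨b, hb⟩ := QGroupIrrDim.finrank_eq_prime_pow q hQ
    (ρ.comp Q.subtype : Representation K Q V) hirrQ
  refine ⟨b, ?_, by rw [← hsP, ← hfin, hb]⟩
  by_contra hb0
  have hb0' : b = 0 := by omega
  rw [hb0', pow_zero] at hb
  rw [hb] at hfin
  apply hN0
  rw [← hfin, pow_one] at hs
  exact hs

end Critical

end Cfsg.Agent.Lib.Helper63.HHCore2
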