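import Mathlib
import Cfsg.Agent.Lib.Helper63.HHCore2
import Cfsg.Agent.Lib.Helper63.HHGroup

/-!
# Hall–Higman Theorem B: the conclusion, stabilisers, and the critical case without generation

* `Concl p q n s nonab`: the conclusion of Theorem B (for nilpotency index `s`).
* `stab ρ W`, `subRep`, `quotRep`: the stabiliser of a subspace and its representations on the
  subspace and the quotient.
* `critical'`: the critical case for `Q` and `x` not necessarily generating `G`.
* `K2_of_minimal`: the representation form of `HHGroup.centralizer_le_center_of_minimal`.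
-/

set_option autoImplicit false
set_option linter.unusedSectionVars false
set_option linter.style.haveILetI false

namespace Cfsg.Agent.Lib.Helper63.HHCore3

open Module Cfsg.Agent.Lib.Helper63 Cfsg.Agent.Lib.Helper63.HHCore1

/-- The conclusion of Hall–Higman's Theorem B for an element of order `p^n` whose `x - 1` has
nilpotency index at most `s`. -/
def Concl (p q n s : ℕ) (nonab : Prop) : Prop :=
  p ^ n ≤ s ∨ ∃ n₀ m : ℕ, 1 ≤ n₀ ∧ n₀ ≤ n ∧ 1 ≤ m ∧ p ^ n₀ - 1 = q ^ m ∧ nonab ∧
    p ^ (n - n₀) * (p ^ n₀ - 1) ≤ s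

theorem Concl.mono {p q n s s' : ℕ} {nonab nonab' : Prop} (h : Concl p q n s nonab)
    (hs : s ≤ s') (hn : nonab → nonab') : Concl p q n s' nonab' := by
  rcases h with h | ⟨n₀, m, h1, h2, h3, h4, h5, h6⟩
  · exact Or.inl (le_trans h hs)
  · exact Or.inr ⟨n₀, m, h1, h2, h3, h4, hn h5, le_trans h6 hs⟩

theorem Concl.lift {p q n j s s' : ℕ} {nonab : Prop} (hj : j ≤ n)
    (h : Concl p q (n - j) s' nonab) (hs : p ^ j * s' ≤ s) : Concl p q n s nonab := by
  rcases h with h | ⟨n₀, m, h1, h2, h3, h4, h5, h6⟩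
  · left
    calc p ^ n = p ^ j * p ^ (n - j) := by rw [← pow_add]; congr 1; omega
      _ ≤ p ^ j * s' := Nat.mul_le_mul_left _ h
      _ ≤ s := hs
  · right
    refine ⟨n₀, m, h1, by omega, h3, h4, h5, ?_⟩
    calc p ^ (n - n₀) * (p ^ n₀ - 1) = p ^ j * (p ^ (n - j - n₀) * (p ^ n₀ - 1)) := by
          rw [← mul_assoc, ← pow_add]; congr 2; omega
      _ ≤ p ^ j * s' := Nat.mul_le_mul_left _ h6
      _ ≤ s := hs

section Stab

variable {K : Type*} [Field K] {G : Type*} [Group G] {V : Type*} [AddCommGroup V] [Module K V]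

/-- The stabiliser of a subspace. -/
def stab (ρ : Representation K G V) (W : Submodule K V) : Subgroup G where
  carrier := {g | W.map (ρ g) = W}
  one_mem' := by
    show W.map (ρ 1) = W
    rw [map_one]; exact Submodule.map_id W
  mul_mem' := by
    intro a b ha hb
    have ha' : W.map (ρ a) = W := ha
    have hb' : W.map (ρ b) = W := hb
    show W.map (ρ (a * b)) = W
    rw [map_mul]
    calc W.map (ρ a * ρ b) = (W.map (ρ b)).map (ρ a) := Submodule.map_comp (ρ b) (ρ a) W
      _ = W := by rw [hb', ha']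
  inv_mem' := by
    intro a ha
    have ha' : W.map (ρ a) = W := ha
    show W.map (ρ a⁻¹) = W
    calc W.map (ρ a⁻¹) = (W.map (ρ a)).map (ρ a⁻¹) := by rw [ha']
      _ = W.map (ρ a⁻¹ * ρ a) := (Submodule.map_comp (ρ a) (ρ a⁻¹) W).symm
      _ = W := by rw [← map_mul, inv_mul_cancel, map_one]; exact Submodule.map_id W

theorem mem_stab (ρ : Representation K G V) (W : Submodule K V) (g : G) :
    g ∈ stab ρ W ↔ W.map (ρ g) = W := Iff.rfl

theorem rho_inj (ρ : Representation K G V) (g : G) : Function.Injective (ρ g) := by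
  intro a b hab
  have h1 : ρ g⁻¹ (ρ g a) = a := by
    rw [← Module.End.mul_apply, ← map_mul, inv_mul_cancel, map_one, Module.End.one_apply]
  have h2 : ρ g⁻¹ (ρ g b) = b := by
    rw [← Module.End.mul_apply, ← map_mul, inv_mul_cancel, map_one, Module.End.one_apply]
  rw [← h1, ← h2, hab]

theorem mem_stab_of_le [FiniteDimensional K V] (ρ : Representation K G V) (W : Submodule K V)
    (g : G) (h : W.map (ρ g) ≤ W) : g ∈ stab ρ W := by
  refine Submodule.eq_of_le_of_finrank_le h (le_of_eq ?_)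
  exact (Submodule.equivMapOfInjective (ρ g) (rho_inj ρ g) W).finrank_eq

theorem stab_le_comap (ρ : Representation K G V) (W : Submodule K V) (g : stab ρ W) :
    W ≤ W.comap ((ρ.comp (stab ρ W).subtype) g) := by
  intro w hw
  have h : W.map (ρ (g : G)) = W := g.2
  have : ρ (g : G) w ∈ W.map (ρ (g : G)) := Submodule.mem_map_of_mem hw
  rw [h] at this
  exact this

/-- The representation of the stabiliser of `W` on `W`. -/
def subRep (ρ : Representation K G V) (W : Submodule K V) : Representation K ↥(stab ρ W) ↥W :=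
  Representation.subrepresentation (ρ.comp (stab ρ W).subtype : Representation K ↥(stab ρ W) V) W
    (stab_le_comap ρ W)

theorem subRep_apply (ρ : Representation K G V) (W : Submodule K V) (g : stab ρ W) (w : W) :
    ((subRep ρ W g w : W) : V) = ρ (g : G) (w : V) := rfl

/-- The representation of the stabiliser of `W` on `V ⧸ W`. -/
def quotRep (ρ : Representation K G V) (W : Submodule K V) :
    Representation K ↥(stab ρ W) (V ⧸ W) :=
  Representation.quotient (ρ.comp (stab ρ W).subtype : Representation K ↥(stab ρ W) V) W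
    (stab_le_comap ρ W)

theorem quotRep_apply (ρ : Representation K G V) (W : Submodule K V) (g : stab ρ W) (v : V) :
    quotRep ρ W g (Submodule.Quotient.mk v) = Submodule.Quotient.mk (ρ (g : G) v) := rfl

end Stab

section Hom

variable {G : Type*} [Group G] {M : Type*} [Monoid M]

/-- `f ⁅x₀, a⁆ = 1` iff `f x₀` and `f a` commute. -/
theorem comm_iff (f : G →* M) (x₀ a : G) :
    f (x₀ * a * x₀⁻¹ * a⁻¹) = 1 ↔ f x₀ * f a = f a * f x₀ := by
  constructor
  · intro h
    have e : x₀ * a = (x₀ * a * x₀⁻¹ * a⁻¹) * (a * x₀) := by group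
    rw [← map_mul, e, map_mul, h, one_mul, map_mul]
  · intro h
    have e : f (x₀ * a) = f (a * x₀) := by rw [map_mul, map_mul, h]
    have e2 : x₀ * a * x₀⁻¹ * a⁻¹ = (x₀ * a) * (a * x₀)⁻¹ := by group
    rw [e2, map_mul, e, ← map_mul, mul_inv_cancel, map_one]

/-- Representation form of `HHGroup.centralizer_le_center_of_minimal`. -/
theorem K2_of_minimal [Finite G] (p q : ℕ) [hp : Fact p.Prime] [hq : Fact q.Prime] (hpq : p ≠ q)
    (f : G →* M) (Q : Subgroup G) (hQ : IsPGroup q Q) (x x₀ : G)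
    (hx : ∀ g ∈ Q, x * g * x⁻¹ ∈ Q) (hx₀ : x₀ ∈ Subgroup.zpowers x)
    (hx₀p : ∃ k, x₀ ^ (p ^ k) = 1)
    (hmin : ∀ R : Subgroup G, R < Q → (∀ g ∈ R, x * g * x⁻¹ ∈ R) →
      ∀ g ∈ R, f x₀ * f g = f g * f x₀)
    (hnc : ∃ g ∈ Q, f x₀ * f g ≠ f g * f x₀) :
    ∀ c ∈ Q, f x₀ * f c = f c * f x₀ → ∀ g ∈ Q, f c * f g = f g * f c := by
  set π : G →* G ⧸ f.ker := QuotientGroup.mk' f.ker with hπdef
  have hπ : ∀ a b : G, π a = π b ↔ f a = f b := by
    intro a b
    rw [hπdef, QuotientGroup.mk'_apply, QuotientGroup.mk'_apply, QuotientGroup.eq, MonoidHom.mem_ker]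
    constructor
    · intro h
      have e : b = a * (a⁻¹ * b) := by group
      rw [e, map_mul, h, mul_one]
    · intro h
      rw [map_mul, ← h, ← map_mul, inv_mul_cancel, map_one]
  have hπc : ∀ a b : G, π a * π b = π b * π a ↔ f a * f b = f b * f a := by
    intro a b
    rw [← map_mul, ← map_mul, hπ, map_mul, map_mul]
  have key := HHGroup.centralizer_le_center_of_minimal p q hpq (Q.map π) (hQ.map π) (π x) (π x₀)
    (by
      rintro _ ⟨g, hg, rfl⟩
      exact ⟨x * g * x⁻¹, hx g hg, by rw [map_mul, map_mul, map_inv]⟩)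
    (by
      obtain ⟨i, rfl⟩ := Subgroup.mem_zpowers_iff.mp hx₀
      rw [map_zpow]
      exact Subgroup.zpow_mem _ (Subgroup.mem_zpowers _) i)
    (by
      obtain ⟨k, hk⟩ := hx₀p
      exact ⟨k, by rw [← map_pow, hk, map_one]⟩)
    (by
      intro R' hlt hinv g' hg'
      set R : Subgroup G := Q ⊓ R'.comap π with hR
      have hRle : R ≤ Q := inf_le_left
      have hRne : R ≠ Q := by
        intro h
        have h1 : Q ≤ R'.comap π := by rw [← h]; exact inf_le_right
        exact (not_le_of_gt hlt) (Subgroup.map_le_iff_le_comap.mpr h1)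
      have hRlt : R < Q := lt_of_le_of_ne hRle hRne
      have hRinv : ∀ g ∈ R, x * g * x⁻¹ ∈ R := by
        intro g hg
        refine ⟨hx g hg.1, ?_⟩
        show π (x * g * x⁻¹) ∈ R'
        rw [map_mul, map_mul, map_inv]
        exact hinv _ hg.2
      obtain ⟨g, hg, rfl⟩ := hlt.le hg'
      have hgR : g ∈ R := ⟨hg, hg'⟩
      exact (hπc x₀ g).mpr (hmin R hRlt hRinv g hgR))
    (by
      obtain ⟨g, hg, hne⟩ := hnc
      exact ⟨π g, ⟨g, hg, rfl⟩, fun h => hne ((hπc x₀ g).mp h)⟩)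
  intro c hc hcx g hg
  exact (hπc c g).mp (key (π c) ⟨c, hc, rfl⟩ ((hπc x₀ c).mpr hcx) (π g) ⟨g, hg, rfl⟩)

end Hom

section Critical

variable {G : Type*} [Group G] [Finite G] (p q : ℕ) [hp : Fact p.Prime] [hq : Fact q.Prime]
  {K : Type*} [Field K] [IsAlgClosed K] [CharP K p]
  {V : Type*} [AddCommGroup V] [Module K V] [FiniteDimensional K V]

/-- The critical case, without assuming that `Q` and `x` generate `G`. -/
theorem critical' [Nontrivial V] (hpq : p ≠ q) (Q : Subgroup G) (hQ : IsPGroup q Q) (x : G)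
    (hx : ∀ g ∈ Q, x * g * x⁻¹ ∈ Q) (n : ℕ) (hn : 1 ≤ n) (hord : orderOf x = p ^ n)
    (ρ : Representation K G V)
    (hirr : ∀ W : Submodule K V, (∀ g ∈ Q, W.map (ρ g) ≤ W) → W.map (ρ x) ≤ W → W = ⊥ ∨ W = ⊤)
    (hK2 : ∀ g ∈ Q, ρ g * ρ (x ^ p ^ (n - 1)) = ρ (x ^ p ^ (n - 1)) * ρ g → ∃ c : K, ρ g = c • 1)
    (hx1 : ρ x ≠ 1) (s : ℕ) (hs : (ρ x - 1) ^ s = 0) (hmin : ∀ k < s, (ρ x - 1) ^ k ≠ 0) :
    p ^ n - 1 ≤ s ∧ (s = p ^ n - 1 → ∃ b : ℕ, 1 ≤ b ∧ p ^ n - 1 = q ^ b) := by
  set H : Subgroup G := Q ⊔ Subgroup.zpowers x with hH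
  have hQH : Q ≤ H := le_sup_left
  have hxH : x ∈ H := (le_sup_right : Subgroup.zpowers x ≤ H) (Subgroup.mem_zpowers x)
  have hxinv : ∀ g ∈ Q, x⁻¹ * g * x ∈ Q := by
    intro g hg
    have := HHGroup.conj_mem_of_mem_zpowers Q x hx
      (Subgroup.inv_mem _ (Subgroup.mem_zpowers x)) g hg
    rwa [inv_inv] at this
  have hxnorm : x ∈ Subgroup.normalizer (Q : Set G) := by
    rw [Subgroup.mem_normalizer_iff]
    intro h
    constructor
    · exact hx h
    · intro hh
      have := hxinv _ hh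
      have e : x⁻¹ * (x * h * x⁻¹) * x = h := by group
      rwa [e] at this
  have hHnorm : H ≤ Subgroup.normalizer (Q : Set G) :=
    sup_le Subgroup.le_normalizer (Subgroup.zpowers_le.mpr hxnorm)
  haveI : (Q.subgroupOf H).Normal := Subgroup.normal_subgroupOf_of_le_normalizer hHnorm
  set x' : H := ⟨x, hxH⟩ with hx'
  set ρ' : Representation K H V := ρ.comp H.subtype with hρ'
  have hgen' : Q.subgroupOf H ⊔ Subgroup.zpowers x' = ⊤ := by
    apply Subgroup.map_injective H.subtype_injective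
    rw [Subgroup.map_sup, Subgroup.map_subgroupOf_eq_of_le hQH, MonoidHom.map_zpowers,
      ← MonoidHom.range_eq_map, Subgroup.range_subtype]
    rfl
  have hQ' : IsPGroup q (Q.subgroupOf H) := hQ.comap_of_injective H.subtype H.subtype_injective
  have hord' : orderOf x' = p ^ n := by
    rw [← hord, hx', Subgroup.orderOf_mk]
  have hirr' : ∀ W : Submodule K V, (∀ g : H, W.map (ρ' g) ≤ W) → W = ⊥ ∨ W = ⊤ :=
    fun W hW => hirr W (fun g hg => hW ⟨g, hQH hg⟩) (hW x')
  have hK2' : ∀ g ∈ Q.subgroupOf H, ρ' g * ρ' (x' ^ p ^ (n - 1)) = ρ' (x' ^ p ^ (n - 1)) * ρ' g →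
      ∃ c : K, ρ' g = c • 1 := by
    intro g hg hcomm
    exact hK2 (g : G) (Subgroup.mem_subgroupOf.mp hg) hcomm
  exact HHCore2.critical p q hpq (Q.subgroupOf H) hQ' x' hgen' n hn hord' ρ' hirr' hK2' hx1 s hs hmin

end Critical

end Cfsg.Agent.Lib.Helper63.HHCore3
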