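import Mathlib
import Cfsg.Agent.Lib.Helper63.HHCore3

/-!
# Hall–Higman Theorem B, representation form

`stmt_all`: let `K` be algebraically closed of characteristic `p`, `Q` a `q`-subgroup (`q ≠ p`) of
a finite group `G`, normalised by `x` with `x^(p^n) = 1`, `n ≥ 1`, and `ρ` a finite-dimensional
representation of `G` over `K` such that `ρ(x^(p^(n-1)))` does not centralise `ρ(Q)`.  If
`(ρ x - 1)^s = 0` then `Concl p q n s (Q non-abelian)`.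

The proof is by induction on `dim V + |Q|`.
-/

set_option autoImplicit false
set_option linter.unusedSectionVars false
set_option linter.style.haveILetI false

namespace Cfsg.Agent.Lib.Helper63.HHCore4

open Module Cfsg.Agent.Lib.Helper63 Cfsg.Agent.Lib.Helper63.HHCore1
  Cfsg.Agent.Lib.Helper63.HHCore3

universe u v w

/-- The statement of Theorem B (representation form) for measure `N = dim V + |Q|`. -/
def Stmt (K : Type w) [Field K] (p q : ℕ) (N : ℕ) : Prop :=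
  ∀ (G : Type u) [Group G] [Finite G] (Q : Subgroup G) (_ : IsPGroup q Q) (x : G)
    (_ : ∀ g ∈ Q, x * g * x⁻¹ ∈ Q) (n : ℕ) (_ : 1 ≤ n) (_ : x ^ p ^ n = 1)
    (V : Type v) [AddCommGroup V] [Module K V] [FiniteDimensional K V]
    (ρ : Representation K G V), finrank K V + Nat.card Q = N →
    (∃ a ∈ Q, ρ (x ^ p ^ (n - 1) * a * (x ^ p ^ (n - 1))⁻¹ * a⁻¹) ≠ 1) →
    ∀ s : ℕ, (ρ x - 1) ^ s = 0 → Concl p q n s (∃ g ∈ Q, ∃ h ∈ Q, g * h ≠ h * g)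

section Steps

variable (K : Type w) [Field K] [IsAlgClosed K] (p q : ℕ) [hp : Fact p.Prime] [hq : Fact q.Prime]
  [CharP K p]

theorem IH_sub (N : ℕ) (ih : ∀ m < N, Stmt.{u, v, w} K p q m)
    {G : Type u} [Group G] [Finite G] (Q : Subgroup G) (hQ : IsPGroup q Q)
    {V : Type v} [AddCommGroup V] [Module K V] [FiniteDimensional K V]
    (ρ : Representation K G V) (hN : finrank K V + Nat.card Q = N)
    (W : Submodule K V) (hWtop : W ≠ ⊤) (hQW : ∀ g ∈ Q, W.map (ρ g) ≤ W)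
    (y : G) (hyW : W.map (ρ y) ≤ W) (hy : ∀ g ∈ Q, y * g * y⁻¹ ∈ Q)
    (n' : ℕ) (hn' : 1 ≤ n') (hyP : y ^ p ^ n' = 1)
    (hact : ∃ a ∈ Q, ∃ w ∈ W, ρ (y ^ p ^ (n' - 1) * a * (y ^ p ^ (n' - 1))⁻¹ * a⁻¹) w ≠ w)
    (s' : ℕ) (hs' : ∀ w ∈ W, ((ρ y - 1) ^ s') w = 0) :
    Concl p q n' s' (∃ g ∈ Q, ∃ h ∈ Q, g * h ≠ h * g) := by
  have hQS : Q ≤ stab ρ W := fun g hg => mem_stab_of_le ρ W g (hQW g hg)
  have hyS : y ∈ stab ρ W := mem_stab_of_le ρ W y hyW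
  have hcard : Nat.card (Q.subgroupOf (stab ρ W)) = Nat.card Q :=
    Nat.card_congr (Subgroup.subgroupOfEquivOfLe hQS).toEquiv
  have hlt : finrank K W + Nat.card (Q.subgroupOf (stab ρ W)) < N := by
    rw [hcard, ← hN]
    have := Submodule.finrank_lt hWtop
    omega
  have hQ' : IsPGroup q (Q.subgroupOf (stab ρ W)) :=
    hQ.comap_of_injective (stab ρ W).subtype (stab ρ W).subtype_injective
  refine (ih _ hlt (stab ρ W) (Q.subgroupOf (stab ρ W)) hQ' ⟨y, hyS⟩ ?_ n' hn' ?_ W (subRep ρ W)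
    rfl ?_ s' ?_).mono le_rfl ?_
  · intro g hg
    exact hy g hg
  · exact Subtype.ext hyP
  · obtain ⟨a, ha, w, hw, hne⟩ := hact
    refine ⟨⟨a, hQS ha⟩, ha, fun h1 => hne ?_⟩
    have := congrArg (fun f : Module.End K W => ((f ⟨w, hw⟩ : W) : V)) h1
    exact this
  · apply LinearMap.ext
    intro w
    apply Subtype.ext
    have hW : ∀ w ∈ W, ρ y w ∈ W := fun w hw => hyW ⟨w, hw, rfl⟩
    have := coe_sub_one_pow_restrict (ρ y) W hW s' w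
    exact this.trans (hs' w w.2)
  · rintro ⟨g, hg, h, hh, hne⟩
    exact ⟨g, hg, h, hh, fun e => hne (Subtype.ext e)⟩

theorem IH_quot (N : ℕ) (ih : ∀ m < N, Stmt.{u, v, w} K p q m)
    {G : Type u} [Group G] [Finite G] (Q : Subgroup G) (hQ : IsPGroup q Q)
    {V : Type v} [AddCommGroup V] [Module K V] [FiniteDimensional K V]
    (ρ : Representation K G V) (hN : finrank K V + Nat.card Q = N)
    (W : Submodule K V) (hWbot : W ≠ ⊥) (hQW : ∀ g ∈ Q, W.map (ρ g) ≤ W)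
    (y : G) (hyW : W.map (ρ y) ≤ W) (hy : ∀ g ∈ Q, y * g * y⁻¹ ∈ Q)
    (n' : ℕ) (hn' : 1 ≤ n') (hyP : y ^ p ^ n' = 1)
    (hact : ∃ a ∈ Q, ∃ v : V, ρ (y ^ p ^ (n' - 1) * a * (y ^ p ^ (n' - 1))⁻¹ * a⁻¹) v - v ∉ W)
    (s' : ℕ) (hs' : (ρ y - 1) ^ s' = 0) :
    Concl p q n' s' (∃ g ∈ Q, ∃ h ∈ Q, g * h ≠ h * g) := by
  have hQS : Q ≤ stab ρ W := fun g hg => mem_stab_of_le ρ W g (hQW g hg)
  have hyS : y ∈ stab ρ W := mem_stab_of_le ρ W y hyW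
  have hcard : Nat.card (Q.subgroupOf (stab ρ W)) = Nat.card Q :=
    Nat.card_congr (Subgroup.subgroupOfEquivOfLe hQS).toEquiv
  have hlt : finrank K (V ⧸ W) + Nat.card (Q.subgroupOf (stab ρ W)) < N := by
    rw [hcard, ← hN]
    have h1 := Submodule.finrank_quotient_add_finrank W
    have h2 : finrank K W ≠ 0 := fun h => hWbot (Submodule.finrank_eq_zero.mp h)
    omega
  have hQ' : IsPGroup q (Q.subgroupOf (stab ρ W)) :=
    hQ.comap_of_injective (stab ρ W).subtype (stab ρ W).subtype_injective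
  refine (ih _ hlt (stab ρ W) (Q.subgroupOf (stab ρ W)) hQ' ⟨y, hyS⟩ ?_ n' hn' ?_ (V ⧸ W)
    (quotRep ρ W) rfl ?_ s' ?_).mono le_rfl ?_
  · intro g hg
    exact hy g hg
  · exact Subtype.ext hyP
  · obtain ⟨a, ha, v, hne⟩ := hact
    refine ⟨⟨a, hQS ha⟩, ha, fun h1 => hne ?_⟩
    have := congrArg (fun f : Module.End K (V ⧸ W) => f (Submodule.Quotient.mk v)) h1
    exact (Submodule.Quotient.eq W).mp this
  · apply LinearMap.ext
    intro v'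
    obtain ⟨v, rfl⟩ := Submodule.Quotient.mk_surjective W v'
    have hW : W ≤ W.comap (ρ y) := fun w hw => hyW ⟨w, hw, rfl⟩
    have := sub_one_pow_mapQ (ρ y) W hW s' v
    rw [hs'] at this
    exact this
  · rintro ⟨g, hg, h, hh, hne⟩
    exact ⟨g, hg, h, hh, fun e => hne (Subtype.ext e)⟩

theorem reducible_step (hpq : p ≠ q) (N : ℕ) (ih : ∀ m < N, Stmt.{u, v, w} K p q m)
    {G : Type u} [Group G] [Finite G] (Q : Subgroup G) (hQ : IsPGroup q Q) (x : G)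
    (hx : ∀ g ∈ Q, x * g * x⁻¹ ∈ Q) (n : ℕ) (hn : 1 ≤ n) (hxP : x ^ p ^ n = 1)
    {V : Type v} [AddCommGroup V] [Module K V] [FiniteDimensional K V]
    (ρ : Representation K G V) (hN : finrank K V + Nat.card Q = N)
    (hact : ∃ a ∈ Q, ρ (x ^ p ^ (n - 1) * a * (x ^ p ^ (n - 1))⁻¹ * a⁻¹) ≠ 1)
    (s : ℕ) (hs : (ρ x - 1) ^ s = 0)
    (W : Submodule K V) (hWbot : W ≠ ⊥) (hWtop : W ≠ ⊤)
    (hQW : ∀ g ∈ Q, W.map (ρ g) ≤ W) (hxW : W.map (ρ x) ≤ W) :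
    Concl p q n s (∃ g ∈ Q, ∃ h ∈ Q, g * h ≠ h * g) := by
  by_cases h1 : ∃ a ∈ Q, ∃ w ∈ W, ρ (x ^ p ^ (n - 1) * a * (x ^ p ^ (n - 1))⁻¹ * a⁻¹) w ≠ w
  · exact IH_sub K p q N ih Q hQ ρ hN W hWtop hQW x hxW hx n hn hxP h1 s
      (fun w _ => by rw [hs]; rfl)
  by_cases h2 : ∃ a ∈ Q, ∃ v : V,
      ρ (x ^ p ^ (n - 1) * a * (x ^ p ^ (n - 1))⁻¹ * a⁻¹) v - v ∉ W
  · exact IH_quot K p q N ih Q hQ ρ hN W hWbot hQW x hxW hx n hn hxP h2 s hs
  exfalso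
  push Not at h1 h2
  obtain ⟨a, ha, hne⟩ := hact
  have h1' := h1 a ha
  have h2' := h2 a ha
  have hcQ : x ^ p ^ (n - 1) * a * (x ^ p ^ (n - 1))⁻¹ * a⁻¹ ∈ Q :=
    Q.mul_mem (HHGroup.conj_pow_mem Q x hx _ a ha) (Q.inv_mem ha)
  generalize x ^ p ^ (n - 1) * a * (x ^ p ^ (n - 1))⁻¹ * a⁻¹ = c at hne h1' h2' hcQ
  obtain ⟨k, hk⟩ := hQ ⟨c, hcQ⟩
  have hk' : c ^ q ^ k = 1 := congrArg Subtype.val hk
  have hT2 : (ρ c - 1) ^ 2 = 0 := by
    apply LinearMap.ext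
    intro v
    rw [pow_two, Module.End.mul_apply, LinearMap.zero_apply]
    have hv : (ρ c - 1) v ∈ W := by
      rw [LinearMap.sub_apply, Module.End.one_apply]; exact h2' v
    rw [LinearMap.sub_apply, Module.End.one_apply, h1' _ hv, sub_self]
  exact hne (eq_one_of_unipotent K p q hpq (ρ c) hT2 k (by rw [← map_pow, hk', map_one]))

theorem induced_step (N : ℕ) (ih : ∀ m < N, Stmt.{u, v, w} K p q m)
    {G : Type u} [Group G] [Finite G] (Q : Subgroup G) (hQ : IsPGroup q Q) (x : G)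
    (hx : ∀ g ∈ Q, x * g * x⁻¹ ∈ Q) (n : ℕ) (hn : 1 ≤ n) (hxP : x ^ p ^ n = 1)
    {V : Type v} [AddCommGroup V] [Module K V] [FiniteDimensional K V]
    (ρ : Representation K G V) (hN : finrank K V + Nat.card Q = N)
    (hact : ∃ a ∈ Q, ρ (x ^ p ^ (n - 1) * a * (x ^ p ^ (n - 1))⁻¹ * a⁻¹) ≠ 1)
    (s : ℕ) (hs : (ρ x - 1) ^ s = 0)
    (t : ℕ) (W : Submodule K V) (ht2 : 2 ≤ t) (htP : t ∣ p ^ n) (hWbot : W ≠ ⊥)
    (hQW : ∀ g ∈ Q, W.map (ρ g) ≤ W) (hxtW : W.map (ρ x ^ t) = W)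
    (hsup : (⨆ i : Fin t, W.map (ρ x ^ (i : ℕ))) = ⊤)
    (hdisj : ∀ m < t, Disjoint (W.map (ρ x ^ m)) (⨆ i, ⨆ (_ : i < m), W.map (ρ x ^ i))) :
    Concl p q n s (∃ g ∈ Q, ∃ h ∈ Q, g * h ≠ h * g) := by
  classical
  obtain ⟨j, hjn, rfl⟩ := (Nat.dvd_prime_pow hp.out).mp htP
  have hinj : Function.Injective (ρ x) := rho_inj ρ x
  obtain ⟨w₀, hw₀, hw₀0⟩ := (Submodule.ne_bot_iff W).mp hWbot
  have hpj : 0 < p ^ j := pow_pos hp.out.pos j
  rcases Nat.lt_or_ge j n with hjlt | hjge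
  swap
  · -- `j = n`
    have hjn' : j = n := le_antisymm hjn hjge
    subst hjn'
    left
    by_contra hlt
    push Not at hlt
    exact hw₀0 (HHIndLA.nilp_injective (ρ x) hinj W (p ^ j) hdisj s hlt w₀ hw₀ (by rw [hs]; rfl))
  -- `j < n`
  have hyP : (x ^ p ^ j) ^ p ^ (n - j) = 1 := by
    rw [← pow_mul, ← pow_add, show j + (n - j) = n by omega, hxP]
  have hy₀ : (x ^ p ^ j) ^ p ^ (n - j - 1) = x ^ p ^ (n - 1) := by
    rw [← pow_mul, ← pow_add]; congr 2; omega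
  have hρy : ρ (x ^ p ^ j) = (ρ x) ^ p ^ j := map_pow ρ x _
  have hρy1 : ρ (x ^ p ^ j) - 1 = (ρ x - 1) ^ p ^ j := by
    rw [hρy, sub_one_pow_char_pow K p (ρ x) j]
  have hyW : W.map (ρ (x ^ p ^ j)) ≤ W := by rw [hρy, hxtW]
  have hyQ : ∀ g ∈ Q, x ^ p ^ j * g * (x ^ p ^ j)⁻¹ ∈ Q := HHGroup.conj_pow_mem Q x hx _
  have hWtop : W ≠ ⊤ := by
    intro htop
    have h1 := hdisj 1 (by omega)
    have h2 : W ≤ ⨆ i, ⨆ (_ : i < 1), W.map (ρ x ^ i) := by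
      refine le_trans ?_ (le_iSup₂ (f := fun i (_ : i < 1) => W.map (ρ x ^ i)) 0 (by omega))
      rw [pow_zero]
      exact le_of_eq (Submodule.map_id W).symm
    have h3 : ρ x w₀ ∈ W.map (ρ x ^ 1) := by rw [pow_one]; exact Submodule.mem_map_of_mem hw₀
    have h4 : ρ x w₀ ∈ W := by rw [htop]; trivial
    have := Submodule.disjoint_def.mp h1 _ h3 (h2 h4)
    exact hw₀0 (hinj (by rw [this, map_zero]))
  have hact' : ∃ a ∈ Q, ∃ w ∈ W,
      ρ ((x ^ p ^ j) ^ p ^ (n - j - 1) * a * ((x ^ p ^ j) ^ p ^ (n - j - 1))⁻¹ * a⁻¹) w ≠ w := by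
    rw [hy₀]
    by_contra hcon
    push Not at hcon
    obtain ⟨a, ha, hne⟩ := hact
    apply hne
    apply LinearMap.ext
    intro v
    have hv : v ∈ ⨆ i : Fin (p ^ j), W.map (ρ x ^ (i : ℕ)) := by rw [hsup]; trivial
    rw [Module.End.one_apply]
    refine Submodule.iSup_induction _
      (motive := fun v => ρ (x ^ p ^ (n - 1) * a * (x ^ p ^ (n - 1))⁻¹ * a⁻¹) v = v) hv ?_ ?_ ?_
    · rintro i _ ⟨w, hw, rfl⟩
      have ha' : (x ^ (i : ℕ))⁻¹ * a * x ^ (i : ℕ) ∈ Q := by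
        have := HHGroup.conj_mem_of_mem_zpowers Q x hx
          (Subgroup.inv_mem _ (Subgroup.pow_mem _ (Subgroup.mem_zpowers x) (i : ℕ))) a ha
        rwa [inv_inv] at this
      have h1 := hcon _ ha' w hw
      have hcomm : x ^ (i : ℕ) * x ^ p ^ (n - 1) = x ^ p ^ (n - 1) * x ^ (i : ℕ) :=
        pow_mul_comm x _ _
      have hc1 : x ^ (i : ℕ) * x ^ p ^ (n - 1) * (x ^ (i : ℕ))⁻¹ = x ^ p ^ (n - 1) := by
        rw [hcomm, mul_assoc, mul_inv_cancel, mul_one]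
      have hid : x ^ p ^ (n - 1) * a * (x ^ p ^ (n - 1))⁻¹ * a⁻¹ * x ^ (i : ℕ) =
          x ^ (i : ℕ) * (x ^ p ^ (n - 1) * ((x ^ (i : ℕ))⁻¹ * a * x ^ (i : ℕ)) *
            (x ^ p ^ (n - 1))⁻¹ * ((x ^ (i : ℕ))⁻¹ * a * x ^ (i : ℕ))⁻¹) := by
        have e : x ^ (i : ℕ) * (x ^ p ^ (n - 1) * ((x ^ (i : ℕ))⁻¹ * a * x ^ (i : ℕ)) *
            (x ^ p ^ (n - 1))⁻¹ * ((x ^ (i : ℕ))⁻¹ * a * x ^ (i : ℕ))⁻¹) =
            (x ^ (i : ℕ) * x ^ p ^ (n - 1) * (x ^ (i : ℕ))⁻¹) * a *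
              (x ^ (i : ℕ) * x ^ p ^ (n - 1) * (x ^ (i : ℕ))⁻¹)⁻¹ * a⁻¹ * x ^ (i : ℕ) := by
          group
        rw [e, hc1]
      rw [← map_pow, ← Module.End.mul_apply, ← map_mul, hid, map_mul, Module.End.mul_apply, h1]
    · exact map_zero _
    · intro a' b' ha' hb'
      rw [map_add, ha', hb']
  obtain ⟨s', hs', hs'min⟩ : ∃ s', (∀ w ∈ W, ((ρ (x ^ p ^ j) - 1 : Module.End K V) ^ s') w = 0) ∧
      ∀ k < s', ¬ ∀ w ∈ W, ((ρ (x ^ p ^ j) - 1 : Module.End K V) ^ k) w = 0 := by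
    have hex : ∃ s', ∀ w ∈ W, ((ρ (x ^ p ^ j) - 1 : Module.End K V) ^ s') w = 0 := ⟨s, fun w _ => by
      rw [hρy1, ← pow_mul, mul_comm, pow_mul, hs, zero_pow hpj.ne']; rfl⟩
    exact ⟨Nat.find hex, Nat.find_spec hex, fun k hk => Nat.find_min hex hk⟩
  have hC := IH_sub K p q N ih Q hQ ρ hN W hWtop hQW (x ^ p ^ j) hyW hyQ (n - j) (by omega) hyP
    hact' s' hs'
  refine Concl.lift hjn hC ?_
  by_contra hlt
  push Not at hlt
  rcases s' with _ | r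
  · rw [mul_zero] at hlt; omega
  have := hs'min r (by omega)
  push Not at this
  obtain ⟨w, hw, hwne⟩ := this
  have hWinv : ∀ k : ℕ, ∀ w ∈ W, ((ρ (x ^ p ^ j) - 1 : Module.End K V) ^ k) w ∈ W := by
    intro k
    induction k with
    | zero => intro w hw; simpa using hw
    | succ k ih' =>
      intro w hw
      rw [pow_succ', Module.End.mul_apply]
      have h1 := ih' w hw
      rw [LinearMap.sub_apply, Module.End.one_apply]
      exact W.sub_mem (hyW ⟨_, h1, rfl⟩) h1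
  apply hwne
  refine HHIndLA.nilp_injective (ρ x) hinj W (p ^ j) hdisj (p ^ j - 1) (by omega) _
    (hWinv _ w hw) ?_
  rw [hρy1, ← pow_mul, ← Module.End.mul_apply, ← pow_add]
  have hge : s ≤ p ^ j - 1 + p ^ j * r := by
    have : p ^ j * (r + 1) = p ^ j * r + p ^ j := by ring
    omega
  obtain ⟨e, he⟩ := Nat.exists_eq_add_of_le hge
  rw [he, pow_add, hs, zero_mul]; rfl

theorem critical_step (hpq : p ≠ q)
    {G : Type u} [Group G] [Finite G] (Q : Subgroup G) (hQ : IsPGroup q Q) (x : G)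
    (hx : ∀ g ∈ Q, x * g * x⁻¹ ∈ Q) (n : ℕ) (hn : 1 ≤ n) (hxP : x ^ p ^ n = 1)
    {V : Type v} [AddCommGroup V] [Module K V] [FiniteDimensional K V]
    (ρ : Representation K G V)
    (hact : ∃ a ∈ Q, ρ (x ^ p ^ (n - 1) * a * (x ^ p ^ (n - 1))⁻¹ * a⁻¹) ≠ 1)
    (s : ℕ) (hs : (ρ x - 1) ^ s = 0)
    (hmin : ∀ Q₁ : Subgroup G, Q₁ < Q → (∀ g ∈ Q₁, x * g * x⁻¹ ∈ Q₁) →
      ∀ a ∈ Q₁, ρ (x ^ p ^ (n - 1) * a * (x ^ p ^ (n - 1))⁻¹ * a⁻¹) = 1)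
    (hirr : ∀ W : Submodule K V, (∀ g ∈ Q, W.map (ρ g) ≤ W) → W.map (ρ x) ≤ W → W = ⊥ ∨ W = ⊤)
    (hZ : ∀ a ∈ Q, (∀ h ∈ Q, ρ a * ρ h = ρ h * ρ a) → ∃ c : K, ρ a = c • 1) :
    Concl p q n s (∃ g ∈ Q, ∃ h ∈ Q, g * h ≠ h * g) := by
  classical
  obtain ⟨a₀, ha₀, hne₀⟩ := hact
  haveI : Nontrivial V := by
    by_contra hnt
    have : Subsingleton V := not_nontrivial_iff_subsingleton.mp hnt
    exact hne₀ (LinearMap.ext fun v => Subsingleton.elim _ _)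
  have hx₀p : (x ^ p ^ (n - 1)) ^ p ^ 1 = 1 := by
    rw [← pow_mul, ← pow_add, Nat.sub_add_cancel hn, hxP]
  have hx₀mem : x ^ p ^ (n - 1) ∈ Subgroup.zpowers x :=
    Subgroup.pow_mem _ (Subgroup.mem_zpowers x) _
  have hρx₀ : ρ (x ^ p ^ (n - 1)) = (ρ x) ^ p ^ (n - 1) := map_pow ρ x _
  generalize hx₀ : x ^ p ^ (n - 1) = x₀ at hne₀ hmin hx₀p hx₀mem hρx₀
  have hnc : ∃ g ∈ Q, ρ x₀ * ρ g ≠ ρ g * ρ x₀ :=
    ⟨a₀, ha₀, fun h => hne₀ ((comm_iff (ρ : G →* Module.End K V) x₀ a₀).mpr h)⟩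
  have hx₀1 : x₀ ≠ 1 := by
    intro h1
    apply hne₀
    rw [h1, one_mul, inv_one, mul_one, mul_inv_cancel, map_one]
  have hord : orderOf x = p ^ n := by
    have := orderOf_eq_prime_pow (x := x) (p := p) (n := n - 1) (by rw [hx₀]; exact hx₀1)
      (by rw [Nat.sub_add_cancel hn]; exact hxP)
    rwa [Nat.sub_add_cancel hn] at this
  have hK := K2_of_minimal p q hpq (ρ : G →* Module.End K V) Q hQ x x₀ hx hx₀mem ⟨1, hx₀p⟩
    (fun R hR hRinv g hg =>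
      (comm_iff (ρ : G →* Module.End K V) x₀ g).mp (hmin R hR hRinv g hg)) hnc
  have hK2 : ∀ g ∈ Q, ρ g * ρ (x ^ p ^ (n - 1)) = ρ (x ^ p ^ (n - 1)) * ρ g →
      ∃ c : K, ρ g = c • 1 := by
    intro g hg hcomm
    rw [hx₀] at hcomm
    exact hZ g hg (hK g hg hcomm.symm)
  have hx1 : ρ x ≠ 1 := by
    intro h1
    apply hne₀
    rw [comm_iff (ρ : G →* Module.End K V), hρx₀, h1, one_pow, one_mul, mul_one]
  have hex : ∃ s₀, (ρ x - 1) ^ s₀ = 0 := ⟨s, hs⟩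
  obtain ⟨s₀, hs₀, hs₀min⟩ : ∃ s₀, (ρ x - 1) ^ s₀ = 0 ∧ ∀ k < s₀, (ρ x - 1) ^ k ≠ 0 :=
    ⟨Nat.find hex, Nat.find_spec hex, fun k hk => Nat.find_min hex hk⟩
  have hs₀s : s₀ ≤ s := by
    by_contra h
    push Not at h
    exact hs₀min s h hs
  obtain ⟨h1, h2⟩ := critical' p q hpq Q hQ x hx n hn hord ρ hirr hK2 hx1 s₀ hs₀ hs₀min
  rcases Nat.lt_or_ge s₀ (p ^ n) with hlt | hge
  · right
    have hs₀eq : s₀ = p ^ n - 1 := by omega
    obtain ⟨b, hb1, hb⟩ := h2 hs₀eq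
    refine ⟨n, b, hn, le_rfl, hb1, hb, ?_, ?_⟩
    · by_contra hab
      push Not at hab
      have hsc : ∀ a ∈ Q, ∃ c : K, ρ a = c • 1 := fun a ha =>
        hZ a ha (fun h hh => by rw [← map_mul, ← map_mul, hab a ha h hh])
      obtain ⟨c, hc⟩ := hsc a₀ ha₀
      apply hne₀
      rw [comm_iff (ρ : G →* Module.End K V), hc, mul_smul_comm, smul_mul_assoc, mul_one, one_mul]
    · rw [Nat.sub_self, pow_zero, one_mul]; omega
  · left; omega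

end Steps

section Main

variable (K : Type w) [Field K] [IsAlgClosed K] (p q : ℕ) [hp : Fact p.Prime] [hq : Fact q.Prime]
  [CharP K p]

theorem stmt_all (hpq : p ≠ q) : ∀ N, Stmt.{u, v, w} K p q N := by
  intro N
  induction N using Nat.strong_induction_on with
  | _ N ih =>
    intro G _ _ Q hQ x hx n hn hxP V _ _ _ ρ hN hact s hs
    classical
    by_cases hA : ∃ Q₁ : Subgroup G, Q₁ < Q ∧ (∀ g ∈ Q₁, x * g * x⁻¹ ∈ Q₁) ∧
        ∃ a ∈ Q₁, ρ (x ^ p ^ (n - 1) * a * (x ^ p ^ (n - 1))⁻¹ * a⁻¹) ≠ 1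
    · obtain ⟨Q₁, hlt, hinv, hact₁⟩ := hA
      have hcard : Nat.card Q₁ < Nat.card Q := by
        by_contra hge
        push Not at hge
        exact hlt.ne (Subgroup.eq_of_le_of_card_ge hlt.le hge)
      have hm : finrank K V + Nat.card Q₁ < N := by omega
      exact (ih _ hm G Q₁ (hQ.to_le hlt.le) x hinv n hn hxP V ρ rfl hact₁ s hs).mono le_rfl
        (fun ⟨g, hg, h, hh, hne⟩ => ⟨g, hlt.le hg, h, hlt.le hh, hne⟩)
    have hmin : ∀ Q₁ : Subgroup G, Q₁ < Q → (∀ g ∈ Q₁, x * g * x⁻¹ ∈ Q₁) →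
        ∀ a ∈ Q₁, ρ (x ^ p ^ (n - 1) * a * (x ^ p ^ (n - 1))⁻¹ * a⁻¹) = 1 := by
      intro Q₁ hlt hinv a ha
      by_contra hne
      exact hA ⟨Q₁, hlt, hinv, a, ha, hne⟩
    by_cases hC : ∃ W : Submodule K V, W ≠ ⊥ ∧ W ≠ ⊤ ∧ (∀ g ∈ Q, W.map (ρ g) ≤ W) ∧
        W.map (ρ x) ≤ W
    · obtain ⟨W, hWbot, hWtop, hQW, hxW⟩ := hC
      exact reducible_step K p q hpq N ih Q hQ x hx n hn hxP ρ hN hact s hs W hWbot hWtop hQW hxW
    have hirr : ∀ W : Submodule K V, (∀ g ∈ Q, W.map (ρ g) ≤ W) → W.map (ρ x) ≤ W →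
        W = ⊥ ∨ W = ⊤ := by
      intro W hQW hxW
      by_contra hcon
      push Not at hcon
      exact hC ⟨W, hcon.1, hcon.2, hQW, hxW⟩
    -- the elements of `Q` whose image is central in `ρ(Q)`
    let A : Subgroup G :=
      { carrier := {g | g ∈ Q ∧ ∀ h ∈ Q, ρ g * ρ h = ρ h * ρ g}
        one_mem' := ⟨Q.one_mem, fun h _ => by rw [map_one, one_mul, mul_one]⟩
        mul_mem' := by
          rintro a b ⟨ha, ha'⟩ ⟨hb, hb'⟩
          refine ⟨Q.mul_mem ha hb, fun h hh => ?_⟩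
          rw [map_mul, mul_assoc, hb' h hh, ← mul_assoc, ha' h hh, mul_assoc]
        inv_mem' := by
          rintro a ⟨ha, ha'⟩
          refine ⟨Q.inv_mem ha, fun h hh => ?_⟩
          have h1 : ρ a⁻¹ * ρ a = 1 := by rw [← map_mul, inv_mul_cancel, map_one]
          have h2 : ρ a * ρ a⁻¹ = 1 := by rw [← map_mul, mul_inv_cancel, map_one]
          calc ρ a⁻¹ * ρ h = ρ a⁻¹ * ρ h * (ρ a * ρ a⁻¹) := by rw [h2, mul_one]
            _ = ρ a⁻¹ * (ρ h * ρ a) * ρ a⁻¹ := by simp only [mul_assoc]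
            _ = ρ a⁻¹ * (ρ a * ρ h) * ρ a⁻¹ := by rw [ha' h hh]
            _ = (ρ a⁻¹ * ρ a) * ρ h * ρ a⁻¹ := by simp only [mul_assoc]
            _ = ρ h * ρ a⁻¹ := by rw [h1, one_mul] }
    have hAmem : ∀ g, g ∈ A ↔ g ∈ Q ∧ ∀ h ∈ Q, ρ g * ρ h = ρ h * ρ g := fun g => Iff.rfl
    by_cases hB : ∃ a ∈ A, ¬ ∃ c : K, ρ a = c • 1
    · haveI : Nontrivial V := by
        obtain ⟨a₀, _, hne₀⟩ := hact
        by_contra hnt
        have : Subsingleton V := not_nontrivial_iff_subsingleton.mp hnt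
        exact hne₀ (LinearMap.ext fun v => Subsingleton.elim _ _)
      have hxQ : ∀ g ∈ Q, x⁻¹ * g * x ∈ Q := by
        intro g hg
        have := HHGroup.conj_mem_of_mem_zpowers Q x hx
          (Subgroup.inv_mem _ (Subgroup.mem_zpowers x)) g hg
        rwa [inv_inv] at this
      have hxA : ∀ a ∈ A, x⁻¹ * a * x ∈ A := by
        intro a ha
        rw [hAmem] at ha ⊢
        refine ⟨hxQ a ha.1, fun h hh => ?_⟩
        have h1 := ha.2 _ (hx h hh)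
        calc ρ (x⁻¹ * a * x) * ρ h = ρ x⁻¹ * (ρ a * ρ (x * h * x⁻¹)) * ρ x := by
              rw [← map_mul, ← map_mul, ← map_mul, ← map_mul]; congr 1; group
          _ = ρ x⁻¹ * (ρ (x * h * x⁻¹) * ρ a) * ρ x := by rw [h1]
          _ = ρ h * ρ (x⁻¹ * a * x) := by
              rw [← map_mul, ← map_mul, ← map_mul, ← map_mul]; congr 1; group
      obtain ⟨t, W, ht2, htP, hWbot, hQW, hxtW, hsup, hdisj⟩ :=
        HHIndLA.exists_induced_decomp ρ Q A x (p ^ n) (pow_pos hp.out.pos n) hxP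
          (fun a ha => ha.1) hxQ hxA (fun a ha g hg => ha.2 g hg) hirr hB
      exact induced_step K p q N ih Q hQ x hx n hn hxP ρ hN hact s hs t W ht2 htP hWbot hQW hxtW
        hsup hdisj
    · push Not at hB
      exact critical_step K p q hpq Q hQ x hx n hn hxP ρ hact s hs hmin hirr
        (fun a ha hcomm => hB a ⟨ha, hcomm⟩)

/-- **Hall–Higman Theorem B, representation form.** -/
theorem theoremB (hpq : p ≠ q) {G : Type u} [Group G] [Finite G] (Q : Subgroup G)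
    (hQ : IsPGroup q Q) (x : G) (hx : ∀ g ∈ Q, x * g * x⁻¹ ∈ Q) (n : ℕ) (hn : 1 ≤ n)
    (hxP : x ^ p ^ n = 1) {V : Type v} [AddCommGroup V] [Module K V] [FiniteDimensional K V]
    (ρ : Representation K G V)
    (hact : ∃ a ∈ Q, ρ (x ^ p ^ (n - 1) * a * (x ^ p ^ (n - 1))⁻¹ * a⁻¹) ≠ 1)
    (s : ℕ) (hs : (ρ x - 1) ^ s = 0) :
    Concl p q n s (∃ g ∈ Q, ∃ h ∈ Q, g * h ≠ h * g) :=
  stmt_all K p q hpq _ G Q hQ x hx n hn hxP V ρ rfl hact s hs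

end Main

end Cfsg.Agent.Lib.Helper63.HHCore4
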