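import Mathlib
import Cfsg.Agent.Lib.Helper63.HHAbGroup

/-!
# Reductions for Hall–Higman Theorem B

* `extHom`: an injective ring homomorphism from `End_F(V)` to `End_K(K^d)`, `K` the algebraic closure
  of `F`.
* `exists_q_subgroup`: in a `p`-soluble group with `O_p = 1`, an element `x` of order `p^n`
  (`n ≥ 1`) normalises a `q`-subgroup (`q ≠ p`) not centralised by `x^(p^(n-1))`.
-/

set_option autoImplicit false
set_option linter.unusedSectionVars false
set_option linter.style.haveILetI false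

namespace Cfsg.Agent.Lib.Helper63.HHReduce

open Module Cfsg Cfsg.Agent.Lib.Helper63

section Ext

variable (F : Type*) [Field F] (V : Type*) [AddCommGroup V] [Module F V] [FiniteDimensional F V]

/-- Extension of scalars to the algebraic closure, in coordinates. -/
noncomputable def extHom : Module.End F V →+*
    Module.End (AlgebraicClosure F) (Fin (finrank F V) → AlgebraicClosure F) :=
  (Matrix.toLinAlgEquiv' (R := AlgebraicClosure F)
      (n := Fin (finrank F V))).toRingEquiv.toRingHom.comp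
    ((algebraMap F (AlgebraicClosure F)).mapMatrix.comp
      (LinearMap.toMatrixAlgEquiv (Module.finBasis F V)).toRingEquiv.toRingHom)

theorem extHom_injective : Function.Injective (extHom F V) := by
  unfold extHom
  rw [RingHom.coe_comp, RingHom.coe_comp]
  refine Function.Injective.comp ?_ (Function.Injective.comp ?_ ?_)
  · exact RingEquiv.injective _
  · intro A B h
    refine Matrix.ext fun i j => ?_
    have h1 : algebraMap F (AlgebraicClosure F) (A i j) =
        algebraMap F (AlgebraicClosure F) (B i j) := congrFun (congrFun h i) j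
    exact FaithfulSMul.algebraMap_injective F (AlgebraicClosure F) h1
  · exact (LinearMap.toMatrixAlgEquiv (Module.finBasis F V)).toRingEquiv.injective

end Ext

section Group

variable {G : Type*} [Group G]

theorem exists_q_subgroup [Finite G] (p : ℕ) [Fact p.Prime] (hsol : IsPSolvable p G)
    (hOp : pCore p G = ⊥) (x : G) (n : ℕ) (hn : 1 ≤ n) (hord : orderOf x = p ^ n) :
    ∃ (q : ℕ) (Q : Subgroup G), q.Prime ∧ p ≠ q ∧ IsPGroup q Q ∧ (∀ g ∈ Q, x * g * x⁻¹ ∈ Q) ∧
      ∃ a ∈ Q, x ^ p ^ (n - 1) * a ≠ a * x ^ p ^ (n - 1) := by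
  classical
  have hp : p.Prime := Fact.out
  set K : Subgroup G := pPrimeCore p G with hKdef
  have hKn : K.Normal := inferInstance
  have hcore : ∀ N : Subgroup G, N.Normal → IsPGroup p N → N = ⊥ := by
    intro N hN hNp
    have := Cfsg.Agent.Lib.Helper1.le_pCore hN hNp
    rw [hOp] at this
    exact le_bot_iff.1 this
  have hKcent : Subgroup.centralizer (K : Set G) ≤ K :=
    Cfsg.Agent.Lib.Helper62.centralizer_pPrimeCore_le p hsol hcore
  have hKcop : (Nat.card K).Coprime p := Cfsg.Agent.Lib.Helper1.pPrimeCore_card_coprime p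
  have hxP : x ^ p ^ n = 1 := by rw [← hord]; exact pow_orderOf_eq_one x
  have hx₀p : (x ^ p ^ (n - 1)) ^ p ^ 1 = 1 := by
    rw [← pow_mul, ← pow_add, Nat.sub_add_cancel hn, hxP]
  have hx₀1 : x ^ p ^ (n - 1) ≠ 1 := by
    intro h1
    have := orderOf_dvd_iff_pow_eq_one.mpr h1
    rw [hord] at this
    have hlt : p ^ (n - 1) < p ^ n := Nat.pow_lt_pow_right hp.one_lt (by omega)
    exact absurd (Nat.le_of_dvd (pow_pos hp.pos _) this) (not_le.mpr hlt)
  generalize x ^ p ^ (n - 1) = x₀ at hx₀p hx₀1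
  by_contra hcon
  push Not at hcon
  have hzK : K ⊓ Subgroup.centralizer ({x₀} : Set G) = K := by
    apply eq_of_forall_sylow_le K _ inf_le_left
    intro q hq
    obtain ⟨Q, hQ⟩ := exists_invariant_sylow K p q hKcop x n hxP
    refine ⟨Q, ?_⟩
    set A : Subgroup G := (Q : Subgroup ↥K).map K.subtype with hA
    have hAK : A ≤ K := by
      rintro _ ⟨k, _, rfl⟩
      exact k.2
    refine le_inf hAK ?_
    by_cases hqp : q = p
    · subst hqp
      have hcard : Nat.card ↥(Q : Subgroup ↥K) = 1 := by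
        rw [Q.card_eq_multiplicity]
        have : (Nat.card ↥K).factorization q = 0 := by
          apply Nat.factorization_eq_zero_of_not_dvd
          intro hdvd
          have h2 : q ∣ Nat.gcd (Nat.card ↥K) q := Nat.dvd_gcd hdvd dvd_rfl
          rw [hKcop] at h2
          exact hp.one_lt.ne' (Nat.dvd_one.1 h2)
        rw [this, pow_zero]
      have hbot : (Q : Subgroup ↥K) = ⊥ := Subgroup.card_eq_one.1 hcard
      rintro _ ⟨k, hk, rfl⟩
      have hk1 : k = 1 := by
        have hk' : k ∈ (Q : Subgroup ↥K) := hk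
        rw [hbot] at hk'
        exact Subgroup.mem_bot.1 hk'
      rw [hk1, map_one]
      exact Subgroup.one_mem _
    · have hAq : IsPGroup q A := Q.2.map _
      have hAx : ∀ a ∈ A, x * a * x⁻¹ ∈ A := by
        rintro _ ⟨k, hk, rfl⟩
        refine ⟨(MulAut.conjNormal x : MulAut ↥K) k, hQ k hk, ?_⟩
        simp [MulAut.conjNormal_apply]
      intro a ha
      rw [Subgroup.mem_centralizer_iff]
      intro y hy
      rw [Set.mem_singleton_iff] at hy
      subst hy
      exact hcon q A hq.out (Ne.symm hqp) hAq hAx a ha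
  have hzcent : x₀ ∈ Subgroup.centralizer (K : Set G) := by
    rw [Subgroup.mem_centralizer_iff]
    intro k hk
    have hk' : k ∈ K ⊓ Subgroup.centralizer ({x₀} : Set G) := by rw [hzK]; exact hk
    have := Subgroup.mem_centralizer_iff.1 hk'.2 x₀ rfl
    exact this.symm
  have hx₀K : x₀ ∈ K := hKcent hzcent
  have h1 : x₀ ^ Nat.card K = 1 := by
    have := pow_card_eq_one' (G := ↥K) (x := ⟨x₀, hx₀K⟩)
    exact congrArg Subtype.val this
  exact hx₀1
    (Cfsg.Agent.Lib.Helper76.eq_one_of_pow_eq_one_of_coprime p x₀ (Nat.card K) 1 hKcop h1 hx₀p)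

open scoped Pointwise in
/-- If some `q`-subgroup is non-abelian, then no Sylow `q`-subgroup is commutative. -/
theorem not_comm_sylow [Finite G] (q : ℕ) [Fact q.Prime] (Q : Subgroup G) (hQ : IsPGroup q Q)
    (hnonab : ∃ g ∈ Q, ∃ h ∈ Q, g * h ≠ h * g) (S : Sylow q G) : ¬ IsMulCommutative S := by
  intro hS
  obtain ⟨g, hg, h, hh, hgh⟩ := hnonab
  obtain ⟨S', hS'⟩ := hQ.exists_le_sylow
  obtain ⟨k, hk⟩ := MulAction.exists_smul_eq G S S'
  have hk' : (MulAut.conj k • (S : Subgroup G)) = (S' : Subgroup G) := by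
    rw [← Sylow.coe_subgroup_smul, hk]
  have key : ∀ y : G, y ∈ (S' : Subgroup G) ↔ k⁻¹ * y * k ∈ (S : Subgroup G) := by
    intro y
    rw [← hk', Subgroup.mem_pointwise_smul_iff_inv_smul_mem]
    simp [MulAut.smul_def]
  have hg' := (key g).mp (hS' hg)
  have hh' := (key h).mp (hS' hh)
  have hcomm := hS.is_comm.comm (⟨_, hg'⟩ : S) ⟨_, hh'⟩
  have hcomm' : (k⁻¹ * g * k) * (k⁻¹ * h * k) = (k⁻¹ * h * k) * (k⁻¹ * g * k) :=
    congrArg Subtype.val hcomm
  apply hgh
  have e1 : g * h = k * ((k⁻¹ * g * k) * (k⁻¹ * h * k)) * k⁻¹ := by group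
  have e2 : h * g = k * ((k⁻¹ * h * k) * (k⁻¹ * g * k)) * k⁻¹ := by group
  rw [e1, e2, hcomm']

end Group

end Cfsg.Agent.Lib.Helper63.HHReduce
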