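import Mathlib
import Cfsg.Agent.S0633
import Cfsg.Agent.Lib.Helper63.WreathSec
import Cfsg.Agent.Lib.Helper63.FrattMod
import Cfsg.Agent.Lib.Helper63.HHAbGroup
import Cfsg.Agent.Lib.Helper88.Involves

/-!
# A `C_p ≀ C_p` section from Hall–Higman's Theorem B

`exists_wr_section`: let `p` be an odd prime which is not a Fermat prime, `Γ` a `p`-soluble group with
`O_{p'}(Γ) = 1` such that `p` divides `|Γ / O_p(Γ)|`.  Then `Γ` involves a group of the shape
`C_p ≀ C_p`.
-/

set_option autoImplicit false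
set_option linter.unusedSectionVars false
set_option linter.style.haveILetI false

namespace Cfsg.Agent.Lib.Helper63.WreathSec2

open Cfsg Cfsg.Agent.Lib.Helper63 Cfsg.Agent.Lib.Helper63.WreathSec Cfsg.Agent.Lib.Helper70

universe u

section LinRep

variable {Γ : Type*} [Group Γ] {p : ℕ} {M : Type*} [AddCommGroup M] [Module (ZMod p) M]

/-- Additive endomorphisms are `ZMod p`-linear. -/
def endToLin : AddMonoid.End M →* Module.End (ZMod p) M where
  toFun f := AddMonoidHom.toZModLinearMap p f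
  map_one' := rfl
  map_mul' _ _ := rfl

/-- An additive action as a linear representation. -/
noncomputable def linRep (ρ : Γ →* (AddMonoid.End M)ˣ) : Γ →* (M ≃ₗ[ZMod p] M) :=
  (LinearMap.GeneralLinearGroup.generalLinearEquiv (ZMod p) M).toMonoidHom.comp
    ((Units.map (endToLin (p := p) (M := M))).comp ρ)

theorem linRep_apply (ρ : Γ →* (AddMonoid.End M)ˣ) (g : Γ) (m : M) :
    linRep (p := p) ρ g m = ((ρ g : (AddMonoid.End M)ˣ) : AddMonoid.End M) m := rfl

theorem end_pow_apply (f : AddMonoid.End M) (T : Module.End (ZMod p) M) (h : ∀ m, T m = f m)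
    (i : ℕ) (m : M) : (f ^ i) m = (T ^ i) m := by
  induction i generalizing m with
  | zero => rfl
  | succ i ih =>
    rw [pow_succ, pow_succ, Module.End.mul_apply, h m, ← ih]
    rfl

theorem end_sum_apply (f : ℕ → AddMonoid.End M) (n : ℕ) (m : M) :
    (∑ i ∈ Finset.range n, f i) m = ∑ i ∈ Finset.range n, (f i) m := by
  induction n with
  | zero => rfl
  | succ n ih =>
    rw [Finset.sum_range_succ, Finset.sum_range_succ, ← ih]
    rfl

end LinRep

theorem exists_wr_section {Γ : Type u} [Group Γ] [Finite Γ] {p : ℕ} [hp : Fact p.Prime]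
    (hp2 : p ≠ 2) (hnf : ¬ ∃ k : ℕ, p = 2 ^ k + 1) (hsol : IsPSolvable p Γ)
    (hcore : pPrimeCore p Γ = ⊥) (hdvd : p ∣ Nat.card (Γ ⧸ pCore p Γ)) :
    ∃ (W' : Type u) (_ : Group W'), IsWr p W' ∧ Involves W' Γ := by
  classical
  have hpp : p.Prime := hp.out
  have hP₁n : (pCore p Γ).Normal := inferInstance
  have hP₁p : IsPGroup p (pCore p Γ) := Cfsg.Agent.Lib.Helper1.pCore_isPGroup p
  have hcoreN : ∀ N : Subgroup Γ, N.Normal → (Nat.card N).Coprime p → N = ⊥ := by
    intro N hN hNp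
    have := Cfsg.Agent.Lib.Helper1.le_pPrimeCore hN hNp
    rw [hcore] at this
    exact le_bot_iff.1 this
  have hcent : Subgroup.centralizer (pCore p Γ : Set Γ) ≤ pCore p Γ :=
    Cfsg.Agent.Lib.Helper76.centralizer_pCore_le p hsol hcoreN
  have htriv : trivOnFrattiniQuot (pCore p Γ) ≤ pCore p Γ :=
    trivOnFrattiniQuot_le (pCore p Γ) hP₁p hcent
      (fun N hN hNp => Cfsg.Agent.Lib.Helper1.le_pCore hN hNp)
  obtain ⟨M, instM, ρ, π, D⟩ := exists_frattData (pCore p Γ) hP₁p
  haveI : Module (ZMod p) M := AddCommGroup.zmodModule D.exp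
  haveI : Finite M := Finite.of_surjective π D.surj
  set r : Γ →* (M ≃ₗ[ZMod p] M) := linRep ρ with hr
  have hr_apply : ∀ g m, r g m = ((ρ g : (AddMonoid.End M)ˣ) : AddMonoid.End M) m :=
    fun g m => rfl
  have hker1 : ∀ g, r g = 1 → g ∈ pCore p Γ := by
    intro g hg
    apply htriv
    apply D.mem_trivOnFrattiniQuot
    apply Units.ext
    apply AddMonoidHom.ext
    intro m
    have := congrArg (fun f : M ≃ₗ[ZMod p] M => f m) hg
    exact this
  have hker2 : ∀ g ∈ pCore p Γ, r g = 1 := by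
    intro g hg
    have h1 := D.eq_one_of_mem (le_trivOnFrattiniQuot (pCore p Γ) hP₁p hg)
    apply LinearEquiv.ext
    intro m
    rw [hr_apply, h1]
    rfl
  -- an element of order `p` modulo `O_p`
  obtain ⟨ybar, hy⟩ := exists_prime_orderOf_dvd_card' p hdvd
  obtain ⟨g, rfl⟩ := QuotientGroup.mk'_surjective (pCore p Γ) ybar
  have hgP₁ : g ∉ pCore p Γ := by
    intro h
    have h1 : (QuotientGroup.mk' (pCore p Γ) g) = 1 := (QuotientGroup.eq_one_iff g).mpr h
    rw [h1, orderOf_one] at hy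
    exact hpp.one_lt.ne hy
  have hgp : g ^ p ∈ pCore p Γ := by
    rw [← QuotientGroup.eq_one_iff, QuotientGroup.mk_pow]
    have := pow_orderOf_eq_one (QuotientGroup.mk' (pCore p Γ) g)
    rw [hy] at this
    exact this
  set x : M ≃ₗ[ZMod p] M := r g with hx
  have hxp : x ^ p = 1 := by
    rw [hx, ← map_pow]
    exact hker2 _ hgp
  have hx1 : x ≠ 1 := fun h => hgP₁ (hker1 g h)
  have hxord : orderOf x = p := orderOf_eq_prime hxp hx1
  haveI : Finite r.range := Finite.of_surjective r.rangeRestrict r.rangeRestrict_surjective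
  have hsolH : IsPSolvable p ↥r.range :=
    Cfsg.Agent.Lib.Helper76.IsPSolvable_of_surjective p r.rangeRestrict
      r.rangeRestrict_surjective hsol
  have hOpH : pCore p ↥r.range = ⊥ := by
    rw [eq_bot_iff]
    apply sSup_le
    rintro N ⟨hNn, hNp⟩
    intro y hy
    obtain ⟨g', hg'⟩ := r.rangeRestrict_surjective y
    have hcomap_n : (N.comap r.rangeRestrict).Normal := hNn.comap _
    have hcomap_p : IsPGroup p (N.comap r.rangeRestrict) := by
      apply hNp.comap_of_ker_isPGroup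
      apply hP₁p.to_le
      intro k hk
      apply hker1
      have := (MonoidHom.mem_ker).mp hk
      exact congrArg Subtype.val this
    have h3 := Cfsg.Agent.Lib.Helper1.le_pCore hcomap_n hcomap_p
    have hg'P : g' ∈ pCore p Γ := h3 (by
      show r.rangeRestrict g' ∈ N
      rw [hg']; exact hy)
    rw [Subgroup.mem_bot, ← hg']
    apply Subtype.ext
    exact hker2 g' hg'P
  haveI : Nontrivial M := by
    by_contra hnt
    have : Subsingleton M := not_nontrivial_iff_subsingleton.mp hnt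
    exact hx1 (LinearEquiv.ext fun m => Subsingleton.elim _ _)
  set T : Module.End (ZMod p) M := (x : Module.End (ZMod p) M) with hT
  have hTapp : ∀ m, T m = ((ρ g : (AddMonoid.End M)ˣ) : AddMonoid.End M) m := fun m => rfl
  have hTp : T ^ p = 1 := by
    have h1 : LinearEquiv.automorphismGroup.toLinearMapMonoidHom x = T := rfl
    rw [← h1, ← map_pow, hxp, map_one]
  have hNp : (T - 1) ^ p = 0 := by
    have := HHCore1.sub_one_pow_char_pow (ZMod p) p T 1
    rw [pow_one, hTp, sub_self] at this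
    exact this
  have hint : IsIntegral (ZMod p) T := Algebra.IsIntegral.isIntegral T
  have haev : ∀ k : ℕ, Polynomial.aeval T ((Polynomial.X - Polynomial.C 1 : Polynomial (ZMod p)) ^ k)
      = (T - 1) ^ k := by
    intro k
    simp
  have hdvd' : minpoly (ZMod p) T ∣ (Polynomial.X - Polynomial.C 1) ^ p := by
    apply minpoly.dvd
    rw [haev, hNp]
  obtain ⟨r', hr'p, hassoc⟩ := (dvd_prime_pow (Polynomial.prime_X_sub_C 1) p).mp hdvd'
  have hX : (Polynomial.X - 1 : Polynomial (ZMod p)) = Polynomial.X - Polynomial.C 1 := by simp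
  have hmin : minpoly (ZMod p) T = (Polynomial.X - 1) ^ r' := by
    rw [hX]
    exact Polynomial.eq_of_monic_of_associated (minpoly.monic hint)
      ((Polynomial.monic_X_sub_C 1).pow r') hassoc
  have hB := Cfsg.Agent.S0633.result r.range hsolH hOpH x ⟨g, rfl⟩ 1
    (by rw [pow_one]; exact hxord) r' hmin
  rcases hB with hB | ⟨n₀, q, m, h1, h2, hq, hm1, hpq, -, -⟩
  swap
  · exfalso
    have hn₀ : n₀ = 1 := le_antisymm h2 h1
    subst hn₀
    rw [pow_one] at hpq
    have hodd : Odd p := hpp.odd_of_ne_two hp2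
    have h2dvd : 2 ∣ q ^ m := by
      rw [← hpq]
      obtain ⟨k, hk⟩ := hodd
      exact ⟨k, by omega⟩
    have hq2 : q = 2 := by
      have := Nat.Prime.dvd_of_dvd_pow Nat.prime_two h2dvd
      exact ((Nat.prime_dvd_prime_iff_eq Nat.prime_two hq).mp this).symm
    apply hnf
    refine ⟨m, ?_⟩
    rw [← hq2, ← hpq]
    have := hpp.pos
    omega
  rw [pow_one] at hB
  have hNne : (T - 1) ^ (p - 1) ≠ 0 := by
    intro h0
    have h1 : minpoly (ZMod p) T ∣ (Polynomial.X - Polynomial.C 1) ^ (p - 1) := by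
      apply minpoly.dvd
      rw [haev, h0]
    rw [hmin, hB, hX] at h1
    have h4 := Polynomial.natDegree_le_of_dvd h1 (pow_ne_zero _ (Polynomial.X_sub_C_ne_zero 1))
    rw [Polynomial.natDegree_pow, Polynomial.natDegree_pow, Polynomial.natDegree_X_sub_C, mul_one,
      mul_one] at h4
    have := hpp.pos
    omega
  -- the block quotient
  have hTπ : ∀ v : ↥(pCore p Γ), T (π v) = π ⟨g * v * g⁻¹, hP₁n.conj_mem v v.2 g⟩ :=
    fun v => D.act g v
  have hTz : T (π ⟨g ^ p, hgp⟩) = π ⟨g ^ p, hgp⟩ := by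
    rw [hTπ]
    congr 1
    apply Subtype.ext
    show g * g ^ p * g⁻¹ = g ^ p
    rw [← pow_succ', pow_succ, mul_inv_cancel_right]
  obtain ⟨Λ, m₀, c, hΛs, hΛT, hΛz⟩ := exists_block_quotient T hTp hNne _ hTz
  -- correct `g`
  obtain ⟨v₀, hv₀⟩ := D.surj (c • m₀)
  obtain ⟨w, hw1, hw2⟩ := D.exists_norm g v₀ p
  have hg'P : (v₀ : Γ) * g ∉ pCore p Γ := fun h => hgP₁ (by
    have := (pCore p Γ).mul_mem ((pCore p Γ).inv_mem v₀.2) h
    rwa [inv_mul_cancel_left] at this)
  have hg'p : ((v₀ : Γ) * g) ^ p ∈ pCore p Γ := by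
    rw [← hw1]
    exact (pCore p Γ).mul_mem w.2 hgp
  have hπg'p : π ⟨((v₀ : Γ) * g) ^ p, hg'p⟩ =
      π ⟨g ^ p, hgp⟩ + c • ((T - 1) ^ (p - 1)) m₀ := by
    have e : (⟨((v₀ : Γ) * g) ^ p, hg'p⟩ : ↥(pCore p Γ)) = w * ⟨g ^ p, hgp⟩ :=
      Subtype.ext hw1.symm
    rw [e, D.add, ← hw2, hv₀, add_comm]
    congr 1
    have hgs := HHCritLA.geom_sum_eq_sub_one_pow (ZMod p) p T 1
    rw [pow_one] at hgs
    rw [← map_smul, ← hgs, LinearMap.sum_apply, end_sum_apply]
    refine Finset.sum_congr rfl (fun i _ => ?_)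
    exact end_pow_apply _ T hTapp i _
  have hρg' : ρ ((v₀ : Γ) * g) = ρ g := by
    rw [map_mul, D.eq_one_of_mem (le_trivOnFrattiniQuot (pCore p Γ) hP₁p v₀.2), one_mul]
  -- the subgroup `K`
  set K : Subgroup Γ := pCore p Γ ⊔ Subgroup.zpowers ((v₀ : Γ) * g) with hK
  have hP₁K : pCore p Γ ≤ K := le_sup_left
  have hg'K : (v₀ : Γ) * g ∈ K :=
    (le_sup_right : Subgroup.zpowers ((v₀ : Γ) * g) ≤ K) (Subgroup.mem_zpowers _)
  haveI hNn : ((pCore p Γ).subgroupOf K).Normal := Subgroup.normal_subgroupOf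
  have hgen : (pCore p Γ).subgroupOf K ⊔ Subgroup.zpowers (⟨(v₀ : Γ) * g, hg'K⟩ : ↥K) = ⊤ := by
    apply Subgroup.map_injective K.subtype_injective
    rw [Subgroup.map_sup, Subgroup.map_subgroupOf_eq_of_le hP₁K, MonoidHom.map_zpowers,
      ← MonoidHom.range_eq_map, Subgroup.range_subtype]
    rfl
  let toP : ↥((pCore p Γ).subgroupOf K) → ↥(pCore p Γ) :=
    fun v => ⟨((v : ↥K) : Γ), Subgroup.mem_subgroupOf.mp v.2⟩
  let φ : ↥((pCore p Γ).subgroupOf K) →* Multiplicative (Fin p → ZMod p) :=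
    { toFun := fun v => Multiplicative.ofAdd (Λ (π (toP v)))
      map_one' := by
        show Multiplicative.ofAdd (Λ (π 1)) = 1
        rw [D.map_one, map_zero]
        rfl
      map_mul' := by
        intro a b
        show Multiplicative.ofAdd (Λ (π (toP a * toP b))) = _
        rw [D.add, map_add]
        rfl }
  have hφapp : ∀ v, (φ v).toAdd = Λ (π (toP v)) := fun v => rfl
  have hφs : Function.Surjective φ := by
    intro y
    obtain ⟨m, hm⟩ := hΛs y.toAdd
    obtain ⟨v, hv⟩ := D.surj m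
    refine ⟨⟨⟨(v : Γ), hP₁K v.2⟩, Subgroup.mem_subgroupOf.mpr v.2⟩, ?_⟩
    apply Multiplicative.toAdd.injective
    rw [hφapp]
    show Λ (π v) = _
    rw [hv, hm]
  obtain ⟨R, hRn, hWr⟩ := isWr_quotient p ((pCore p Γ).subgroupOf K) ⟨(v₀ : Γ) * g, hg'K⟩
    (fun h => hg'P (Subgroup.mem_subgroupOf.mp h)) hgen φ hφs
    ⟨Subgroup.mem_subgroupOf.mpr (by
        show ((⟨(v₀ : Γ) * g, hg'K⟩ : ↥K) ^ p : ↥K).1 ∈ pCore p Γ
        exact hg'p), by
      apply Multiplicative.toAdd.injective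
      rw [hφapp]
      show Λ (π ⟨((v₀ : Γ) * g) ^ p, hg'p⟩) = 0
      rw [hπg'p, hΛz]⟩
    (by
      intro v
      rw [hφapp, hφapp, ← hΛT, hTapp, ← hρg']
      congr 1
      exact (D.act ((v₀ : Γ) * g) (toP v)).symm)
  refine ⟨↥K ⧸ R, inferInstance, hWr, ?_⟩
  exact (Cfsg.Agent.Lib.Helper88.involves_iff_exists_surj).mpr
    ⟨K, QuotientGroup.mk' R, QuotientGroup.mk'_surjective R⟩

end Cfsg.Agent.Lib.Helper63.WreathSec2
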