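import Mathlib.GroupTheory.PGroup
import Mathlib.GroupTheory.Sylow
import Mathlib.GroupTheory.Index

/-!
Sylow conjugacy inside a subgroup, phrased with `Subgroup.map (MulAut.conj k)`.
-/

set_option autoImplicit false

namespace Cfsg.Agent.Lib.Helper63

open scoped Pointwise

theorem mem_map_conj_iff {G : Type*} [Group G] (P : Subgroup G) (k x : G) :
    x ∈ P.map (MulAut.conj k).toMonoidHom ↔ k⁻¹ * x * k ∈ P := by
  constructor
  · rintro ⟨u, hu, rfl⟩
    simpa [MulAut.conj_apply, mul_assoc] using hu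
  · intro h
    exact ⟨k⁻¹ * x * k, h, by simp [MulAut.conj_apply, mul_assoc]⟩

/-- Sylow conjugacy inside a subgroup `K`: two `p`-subgroups of `K` whose indices in `K` are prime
to `p` are conjugate by an element of `K`. -/
theorem exists_conj_eq_of_relIndex {G : Type*} [Group G] [Finite G] {p : ℕ} [Fact p.Prime]
    (K P₁ P₂ : Subgroup G) (h₁ : P₁ ≤ K) (h₂ : P₂ ≤ K) (hP₁ : IsPGroup p P₁)
    (hP₂ : IsPGroup p P₂) (hi₁ : ¬ p ∣ P₁.relIndex K) (hi₂ : ¬ p ∣ P₂.relIndex K) :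
    ∃ k ∈ K, P₂ = P₁.map (MulAut.conj k).toMonoidHom := by
  let S₁ : Sylow p K := (hP₁.comap_subtype (K := K)).toSylow hi₁
  let S₂ : Sylow p K := (hP₂.comap_subtype (K := K)).toSylow hi₂
  obtain ⟨k, hk⟩ := MulAction.exists_smul_eq K S₁ S₂
  have hk' : (MulAut.conj k • (S₁ : Subgroup K)) = (S₂ : Subgroup K) := by
    rw [← Sylow.coe_subgroup_smul, hk]
  have key : ∀ y : K, y ∈ (S₂ : Subgroup K) ↔ k⁻¹ * y * k ∈ (S₁ : Subgroup K) := by
    intro y
    rw [← hk', Subgroup.mem_pointwise_smul_iff_inv_smul_mem]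
    simp [MulAut.smul_def]
  refine ⟨k, k.2, ?_⟩
  ext x
  rw [mem_map_conj_iff]
  constructor
  · intro hx
    have := (key ⟨x, h₂ hx⟩).1 (by simpa [S₂, Subgroup.mem_subgroupOf] using hx)
    simpa [S₁, Subgroup.mem_subgroupOf] using this
  · intro hx
    have hxK : x ∈ K := by
      have h3 : (k : G)⁻¹ * x * (k : G) ∈ K := h₁ hx
      have h4 : x = (k : G) * ((k : G)⁻¹ * x * (k : G)) * (k : G)⁻¹ := by group
      rw [h4]
      exact K.mul_mem (K.mul_mem k.2 h3) (K.inv_mem k.2)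
    have := (key ⟨x, hxK⟩).2 (by simpa [S₁, Subgroup.mem_subgroupOf] using hx)
    simpa [S₂, Subgroup.mem_subgroupOf] using this

end Cfsg.Agent.Lib.Helper63
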