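import Cfsg.Agent.Lib.Helper63.QuadCW3

/-!
Consequences of the master inequality: `|K : N| ≤ |S|²`, and the analysis of the case of equality.
(helper63, for S3773)
-/

set_option autoImplicit false
set_option linter.unusedSectionVars false

namespace Cfsg.Agent.Lib.Helper63

open scoped commutatorElement

variable {G : Type*} [Group G] [Finite G]

/-- `|K : N| ≤ |S|²` when `S ≤ N` contains the squares of `K` and all commutators -/
theorem Sq4.relIndex_le (h : Sq4 G) (K S : Subgroup G) (hSN : S ≤ h.inv)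
    (hS2 : ∀ a ∈ K, a ^ 2 ∈ S) (hSc : ∀ a b : G, ⁅a, b⁆ ∈ S) :
    h.inv.relIndex K ≤ (Nat.card S) ^ 2 := by
  by_contra hcon
  push Not at hcon
  have hlt : ((⊥ : Subgroup G).relIndex S) ^ 2 < h.inv.relIndex K := by
    rw [Subgroup.relIndex_bot_left]
    exact hcon
  obtain ⟨x, _, hxN, hx2⟩ := h.master K S ⊥ hSN hS2 hSc hlt
  apply hxN
  rw [h.mem_inv]
  exact Subgroup.mem_bot.1 hx2

/-- a homomorphism to a group of order two has a kernel of index at most two -/
theorem index_ker_le_two (φ : G →* Multiplicative (ZMod 2)) : φ.ker.index ∣ 2 := by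
  rw [Subgroup.index_ker]
  have h1 : Nat.card φ.range ∣ Nat.card (Multiplicative (ZMod 2)) :=
    Subgroup.card_subgroup_dvd_card _
  have h2 : Nat.card (Multiplicative (ZMod 2)) = 2 := by
    rw [Nat.card_congr Multiplicative.toAdd, Nat.card_zmod]
  rwa [h2] at h1


theorem card_mul_relIndex' {H K : Subgroup G} (hHK : H ≤ K) :
    Nat.card H * H.relIndex K = Nat.card K := by
  have := Subgroup.relIndex_mul_relIndex ⊥ H K bot_le hHK
  rwa [Subgroup.relIndex_bot_left, Subgroup.relIndex_bot_left] at this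

theorem Sq4.quot_exp (h : Sq4 G) (a : G ⧸ h.inv) : a ^ 2 = 1 := by
  obtain ⟨a, rfl⟩ := QuotientGroup.mk_surjective a
  rw [← QuotientGroup.mk_pow, QuotientGroup.eq_one_iff]
  exact h.sq_mem _

/-- in the case of equality the centre has exponent two -/
theorem Sq4.center_le (h : Sq4 G) (n : ℕ) (hn : Nat.card h.inv = n)
    (hidx : h.inv.index = n ^ 2) : Subgroup.center G ≤ h.inv := by
  intro z hz
  by_contra hzN
  have hw2 : (z ^ 2) ^ 2 = 1 := (h.mem_inv _).1 (h.sq_mem z)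
  have hwN : z ^ 2 ∈ h.inv := h.sq_mem z
  have hw1 : z ^ 2 ≠ 1 := fun h1 => hzN ((h.mem_inv z).2 h1)
  -- a functional on `G / N` not vanishing on `z`
  have hEp : IsPGroup 2 (G ⧸ h.inv) := fun a => ⟨1, by rw [pow_one]; exact h.quot_exp a⟩
  obtain ⟨m, hm⟩ := IsPGroup.iff_card.1 hEp
  obtain ⟨lam, hadd, hker, -, -⟩ := exists_functionals h.quot_exp ⊥ m
    (by rw [Subgroup.card_bot, mul_one]; exact hm)
  have hzq : (QuotientGroup.mk z : G ⧸ h.inv) ≠ 1 :=
    fun h1 => hzN ((QuotientGroup.eq_one_iff z).1 h1)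
  obtain ⟨k, hk⟩ : ∃ k, lam k (QuotientGroup.mk z) ≠ 0 := by
    by_contra hcon
    push Not at hcon
    exact hzq (Subgroup.mem_bot.1 (hker _ hcon))
  have hlam1 : lam k 1 = 0 := by
    have h1 := hadd k 1 1
    rw [mul_one] at h1
    exact left_eq_add.1 h1
  let φ : G →* Multiplicative (ZMod 2) := MonoidHom.mk'
    (fun g => Multiplicative.ofAdd (lam k (QuotientGroup.mk g))) (by
      intro a b
      rw [QuotientGroup.mk_mul, hadd]
      rfl)
  have hNH : h.inv ≤ φ.ker := by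
    intro g hg
    rw [MonoidHom.mem_ker]
    show Multiplicative.ofAdd (lam k (QuotientGroup.mk g)) = 1
    have h1 : (QuotientGroup.mk g : G ⧸ h.inv) = 1 := (QuotientGroup.eq_one_iff g).2 hg
    rw [h1, hlam1]
    rfl
  have hzH : z ∉ φ.ker := by
    intro h1
    rw [MonoidHom.mem_ker] at h1
    apply hk
    exact Multiplicative.ofAdd.injective h1
  have hHidx : φ.ker.index ∣ 2 := index_ker_le_two φ
  have hmul := Subgroup.relIndex_mul_index hNH
  have hMN : Subgroup.zpowers (z ^ 2) ≤ h.inv := Subgroup.zpowers_le.2 hwN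
  have hcardM : Nat.card (Subgroup.zpowers (z ^ 2)) = 2 := by
    rw [Nat.card_zpowers]
    exact orderOf_eq_prime hw2 hw1
  have hrel := card_mul_relIndex' hMN
  rw [hcardM, hn] at hrel
  have hlt : ((Subgroup.zpowers (z ^ 2)).relIndex h.inv) ^ 2 < h.inv.relIndex φ.ker := by
    rw [hidx] at hmul
    have hle : φ.ker.index ≤ 2 := Nat.le_of_dvd (by norm_num) hHidx
    have hpos : 0 < φ.ker.index := Nat.pos_of_ne_zero Subgroup.index_ne_zero_of_finite
    have hn0 : 0 < n := by rw [← hn]; exact Nat.card_pos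
    nlinarith
  obtain ⟨x, hxH, hxN, hx2⟩ := h.master φ.ker h.inv (Subgroup.zpowers (z ^ 2)) le_rfl
    (fun a _ => h.sq_mem a) h.comm_mem hlt
  obtain ⟨j, hj⟩ := Subgroup.mem_zpowers_iff.1 hx2
  have hcase : x ^ 2 = 1 ∨ x ^ 2 = z ^ 2 := by
    rcases Int.even_or_odd j with ⟨c, hc⟩ | ⟨c, hc⟩
    · left
      rw [← hj, hc, ← two_mul, zpow_mul, zpow_two, ← pow_two, hw2, one_zpow]
    · right
      rw [← hj, hc, zpow_add, zpow_one, zpow_mul, zpow_two, ← pow_two, hw2, one_zpow, one_mul]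
  rcases hcase with h1 | h1
  · exact hxN ((h.mem_inv x).2 h1)
  · have hzinv : ∀ g : G, g * z⁻¹ = z⁻¹ * g :=
      Subgroup.mem_center_iff.1 ((Subgroup.center G).inv_mem hz)
    have h2 : (x * z⁻¹) ^ 2 = 1 := by
      have h3 : (x * z⁻¹) ^ 2 = x ^ 2 * (z ^ 2)⁻¹ := by
        rw [pow_two, pow_two, pow_two]
        calc x * z⁻¹ * (x * z⁻¹) = x * (z⁻¹ * x) * z⁻¹ := by simp only [mul_assoc]
          _ = x * (x * z⁻¹) * z⁻¹ := by rw [← hzinv x]
          _ = x * x * (z * z)⁻¹ := by rw [mul_inv_rev]; simp only [mul_assoc]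
      rw [h3, h1, mul_inv_cancel]
    have h3 : x * z⁻¹ ∈ φ.ker := hNH ((h.mem_inv _).2 h2)
    apply hzH
    have h4 : z = (x * z⁻¹)⁻¹ * x := by group
    rw [h4]
    exact φ.ker.mul_mem (φ.ker.inv_mem h3) hxH


theorem Sq4.commutator_le (h : Sq4 G) : commutator G ≤ h.inv := by
  rw [commutator_def, Subgroup.commutator_le]
  intro a _ b _
  exact h.comm_mem a b

/-- in the case of equality the derived subgroup consists of all involutions -/
theorem Sq4.commutator_eq (h : Sq4 G) (n : ℕ) (hn : Nat.card h.inv = n)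
    (hidx : h.inv.index = n ^ 2) : commutator G = h.inv := by
  classical
  by_contra hne
  have hlt' : commutator G < h.inv := lt_of_le_of_ne h.commutator_le hne
  have hNexp : ∀ a : ↥h.inv, a ^ 2 = 1 := fun a => Subtype.ext ((h.mem_inv _).1 a.2)
  have hNp : IsPGroup 2 ↥h.inv := fun a => ⟨1, by rw [pow_one]; exact hNexp a⟩
  obtain ⟨t, ht⟩ := hNp.index ((commutator G).subgroupOf h.inv)
  have hcardN : Nat.card ↥h.inv = 2 ^ t * Nat.card ((commutator G).subgroupOf h.inv) := by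
    rw [← ht]
    exact (Subgroup.index_mul_card _).symm
  have ht0 : t ≠ 0 := by
    intro h0
    rw [h0, pow_zero] at ht
    have h1 := Subgroup.index_eq_one.1 ht
    rw [Subgroup.subgroupOf_eq_top] at h1
    exact absurd h1 (not_le_of_gt hlt')
  obtain ⟨t', rfl⟩ := Nat.exists_eq_succ_of_ne_zero ht0
  obtain ⟨lam, hadd, -, hvan, hsurj⟩ := exists_functionals hNexp _ (t' + 1) hcardN
  have hlam1 : lam 0 1 = 0 := by
    have h1 := hadd 0 1 1
    rw [mul_one] at h1
    exact left_eq_add.1 h1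
  -- the functional `μ` on `G`
  have hμadd : AddOn h.inv (fun g => if hg : g ∈ h.inv then lam 0 ⟨g, hg⟩ else 0) := by
    intro a ha b hb
    show (if hg : a * b ∈ h.inv then lam 0 ⟨a * b, hg⟩ else 0) =
      (if hg : a ∈ h.inv then lam 0 ⟨a, hg⟩ else 0) + (if hg : b ∈ h.inv then lam 0 ⟨b, hg⟩ else 0)
    rw [dif_pos (h.inv.mul_mem ha hb), dif_pos ha, dif_pos hb]
    exact hadd 0 ⟨a, ha⟩ ⟨b, hb⟩
  have hcommvan : ∀ a b : G, lam 0 ⟨⁅a, b⁆, h.comm_mem a b⟩ = 0 := by
    intro a b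
    apply hvan
    rw [Subgroup.mem_subgroupOf, commutator_def]
    exact Subgroup.commutator_mem_commutator (Subgroup.mem_top a) (Subgroup.mem_top b)
  have hμcomm : ∀ a b : G, (fun g => if hg : g ∈ h.inv then lam 0 ⟨g, hg⟩ else 0) ⁅a, b⁆ = 0 := by
    intro a b
    show (if hg : ⁅a, b⁆ ∈ h.inv then lam 0 ⟨⁅a, b⁆, hg⟩ else 0) = 0
    rw [dif_pos (h.comm_mem a b)]
    exact hcommvan a b
  -- the homomorphism `g ↦ μ (g ^ 2)`
  let ψ : G →* Multiplicative (ZMod 2) := MonoidHom.mk'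
    (fun g => Multiplicative.ofAdd
      ((fun g => if hg : g ∈ h.inv then lam 0 ⟨g, hg⟩ else 0) (g ^ 2))) (by
      intro a b
      rw [sq_mul_of_central h.hc, hμadd _ (h.inv.mul_mem (h.sq_mem a) (h.sq_mem b)) _
        (h.comm_mem b a), hμadd _ (h.sq_mem a) _ (h.sq_mem b), hμcomm, add_zero]
      rfl)
  have hψ : ∀ g, g ∈ ψ.ker ↔ lam 0 ⟨g ^ 2, h.sq_mem g⟩ = 0 := by
    intro g
    rw [MonoidHom.mem_ker]
    show Multiplicative.ofAdd (if hg : g ^ 2 ∈ h.inv then lam 0 ⟨g ^ 2, hg⟩ else 0) = 1 ↔ _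
    rw [dif_pos (h.sq_mem g)]
    exact ⟨fun h1 => Multiplicative.ofAdd.injective h1, fun h1 => by rw [h1]; rfl⟩
  have hNK : h.inv ≤ ψ.ker := by
    intro g hg
    rw [hψ]
    have h1 : (⟨g ^ 2, h.sq_mem g⟩ : ↥h.inv) = 1 := Subtype.ext ((h.mem_inv g).1 hg)
    rw [h1, hlam1]
  have hKidx := index_ker_le_two ψ
  -- the kernel of `lam 0` on `N`
  let ψ₀ : ↥h.inv →* Multiplicative (ZMod 2) := MonoidHom.mk'
    (fun a => Multiplicative.ofAdd (lam 0 a)) (by
      intro a b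
      rw [hadd]
      rfl)
  have hψ₀ : ∀ a, a ∈ ψ₀.ker ↔ lam 0 a = 0 := by
    intro a
    rw [MonoidHom.mem_ker]
    exact ⟨fun h1 => Multiplicative.ofAdd.injective h1, fun h1 => by
      show Multiplicative.ofAdd (lam 0 a) = 1
      rw [h1]; rfl⟩
  have hidx0 : ψ₀.ker.index = 2 := by
    have h1 := index_ker_le_two ψ₀
    rcases (Nat.dvd_prime Nat.prime_two).1 h1 with h2 | h2
    · exfalso
      have h3 := Subgroup.index_eq_one.1 h2
      obtain ⟨a, ha⟩ := hsurj 0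
      have h4 : a ∈ ψ₀.ker := by rw [h3]; exact Subgroup.mem_top a
      rw [hψ₀, ha] at h4
      exact one_ne_zero h4
    · exact h2
  have hSN : ψ₀.ker.map h.inv.subtype ≤ h.inv := Subgroup.map_subtype_le _
  have hcardS : Nat.card (ψ₀.ker.map h.inv.subtype) * 2 = n := by
    have h1 := Subgroup.card_mul_index ψ₀.ker
    rw [hidx0, hn] at h1
    rw [Subgroup.card_map_of_injective h.inv.subtype_injective]
    exact h1
  have hS2 : ∀ a ∈ ψ.ker, a ^ 2 ∈ ψ₀.ker.map h.inv.subtype := by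
    intro a ha
    refine ⟨⟨a ^ 2, h.sq_mem a⟩, ?_, rfl⟩
    rw [SetLike.mem_coe, hψ₀]
    exact (hψ a).1 ha
  have hSc : ∀ a b : G, ⁅a, b⁆ ∈ ψ₀.ker.map h.inv.subtype := by
    intro a b
    refine ⟨⟨⁅a, b⁆, h.comm_mem a b⟩, ?_, rfl⟩
    rw [SetLike.mem_coe, hψ₀]
    exact hcommvan a b
  have hle := h.relIndex_le ψ.ker _ hSN hS2 hSc
  have hmul := Subgroup.relIndex_mul_index hNK
  rw [hidx] at hmul
  have hle2 : ψ.ker.index ≤ 2 := Nat.le_of_dvd (by norm_num) hKidx
  have hpos : 0 < ψ.ker.index := Nat.pos_of_ne_zero Subgroup.index_ne_zero_of_finite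
  have hn0 : 0 < n := by rw [← hn]; exact Nat.card_pos
  nlinarith

end Cfsg.Agent.Lib.Helper63
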