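import Cfsg.Agent.Lib.Helper63.PLen2

/-!
`p`-length API (continued): the first steps of a `p`-series when `O_{p'}(G) = 1`, reduction modulo
`O_p(G)`, Sylow subgroups of quotients and derived series.
-/

set_option autoImplicit false
set_option linter.unusedSectionVars false

namespace Cfsg.Agent.Lib.Helper63

open Cfsg

section first

variable {G : Type*} [Group G] [Finite G] {p : ℕ} [hp : Fact p.Prime]

theorem IsPSeries.succ_le_pPrimeCore {V : ℕ → Subgroup G} (hV : IsPSeries p V) {i : ℕ}
    (hi : Even i) (h : V i = ⊥) : V (i + 1) ≤ pPrimeCore p G := by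
  apply Cfsg.Agent.Lib.Helper1.le_pPrimeCore (hV.normal (i + 1))
  have h1 := hV.even i hi
  rw [h, Subgroup.relIndex_bot_left] at h1
  exact h1

theorem IsPSeries.succ_le_pCore {V : ℕ → Subgroup G} (hV : IsPSeries p V) {i : ℕ}
    (hi : ¬ Even i) (h : V i = ⊥) : V (i + 1) ≤ pCore p G := by
  apply Cfsg.Agent.Lib.Helper1.le_pCore (hV.normal (i + 1))
  obtain ⟨m, hm⟩ := hV.odd i hi
  rw [h, Subgroup.relIndex_bot_left] at hm
  exact IsPGroup.of_card hm

theorem IsPSeries.one_eq_bot {V : ℕ → Subgroup G} (hV : IsPSeries p V)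
    (h0 : pPrimeCore p G = ⊥) : V 1 = ⊥ := by
  have := hV.succ_le_pPrimeCore (i := 0) ⟨0, rfl⟩ hV.zero
  rw [h0] at this
  exact le_bot_iff.1 this

theorem IsPSeries.two_le_pCore {V : ℕ → Subgroup G} (hV : IsPSeries p V)
    (h0 : pPrimeCore p G = ⊥) : V 2 ≤ pCore p G :=
  hV.succ_le_pCore (i := 1) (by decide) (hV.one_eq_bot h0)

theorem IsPSeries.eq_bot_of_cores {V : ℕ → Subgroup G} (hV : IsPSeries p V)
    (h0 : pPrimeCore p G = ⊥) (h1 : pCore p G = ⊥) (j : ℕ) : V j = ⊥ := by
  induction j with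
  | zero => exact hV.zero
  | succ j ih =>
    by_cases hj : Even j
    · have := hV.succ_le_pPrimeCore hj ih
      rw [h0] at this
      exact le_bot_iff.1 this
    · have := hV.succ_le_pCore hj ih
      rw [h1] at this
      exact le_bot_iff.1 this

/-- a group with trivial `p'`-core and `p`-length `0` is trivial -/
theorem top_eq_bot_of_plen_zero (h : PLengthLE p 0 G) (h0 : pPrimeCore p G = ⊥) :
    (⊤ : Subgroup G) = ⊥ := by
  obtain ⟨V, hV, htop⟩ := (pLengthLE_iff 0).1 h
  rw [← htop]
  exact hV.one_eq_bot h0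

/-- a group with trivial `p'`-core and trivial `p`-core and finite `p`-length is trivial -/
theorem top_eq_bot_of_cores {k : ℕ} (h : PLengthLE p k G) (h0 : pPrimeCore p G = ⊥)
    (h1 : pCore p G = ⊥) : (⊤ : Subgroup G) = ⊥ := by
  obtain ⟨V, hV, htop⟩ := (pLengthLE_iff k).1 h
  rw [← htop]
  exact hV.eq_bot_of_cores h0 h1 _

/-- if `O_{p'}(G) = 1` then `G / O_p(G)` has smaller `p`-length -/
theorem plen_quotient_pCore {k : ℕ} (h : PLengthLE p (k + 1) G) (h0 : pPrimeCore p G = ⊥) :
    PLengthLE p k (G ⧸ pCore p G) := by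
  obtain ⟨V, hV, htop⟩ := (pLengthLE_iff (k + 1)).1 h
  have hsurj := QuotientGroup.mk'_surjective (pCore p G)
  have hW := hV.map_surjective (QuotientGroup.mk' (pCore p G)) hsurj
  refine (pLengthLE_iff k).2 ⟨fun j => (V (j + 2)).map (QuotientGroup.mk' (pCore p G)),
    ⟨?_, fun j => hW.normal (j + 2), fun a b hab => hW.mono (by omega), ?_, ?_⟩, ?_⟩
  · show (V (0 + 2)).map (QuotientGroup.mk' (pCore p G)) = ⊥
    rw [Subgroup.map_eq_bot_iff, QuotientGroup.ker_mk']
    exact hV.two_le_pCore h0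
  · intro j hj
    exact hW.even (j + 2) (by
      obtain ⟨c, hc⟩ := hj
      exact ⟨c + 1, by omega⟩)
  · intro j hj
    exact hW.odd (j + 2) (by
      intro hcon
      apply hj
      obtain ⟨c, hc⟩ := hcon
      exact ⟨c - 1, by omega⟩)
  · show (V (2 * k + 1 + 2)).map (QuotientGroup.mk' (pCore p G)) = ⊤
    have : 2 * k + 1 + 2 = 2 * (k + 1) + 1 := by ring
    rw [this, htop]
    exact Subgroup.map_top_of_surjective _ hsurj

end first

section sylow

variable {G : Type*} [Group G]

theorem sylow_quotient_derived [Finite G] {p : ℕ} [Fact p.Prime] (N : Subgroup G) [N.Normal]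
    {d : ℕ} (h : ∀ S : Sylow p G, derivedSeries ↥(S : Subgroup G) d = ⊥)
    (T : Sylow p (G ⧸ N)) : derivedSeries ↥(T : Subgroup (G ⧸ N)) d = ⊥ := by
  obtain ⟨S, rfl⟩ := Sylow.mapSurjective_surjective (QuotientGroup.mk'_surjective N) p T
  show derivedSeries ↥((S : Subgroup G).map (QuotientGroup.mk' N)) d = ⊥
  have hs := MonoidHom.subgroupMap_surjective (QuotientGroup.mk' N) (S : Subgroup G)
  rw [← map_derivedSeries_eq hs, h S, Subgroup.map_bot]

theorem derivedSeries_add_eq_bot (S : Subgroup G) {a b : ℕ} (h1 : derivedSeries G a ≤ S)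
    (h2 : derivedSeries ↥S b = ⊥) : derivedSeries G (a + b) = ⊥ := by
  have key : ∀ n, derivedSeries G (a + n) ≤ (derivedSeries ↥S n).map S.subtype := by
    intro n
    induction n with
    | zero =>
      rw [derivedSeries_zero, ← MonoidHom.range_eq_map, Subgroup.range_subtype]
      exact h1
    | succ n ih =>
      rw [← add_assoc, derivedSeries_succ, derivedSeries_succ, Subgroup.map_commutator]
      exact Subgroup.commutator_mono ih ih
  have := key b
  rw [h2, Subgroup.map_bot] at this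
  exact le_bot_iff.1 this

theorem card_quotient_lt [Finite G] (N : Subgroup G) [N.Normal] (hN : N ≠ ⊥) :
    Nat.card (G ⧸ N) < Nat.card G := by
  have h1 := Subgroup.card_eq_card_quotient_mul_card_subgroup N
  have h2 : 1 < Nat.card N := by
    rw [Finite.one_lt_card_iff_nontrivial, Subgroup.nontrivial_iff_ne_bot]
    exact hN
  have h3 : 0 < Nat.card (G ⧸ N) := Nat.card_pos
  rw [h1]
  nlinarith

end sylow

end Cfsg.Agent.Lib.Helper63
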