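import Mathlib.GroupTheory.PGroup
import Mathlib.GroupTheory.Sylow
import Mathlib.GroupTheory.IndexNormal
import Mathlib.GroupTheory.GroupAction.ConjAct
import Mathlib.GroupTheory.SpecificGroups.Cyclic

/-!
Basic facts about finite `p`-groups used by helper63's statements.
-/

set_option autoImplicit false

namespace Cfsg.Agent.Lib.Helper63

/-- A normal subgroup of order `p` of a finite `p`-group is central. -/
theorem normal_card_prime_le_center {S : Type*} [Group S] [Finite S] {p : ℕ} [hp : Fact p.Prime]
    (hS : IsPGroup p S) (N : Subgroup S) [N.Normal] (hN : Nat.card N = p) :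
    N ≤ Subgroup.center S := by
  have h1 : (1 : N) ∈ MulAction.fixedPoints (ConjAct S) N := by
    intro g
    exact smul_one g
  obtain ⟨b, hb, hb1⟩ :=
    (hS.of_equiv ConjAct.toConjAct).exists_fixed_point_of_prime_dvd_card_of_fixed_point N
      (by rw [hN]) h1
  have hbc : (b : S) ∈ Subgroup.center S := by
    rw [Subgroup.mem_center_iff]
    intro s
    have h2 : ConjAct.toConjAct s • b = b := hb (ConjAct.toConjAct s)
    have h3 : s * (b : S) * s⁻¹ = b := by
      have h4 := congrArg Subtype.val h2
      rw [ConjAct.Subgroup.val_conj_smul, ConjAct.toConjAct_smul] at h4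
      exact h4
    calc s * b = s * b * s⁻¹ * s := by group
      _ = b * s := by rw [h3]
  have htop : Subgroup.zpowers b = ⊤ := zpowers_eq_top_of_prime_card hN (Ne.symm hb1)
  intro n hn
  have : (⟨n, hn⟩ : N) ∈ Subgroup.zpowers b := by rw [htop]; trivial
  obtain ⟨k, hk⟩ := Subgroup.mem_zpowers_iff.1 this
  have hk' : (b : S) ^ k = n := by
    have := congrArg Subtype.val hk
    simpa using this
  rw [← hk']
  exact Subgroup.zpow_mem _ hbc k

/-- A subgroup of index `p` in a finite `p`-group is normal. -/
theorem normal_of_index_eq_prime {S : Type*} [Group S] [Finite S] {p : ℕ} [hp : Fact p.Prime]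
    (hS : IsPGroup p S) (Q : Subgroup S) (hQ : Q.index = p) : Q.Normal := by
  apply Subgroup.normal_of_index_eq_minFac_card
  obtain ⟨n, hn⟩ := (IsPGroup.iff_card).1 hS
  have hn0 : n ≠ 0 := by
    rintro rfl
    have hdvd : Q.index ∣ Nat.card S := Subgroup.index_dvd_card Q
    rw [hQ, hn, pow_zero] at hdvd
    exact hp.out.one_lt.ne' (Nat.dvd_one.1 hdvd)
  rw [hQ, hn, Nat.Prime.pow_minFac hp.out hn0]

end Cfsg.Agent.Lib.Helper63
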