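import Mathlib
import Cfsg.Agent.Lib.Helper63.SylowConj

set_option autoImplicit false

/-!
Helper63 library: the core of "a cyclic normal subgroup of a Sylow `p`-subgroup lies in
`O_{p',p}(G)`" for odd `p`.

Setting: `V` is an elementary abelian normal `p`-subgroup of `Y` with `C_Y(V) ≤ V`, `b ∈ Y` with
`b ^ p ∈ V` and `[V, b] ≤ ⟨b ^ p⟩` (so `b` acts on `V` as a transvection with centre `b ^ p`).
If `p` is odd and `L ≥ V` is normalized by `b` with `L / V` a `q`-group, `q ≠ p`, then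
`[L, b] ≤ V`.
-/

namespace Cfsg.Agent.Lib.Helper63.CycNorm

open scoped Pointwise

variable {Y : Type*} [Group Y]

/-- The class-two power formula. -/
theorem mul_pow_of_commute (a b : Y) (hca : Commute (b * a * b⁻¹ * a⁻¹) a)
    (hcb : Commute (b * a * b⁻¹ * a⁻¹) b) (n : ℕ) :
    (a * b) ^ n = a ^ n * b ^ n * (b * a * b⁻¹ * a⁻¹) ^ (n * (n - 1) / 2) := by
  set c := b * a * b⁻¹ * a⁻¹ with hc
  have hba : b * a = c * a * b := by rw [hc]; group
  -- b^n * a = c^n * a * b^n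
  have hbn : ∀ n : ℕ, b ^ n * a = c ^ n * a * b ^ n := by
    intro n
    induction n with
    | zero => simp
    | succ n ih =>
      calc b ^ (n + 1) * a = b ^ n * (b * a) := by rw [pow_succ, mul_assoc]
        _ = b ^ n * (c * a * b) := by rw [hba]
        _ = (b ^ n * c) * a * b := by simp only [mul_assoc]
        _ = (c * b ^ n) * a * b := by rw [(hcb.pow_right n).eq]
        _ = c * (b ^ n * a) * b := by simp only [mul_assoc]
        _ = c * (c ^ n * a * b ^ n) * b := by rw [ih]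
        _ = c ^ (n + 1) * a * b ^ (n + 1) := by
          rw [pow_succ' c n, pow_succ b n]; simp only [mul_assoc]
  induction n with
  | zero => simp
  | succ n ih =>
    have hT : (n + 1) * (n + 1 - 1) / 2 = n * (n - 1) / 2 + n := by
      have h2 : (n + 1) * (n + 1 - 1) = n * (n - 1) + 2 * n := by
        cases n with
        | zero => simp
        | succ m => simp; ring
      rw [h2, Nat.add_mul_div_left _ _ (by norm_num : 0 < 2)]
    have hcT : ∀ k : ℕ, Commute (c ^ k) a := fun k => hca.pow_left k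
    have hcTb : ∀ k : ℕ, Commute (c ^ k) b := fun k => hcb.pow_left k
    calc (a * b) ^ (n + 1) = (a * b) ^ n * (a * b) := pow_succ _ _
      _ = a ^ n * b ^ n * c ^ (n * (n - 1) / 2) * (a * b) := by rw [ih]
      _ = a ^ n * (b ^ n * a) * b * c ^ (n * (n - 1) / 2) := by
        have h1 : c ^ (n * (n - 1) / 2) * (a * b) = (a * b) * c ^ (n * (n - 1) / 2) :=
          ((hcT _).mul_right (hcTb _)).eq
        calc a ^ n * b ^ n * c ^ (n * (n - 1) / 2) * (a * b)
            = a ^ n * b ^ n * (c ^ (n * (n - 1) / 2) * (a * b)) := by simp only [mul_assoc]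
          _ = a ^ n * b ^ n * ((a * b) * c ^ (n * (n - 1) / 2)) := by rw [h1]
          _ = a ^ n * (b ^ n * a) * b * c ^ (n * (n - 1) / 2) := by simp only [mul_assoc]
      _ = a ^ n * (c ^ n * a * b ^ n) * b * c ^ (n * (n - 1) / 2) := by rw [hbn n]
      _ = a ^ (n + 1) * b ^ (n + 1) * c ^ ((n + 1) * (n + 1 - 1) / 2) := by
        rw [hT, pow_add c, pow_succ a n, pow_succ b n]
        have h2 : a ^ n * (c ^ n * a * b ^ n) = a ^ n * a * b ^ n * c ^ n := by
          have e1 : c ^ n * a = a * c ^ n := (hcT n).eq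
          have e2 : c ^ n * b ^ n = b ^ n * c ^ n := ((hcTb n).pow_right n).eq
          calc a ^ n * (c ^ n * a * b ^ n) = a ^ n * ((c ^ n * a) * b ^ n) := by
                simp only [mul_assoc]
            _ = a ^ n * ((a * c ^ n) * b ^ n) := by rw [e1]
            _ = a ^ n * a * (c ^ n * b ^ n) := by simp only [mul_assoc]
            _ = a ^ n * a * (b ^ n * c ^ n) := by rw [e2]
            _ = a ^ n * a * b ^ n * c ^ n := by simp only [mul_assoc]
        rw [h2]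
        have e3 : c ^ n * b = b * c ^ n := (hcTb n).eq
        have e4 : c ^ n * c ^ (n * (n - 1) / 2) = c ^ (n * (n - 1) / 2) * c ^ n := by
          rw [← pow_add, ← pow_add, add_comm]
        calc a ^ n * a * b ^ n * c ^ n * b * c ^ (n * (n - 1) / 2)
            = a ^ n * a * b ^ n * (c ^ n * b) * c ^ (n * (n - 1) / 2) := by
              simp only [mul_assoc]
          _ = a ^ n * a * b ^ n * (b * c ^ n) * c ^ (n * (n - 1) / 2) := by rw [e3]
          _ = a ^ n * a * (b ^ n * b) * (c ^ n * c ^ (n * (n - 1) / 2)) := by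
              simp only [mul_assoc]
          _ = a ^ n * a * (b ^ n * b) * (c ^ (n * (n - 1) / 2) * c ^ n) := by rw [e4]


/-- For odd `p`, in the transvection setting, `(v * b) ^ p = b ^ p` for `v ∈ V`. -/
theorem mul_pow_prime_eq {p : ℕ} (hp : p.Prime) (hp2 : p ≠ 2) (V : Subgroup Y)
    (hVc : ∀ u ∈ V, ∀ v ∈ V, u * v = v * u) (hVp : ∀ v ∈ V, v ^ p = 1)
    (b : Y) (hbp : b ^ p ∈ V)
    (hb : ∀ v ∈ V, v * b * v⁻¹ * b⁻¹ ∈ Subgroup.zpowers (b ^ p))
    (v : Y) (hv : v ∈ V) : (v * b) ^ p = b ^ p := by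
  set z := b ^ p with hz
  have hZV : Subgroup.zpowers z ≤ V := by
    rw [Subgroup.zpowers_le]; exact hbp
  -- c = b v b⁻¹ v⁻¹ = (v b v⁻¹ b⁻¹)⁻¹ ∈ Z
  have hc : b * v * b⁻¹ * v⁻¹ ∈ Subgroup.zpowers z := by
    have h1 := Subgroup.inv_mem _ (hb v hv)
    have e : (v * b * v⁻¹ * b⁻¹)⁻¹ = b * v * b⁻¹ * v⁻¹ := by group
    rwa [e] at h1
  set c := b * v * b⁻¹ * v⁻¹ with hcdef
  have hcV : c ∈ V := hZV hc
  have hcv : Commute c v := hVc c hcV v hv
  have hcb : Commute c b := by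
    obtain ⟨i, hi⟩ := Subgroup.mem_zpowers_iff.mp hc
    rw [← hi, hz]
    exact ((Commute.refl b).pow_left p).zpow_left i
  have h1 := mul_pow_of_commute v b hcv hcb p
  rw [h1, hVp v hv, one_mul]
  have hodd : Odd p := hp.odd_of_ne_two hp2
  obtain ⟨k, hk⟩ := hodd
  have h2 : p * (p - 1) / 2 = p * k := by
    have : p - 1 = 2 * k := by omega
    rw [this, ← mul_assoc, mul_comm p 2, mul_assoc, Nat.mul_div_cancel_left _ (by norm_num : 0 < 2)]
  rw [h2, pow_mul, hVp c hcV, one_pow, mul_one]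


/-- The stability group of the chain `V ≥ ⟨z⟩ ≥ 1`: elements `g` with `[V, g] ≤ ⟨z⟩` fixing `z`. -/
def stab (V : Subgroup Y) [hV : V.Normal] (z : Y) : Subgroup Y where
  carrier := {g | (∀ u ∈ V, ∃ i : ℤ, g * u * g⁻¹ = u * z ^ i) ∧ Commute g z}
  one_mem' := ⟨fun u _ => ⟨0, by simp⟩, Commute.one_left z⟩
  mul_mem' := by
    rintro g h ⟨hg, hgz⟩ ⟨hh, hhz⟩
    refine ⟨?_, hgz.mul_left hhz⟩
    intro u hu
    obtain ⟨i, hi⟩ := hh u hu
    obtain ⟨j, hj⟩ := hg u hu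
    refine ⟨j + i, ?_⟩
    have e1 : g * z ^ i * g⁻¹ = z ^ i := by
      have : Commute g (z ^ i) := hgz.zpow_right i
      rw [this.eq, mul_inv_cancel_right]
    calc g * h * u * (g * h)⁻¹ = g * (h * u * h⁻¹) * g⁻¹ := by group
      _ = g * (u * z ^ i) * g⁻¹ := by rw [hi]
      _ = (g * u * g⁻¹) * (g * z ^ i * g⁻¹) := by group
      _ = u * z ^ (j + i) := by rw [hj, e1, zpow_add, mul_assoc]
  inv_mem' := by
    rintro g ⟨hg, hgz⟩
    refine ⟨?_, hgz.inv_left⟩
    intro u hu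
    have hu' : g⁻¹ * u * g ∈ V := by
      have := hV.conj_mem u hu g⁻¹
      simpa using this
    obtain ⟨i, hi⟩ := hg _ hu'
    refine ⟨-i, ?_⟩
    have e : g * (g⁻¹ * u * g) * g⁻¹ = u := by group
    rw [e] at hi
    rw [inv_inv, zpow_neg, eq_mul_inv_iff_mul_eq, ← hi]

theorem mem_stab (V : Subgroup Y) [V.Normal] (z g : Y) :
    g ∈ stab V z ↔ (∀ u ∈ V, ∃ i : ℤ, g * u * g⁻¹ = u * z ^ i) ∧ Commute g z := Iff.rfl

/-- If `z ^ p = 1`, the `p`-th power of an element of the stability group centralizes `V`. -/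
theorem pow_mem_centralizer_of_mem_stab (V : Subgroup Y) [V.Normal] (z g : Y) (p : ℕ)
    (hz : z ^ p = 1) (hg : g ∈ stab V z) : g ^ p ∈ Subgroup.centralizer (V : Set Y) := by
  obtain ⟨hg1, hgz⟩ := hg
  rw [Subgroup.mem_centralizer_iff]
  intro u hu
  obtain ⟨i, hi⟩ := hg1 u hu
  have key : ∀ n : ℕ, g ^ n * u * (g ^ n)⁻¹ = u * z ^ ((n : ℤ) * i) := by
    intro n
    induction n with
    | zero => simp
    | succ n ih =>
      have e1 : g * z ^ ((n : ℤ) * i) * g⁻¹ = z ^ ((n : ℤ) * i) := by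
        have : Commute g (z ^ ((n : ℤ) * i)) := hgz.zpow_right _
        rw [this.eq, mul_inv_cancel_right]
      calc g ^ (n + 1) * u * (g ^ (n + 1))⁻¹ = g * (g ^ n * u * (g ^ n)⁻¹) * g⁻¹ := by
            rw [pow_succ']; group
        _ = g * (u * z ^ ((n : ℤ) * i)) * g⁻¹ := by rw [ih]
        _ = (g * u * g⁻¹) * (g * z ^ ((n : ℤ) * i) * g⁻¹) := by group
        _ = u * z ^ (((n + 1 : ℕ) : ℤ) * i) := by
          rw [hi, e1, mul_assoc, ← zpow_add]
          congr 2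
          push_cast; ring
  have h1 := key p
  have h2 : z ^ ((p : ℤ) * i) = 1 := by
    rw [zpow_mul, zpow_natCast, hz, one_zpow]
  rw [h2, mul_one] at h1
  -- g^p u (g^p)⁻¹ = u
  calc u * g ^ p = (g ^ p * u * (g ^ p)⁻¹) * g ^ p := by rw [h1]
    _ = g ^ p * u := by group


theorem card_mul_relIndex_of_le {H L : Subgroup Y} (h : H ≤ L) :
    Nat.card H * H.relIndex L = Nat.card L := by
  have := Subgroup.relIndex_mul_relIndex ⊥ H L bot_le h
  rwa [Subgroup.relIndex_bot_left, Subgroup.relIndex_bot_left] at this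

/-- **Lemma A.** -/
theorem commutator_mem_of_odd [Finite Y] {p q : ℕ} [hp : Fact p.Prime] [hq : Fact q.Prime]
    (hp2 : p ≠ 2) (hqp : q ≠ p)
    (V : Subgroup Y) [hVn : V.Normal]
    (hVc : ∀ u ∈ V, ∀ v ∈ V, u * v = v * u) (hVp : ∀ v ∈ V, v ^ p = 1)
    (hCV : Subgroup.centralizer (V : Set Y) ≤ V)
    (b : Y) (hbp : b ^ p ∈ V)
    (hb : ∀ v ∈ V, v * b * v⁻¹ * b⁻¹ ∈ Subgroup.zpowers (b ^ p))
    (L : Subgroup Y) (e : ℕ) (hLq : V.relIndex L = q ^ e)
    (hbL : ∀ l ∈ L, b * l * b⁻¹ ∈ L) :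
    ∀ l ∈ L, l * b * l⁻¹ * b⁻¹ ∈ V := by
  classical
  have hVpg : IsPGroup p V := by
    intro ⟨v, hv⟩
    exact ⟨1, Subtype.ext (by simpa using hVp v hv)⟩
  -- Step 1: a Sylow `q`-subgroup `Q` of `L`
  obtain ⟨Q₁⟩ : Nonempty (Sylow q ↥L) := inferInstance
  set Q : Subgroup Y := (Q₁ : Subgroup ↥L).map L.subtype with hQ
  have hQL : Q ≤ L := by rw [hQ]; exact Subgroup.map_subtype_le _
  have hQq : IsPGroup q Q := Q₁.2.map _
  have hQi : ¬ q ∣ Q.relIndex L := by
    have h1 : Q.relIndex L = (Q₁ : Subgroup ↥L).index := by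
      rw [Subgroup.relIndex, hQ, Subgroup.subgroupOf,
        Subgroup.comap_map_eq_self_of_injective L.subtype_injective]
    rw [h1]
    exact Q₁.not_dvd_index
  have hdisj : ∀ w : Y, w ∈ Q → w ∈ V → w = 1 := by
    intro w hwQ hwV
    have := IsPGroup.disjoint_of_ne q p hqp Q V hQq hVpg
    have h2 : w ∈ Q ⊓ V := ⟨hwQ, hwV⟩
    rw [this.eq_bot] at h2
    exact Subgroup.mem_bot.mp h2
  -- Step 2: `L = Q V`
  have hLQV : ∀ l ∈ L, ∃ y ∈ Q, ∃ v ∈ V, l = y * v := by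
    have h1 : L ≤ Q ⊔ V := by
      rw [← Subgroup.relIndex_eq_one]
      have d1 : (Q ⊔ V).relIndex L ∣ q ^ e := by
        rw [← hLq]; exact Subgroup.relIndex_dvd_of_le_left L le_sup_right
      have d2 : (Q ⊔ V).relIndex L ∣ Q.relIndex L := Subgroup.relIndex_dvd_of_le_left L le_sup_left
      obtain ⟨k, _, hk⟩ := (Nat.dvd_prime_pow hq.out).mp d1
      rcases Nat.eq_zero_or_pos k with h0 | hpos
      · rw [hk, h0, pow_zero]
      · exfalso
        apply hQi
        exact (dvd_pow_self q hpos.ne').trans (hk ▸ d2)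
    intro l hl
    have h2 : l ∈ ((Q ⊔ V : Subgroup Y) : Set Y) := h1 hl
    rw [Subgroup.mul_normal] at h2
    obtain ⟨y, hy, v, hv, rfl⟩ := Set.mem_mul.mp h2
    exact ⟨y, hy, v, hv, rfl⟩
  -- Step 3: the conjugate `Q' = b Q b⁻¹`
  set Q' : Subgroup Y := Q.map (MulAut.conj b).toMonoidHom with hQ'
  have hQ'L : Q' ≤ L := by
    rintro _ ⟨y, hy, rfl⟩
    exact hbL y (hQL hy)
  have hQ'q : IsPGroup q Q' := hQq.map _
  have hQ'i : ¬ q ∣ Q'.relIndex L := by
    have hc : Nat.card Q' = Nat.card Q :=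
      Subgroup.card_map_of_injective (MulAut.conj b).injective
    have h1 := card_mul_relIndex_of_le hQL
    have h2 := card_mul_relIndex_of_le hQ'L
    rw [hc, ← h1] at h2
    have h3 : Q'.relIndex L = Q.relIndex L :=
      Nat.eq_of_mul_eq_mul_left Nat.card_pos h2
    rwa [h3]
  -- Step 4: an element `a = v * b` normalizing `Q`
  obtain ⟨l, hlL, hl⟩ := exists_conj_eq_of_relIndex L Q Q' hQL hQ'L hQq hQ'q hQi hQ'i
  have hnorm1 : ∀ y ∈ Q, (l⁻¹ * b) * y * (l⁻¹ * b)⁻¹ ∈ Q := by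
    intro y hy
    have h1 : b * y * b⁻¹ ∈ Q' := ⟨y, hy, by simp [MulAut.conj_apply]⟩
    rw [hl, mem_map_conj_iff] at h1
    have e : l⁻¹ * b * y * (l⁻¹ * b)⁻¹ = l⁻¹ * (b * y * b⁻¹) * l := by group
    rw [e]; exact h1
  obtain ⟨y₀, hy₀, v, hv, hlv⟩ := hLQV l⁻¹ (L.inv_mem hlL)
  set a := v * b with ha
  have hnorm : ∀ y ∈ Q, a * y * a⁻¹ ∈ Q := by
    intro y hy
    have h1 := hnorm1 y hy
    have h2 : a * y * a⁻¹ = y₀⁻¹ * ((l⁻¹ * b) * y * (l⁻¹ * b)⁻¹) * y₀ := by
      rw [hlv, ha]; group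
    rw [h2]
    exact Q.mul_mem (Q.mul_mem (Q.inv_mem hy₀) h1) hy₀
  have hnormpow : ∀ n : ℕ, ∀ y ∈ Q, a ^ n * y * (a ^ n)⁻¹ ∈ Q := by
    intro n
    induction n with
    | zero => intro y hy; simpa using hy
    | succ n ih =>
      intro y hy
      have h1 := hnorm _ (ih y hy)
      have e : a ^ (n + 1) * y * (a ^ (n + 1))⁻¹ = a * (a ^ n * y * (a ^ n)⁻¹) * a⁻¹ := by
        rw [pow_succ']; group
      rw [e]; exact h1
  -- Step 5: `z = b ^ p = a ^ p` is centralized by `Q`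
  set z := b ^ p with hz
  have haz : a ^ p = z := mul_pow_prime_eq hp.out hp2 V hVc hVp b hbp hb v hv
  have hzp : z ^ p = 1 := hVp z hbp
  have hQz : ∀ y ∈ Q, Commute y z := by
    intro y hy
    have hwV : y * z * y⁻¹ * z⁻¹ ∈ V := V.mul_mem (hVn.conj_mem z hbp y) (V.inv_mem hbp)
    have hwQ : y * z * y⁻¹ * z⁻¹ ∈ Q := by
      have h1 := hnormpow p y⁻¹ (Q.inv_mem hy)
      rw [haz] at h1
      have e : y * z * y⁻¹ * z⁻¹ = y * (z * y⁻¹ * z⁻¹) := by group
      rw [e]; exact Q.mul_mem hy h1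
    have h1 := hdisj _ hwQ hwV
    have : y * z = z * y := by
      calc y * z = (y * z * y⁻¹ * z⁻¹) * (z * y) := by group
        _ = z * y := by rw [h1, one_mul]
    exact this
  -- Step 6: `a` lies in the stability group
  have hastab : a ∈ stab V z := by
    refine ⟨?_, ?_⟩
    · intro u hu
      have h1 := hb u⁻¹ (V.inv_mem hu)
      obtain ⟨i, hi⟩ := Subgroup.mem_zpowers_iff.mp h1
      refine ⟨i, ?_⟩
      have hbu : b * u * b⁻¹ = u * z ^ i := by
        rw [hi]; group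
      have hbuV : b * u * b⁻¹ ∈ V := hVn.conj_mem u hu b
      calc a * u * a⁻¹ = v * (b * u * b⁻¹) * v⁻¹ := by rw [ha]; group
        _ = (b * u * b⁻¹) * v * v⁻¹ := by rw [hVc v hv _ hbuV]
        _ = u * z ^ i := by rw [mul_inv_cancel_right, hbu]
    · rw [← haz]
      exact (Commute.refl a).pow_right p
  -- Step 7: `a` centralizes `Q`
  have haQ : ∀ y ∈ Q, y * a * y⁻¹ * a⁻¹ = 1 := by
    intro y hy
    have hconj : y * a * y⁻¹ ∈ stab V z := by
      refine ⟨?_, ?_⟩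
      · intro u hu
        have hu' : y⁻¹ * u * y ∈ V := by
          have := hVn.conj_mem u hu y⁻¹
          simpa using this
        obtain ⟨i, hi⟩ := hastab.1 _ hu'
        refine ⟨i, ?_⟩
        have hyz : y * z ^ i * y⁻¹ = z ^ i := by
          have : Commute y (z ^ i) := (hQz y hy).zpow_right i
          rw [this.eq, mul_inv_cancel_right]
        calc y * a * y⁻¹ * u * (y * a * y⁻¹)⁻¹ = y * (a * (y⁻¹ * u * y) * a⁻¹) * y⁻¹ := by group
          _ = y * ((y⁻¹ * u * y) * z ^ i) * y⁻¹ := by rw [hi]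
          _ = u * (y * z ^ i * y⁻¹) := by group
          _ = u * z ^ i := by rw [hyz]
      · exact ((hQz y hy).mul_left hastab.2).mul_left (hQz y hy).inv_left
    set c := y * a * y⁻¹ * a⁻¹ with hc
    have hcstab : c ∈ stab V z := (stab V z).mul_mem hconj ((stab V z).inv_mem hastab)
    have hcQ : c ∈ Q := by
      have h1 := hnorm y⁻¹ (Q.inv_mem hy)
      have e : c = y * (a * y⁻¹ * a⁻¹) := by rw [hc]; group
      rw [e]; exact Q.mul_mem hy h1
    have hcpV : c ^ p ∈ V := hCV (pow_mem_centralizer_of_mem_stab V z c p hzp hcstab)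
    have hcp : c ^ p = 1 := hdisj _ (Q.pow_mem hcQ p) hcpV
    obtain ⟨k, hk⟩ := hQq ⟨c, hcQ⟩
    have hk' : c ^ q ^ k = 1 := by
      have := congrArg Subtype.val hk
      simpa using this
    have d1 : orderOf c ∣ p := orderOf_dvd_of_pow_eq_one hcp
    have d2 : orderOf c ∣ q ^ k := orderOf_dvd_of_pow_eq_one hk'
    have hcop : Nat.Coprime p (q ^ k) :=
      Nat.Coprime.pow_right k ((Nat.coprime_primes hp.out hq.out).mpr (Ne.symm hqp))
    have d3 : orderOf c ∣ 1 := by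
      have := Nat.dvd_gcd d1 d2
      rwa [hcop] at this
    exact orderOf_eq_one_iff.mp (Nat.dvd_one.mp d3)
  -- Step 8: conclusion
  intro l' hl'
  obtain ⟨y, hy, v₁, hv₁, rfl⟩ := hLQV l' hl'
  rw [← QuotientGroup.eq_one_iff (N := V)]
  have hπv : ((v : Y) : Y ⧸ V) = 1 := (QuotientGroup.eq_one_iff v).mpr hv
  have hπv₁ : ((v₁ : Y) : Y ⧸ V) = 1 := (QuotientGroup.eq_one_iff v₁).mpr hv₁
  have hπa : ((a : Y) : Y ⧸ V) = ((b : Y) : Y ⧸ V) := by
    rw [ha, QuotientGroup.mk_mul, hπv, one_mul]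
  have h1 := congrArg (fun x : Y => (x : Y ⧸ V)) (haQ y hy)
  simp only [QuotientGroup.mk_mul, QuotientGroup.mk_inv, QuotientGroup.mk_one, hπa] at h1
  simp only [QuotientGroup.mk_mul, QuotientGroup.mk_inv, hπv₁, mul_one]
  simpa using h1

end Cfsg.Agent.Lib.Helper63.CycNorm
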