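import Mathlib
import Cfsg.Agent.Lib.Helper63.CycNormA
import Cfsg.Agent.Lib.Helper63.HHAbGroup
import Cfsg.Agent.Lib.Helper62.HHDual
import Cfsg.Agent.Lib.Helper76.PCore
import Cfsg.Agent.Lib.Helper47.Transvection

set_option autoImplicit false

/-!
Helper63 library: **Lemma B** for "a cyclic normal subgroup of a Sylow `p`-subgroup lies in
`O_{p',p}(G)`".

`V` elementary abelian normal self-centralizing `p`-subgroup of `Y`, `Y / V` `p`-soluble with
`O_p(Y / V) = 1`, `b ^ p ∈ V` and `[V, b] ≤ ⟨b ^ p⟩`.  If `p` is odd or `Y` is `S₄`-free, then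
`b ∈ V`.
-/

namespace Cfsg.Agent.Lib.Helper63.CycNorm

open Cfsg

variable {Y : Type*} [Group Y]

/-- An element `b` with `[V, b] ≤ ⟨b ^ 2⟩ ≤ V` (`V` elementary abelian `2`-group) has a centralizer
of index at most `2` in `V`. -/
theorem card_le_two_mul_card_centralizer [Finite Y] (V : Subgroup Y)
    (hVc : ∀ u ∈ V, ∀ v ∈ V, u * v = v * u) (hVp : ∀ v ∈ V, v ^ 2 = 1)
    (b : Y) (hbp : b ^ 2 ∈ V)
    (hb : ∀ v ∈ V, v * b * v⁻¹ * b⁻¹ ∈ Subgroup.zpowers (b ^ 2)) :
    Nat.card V ≤ 2 * Nat.card ↥(V ⊓ Subgroup.centralizer ({b} : Set Y)) := by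
  classical
  set z := b ^ 2 with hz
  have hZV : Subgroup.zpowers z ≤ V := by
    rw [Subgroup.zpowers_le]; exact hbp
  have hψV : ∀ u ∈ V, u * b * u⁻¹ * b⁻¹ ∈ V := fun u hu => hZV (hb u hu)
  let ψ : ↥V →* ↥V :=
    { toFun := fun u => ⟨u * b * (u : Y)⁻¹ * b⁻¹, hψV u u.2⟩
      map_one' := by
        apply Subtype.ext
        simp
      map_mul' := by
        intro u u'
        apply Subtype.ext
        simp only [Subgroup.coe_mul]
        have h1 : (u' : Y) * b * (u' : Y)⁻¹ * b⁻¹ ∈ V := hψV u' u'.2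
        have h2 := hVc _ h1 (u : Y)⁻¹ (V.inv_mem u.2)
        calc (u : Y) * u' * b * ((u : Y) * u')⁻¹ * b⁻¹
            = u * ((u' * b * (u' : Y)⁻¹ * b⁻¹) * (u : Y)⁻¹) * (u * b * (u : Y)⁻¹ * b⁻¹) := by group
          _ = u * ((u : Y)⁻¹ * (u' * b * (u' : Y)⁻¹ * b⁻¹)) * (u * b * (u : Y)⁻¹ * b⁻¹) := by
              rw [h2]
          _ = (u' * b * (u' : Y)⁻¹ * b⁻¹) * (u * b * (u : Y)⁻¹ * b⁻¹) := by group
          _ = (u * b * (u : Y)⁻¹ * b⁻¹) * (u' * b * (u' : Y)⁻¹ * b⁻¹) :=
              hVc _ h1 _ (hψV u u.2) }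
  have hcard : Nat.card ψ.ker * Nat.card ψ.range = Nat.card V := by
    rw [← Subgroup.index_ker]
    exact Subgroup.card_mul_index _
  -- range has at most two elements
  have hrange : Nat.card ψ.range ≤ 2 := by
    set zz : ↥V := ⟨z, hbp⟩ with hzz
    have hle : ψ.range ≤ Subgroup.zpowers zz := by
      rintro _ ⟨u, rfl⟩
      obtain ⟨i, hi⟩ := Subgroup.mem_zpowers_iff.mp (hb u u.2)
      refine Subgroup.mem_zpowers_iff.mpr ⟨i, ?_⟩
      apply Subtype.ext
      simp only [Subgroup.coe_zpow]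
      exact hi
    have h1 : Nat.card (Subgroup.zpowers zz) ≤ 2 := by
      rw [Nat.card_zpowers]
      apply Nat.le_of_dvd (by norm_num)
      apply orderOf_dvd_of_pow_eq_one
      apply Subtype.ext
      simp only [Subgroup.coe_pow, Subgroup.coe_one]
      exact hVp z hbp
    exact (Subgroup.card_le_of_le hle).trans h1
  have hker : Nat.card ψ.ker ≤ Nat.card ↥(V ⊓ Subgroup.centralizer ({b} : Set Y)) := by
    have hle : ψ.ker.map V.subtype ≤ V ⊓ Subgroup.centralizer ({b} : Set Y) := by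
      rintro _ ⟨u, hu, rfl⟩
      refine ⟨u.2, ?_⟩
      show (u : Y) ∈ Subgroup.centralizer ({b} : Set Y)
      rw [Subgroup.mem_centralizer_singleton_iff]
      have h1 : ψ u = 1 := hu
      have h2 : (u : Y) * b * (u : Y)⁻¹ * b⁻¹ = 1 := congrArg Subtype.val h1
      show (u : Y) * b = b * (u : Y)
      calc (u : Y) * b = ((u : Y) * b * (u : Y)⁻¹ * b⁻¹) * (b * (u : Y)) := by group
        _ = b * (u : Y) := by rw [h2, one_mul]
    have := Subgroup.card_le_of_le hle
    rwa [Subgroup.card_map_of_injective V.subtype_injective] at this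
  calc Nat.card V = Nat.card ψ.ker * Nat.card ψ.range := hcard.symm
    _ ≤ Nat.card ↥(V ⊓ Subgroup.centralizer ({b} : Set Y)) * 2 := Nat.mul_le_mul hker hrange
    _ = 2 * Nat.card ↥(V ⊓ Subgroup.centralizer ({b} : Set Y)) := by ring


/-- **Lemma B.** -/
theorem mem_of_transvection [Finite Y] {p : ℕ} [hp : Fact p.Prime]
    (V : Subgroup Y) [hVn : V.Normal]
    (hVc : ∀ u ∈ V, ∀ v ∈ V, u * v = v * u) (hVp : ∀ v ∈ V, v ^ p = 1)
    (hCV : Subgroup.centralizer (V : Set Y) ≤ V)
    (hsolv : IsPSolvable p (Y ⧸ V))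
    (hcore : ∀ N : Subgroup (Y ⧸ V), N.Normal → IsPGroup p N → N = ⊥)
    (b : Y) (hbp : b ^ p ∈ V)
    (hb : ∀ v ∈ V, v * b * v⁻¹ * b⁻¹ ∈ Subgroup.zpowers (b ^ p))
    (h : p ≠ 2 ∨ ¬ Involves (Equiv.Perm (Fin 4)) Y) : b ∈ V := by
  classical
  by_contra hbV
  have hπ1 : ∀ x : Y, ((x : Y) : Y ⧸ V) = 1 ↔ x ∈ V := fun x => QuotientGroup.eq_one_iff x
  set K := pPrimeCore p (Y ⧸ V) with hK
  have hKcop : (Nat.card K).Coprime p := Helper76.pPrimeCore_coprime p
  have hCK : Subgroup.centralizer (K : Set (Y ⧸ V)) ≤ K :=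
    Helper62.centralizer_pPrimeCore_le p hsolv hcore
  set bb : Y ⧸ V := ((b : Y) : Y ⧸ V) with hbb
  have hbb1 : bb ≠ 1 := fun h => hbV ((hπ1 b).mp h)
  have hbbp : bb ^ p = 1 := by
    rw [hbb, ← QuotientGroup.mk_pow]; exact (hπ1 _).mpr hbp
  have hbbK : bb ∉ K := by
    intro hmem
    have ho : orderOf bb = p := orderOf_eq_prime hbbp hbb1
    have h1 : p ∣ Nat.card K := by
      rw [← ho]
      have := orderOf_dvd_natCard (⟨bb, hmem⟩ : K)
      rwa [Subgroup.orderOf_mk] at this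
    have h2 : p ∣ Nat.gcd (Nat.card K) p := Nat.dvd_gcd h1 dvd_rfl
    rw [Nat.Coprime] at hKcop
    rw [hKcop] at h2
    exact hp.out.one_lt.ne' (Nat.dvd_one.mp h2)
  have hbbC : bb ∉ Subgroup.centralizer (K : Set (Y ⧸ V)) := fun h => hbbK (hCK h)
  have hKn : K.Normal := inferInstance
  by_cases hp2 : p = 2
  · -- the case `p = 2`: `S₄` is involved
    subst hp2
    have hS4 : ¬ Involves (Equiv.Perm (Fin 4)) Y := by
      rcases h with h | h
      · exact absurd rfl h
      · exact h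
    apply hS4
    rw [Subgroup.mem_centralizer_iff] at hbbC
    push Not at hbbC
    obtain ⟨kk, hkk, hne⟩ := hbbC
    obtain ⟨k, rfl⟩ := QuotientGroup.mk_surjective kk
    have hV2 : IsPGroup 2 V := by
      intro ⟨v, hv⟩
      exact ⟨1, Subtype.ext (by simpa using hVp v hv)⟩
    have hVel : IsElementaryAbelian 2 V := by
      refine ⟨⟨⟨?_⟩⟩, hVp⟩
      rintro ⟨u, hu⟩ ⟨v, hv⟩
      exact Subtype.ext (hVc u hu v hv)
    have hUCV : V ≤ Subgroup.centralizer (V : Set Y) := by
      intro u hu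
      rw [Subgroup.mem_centralizer_iff]
      intro v hv
      exact hVc v hv u hu
    have hbVc := card_le_two_mul_card_centralizer V hVc hVp b hbp hb
    set c := k * b * k⁻¹ * b⁻¹ with hc
    have hcK : ((c : Y) : Y ⧸ V) ∈ K := by
      have h1 : bb * ((k : Y) : Y ⧸ V)⁻¹ * bb⁻¹ ∈ K := hKn.conj_mem _ (K.inv_mem hkk) bb
      have e : ((c : Y) : Y ⧸ V) = ((k : Y) : Y ⧸ V) * (bb * ((k : Y) : Y ⧸ V)⁻¹ * bb⁻¹) := by
        rw [hc, hbb]
        simp only [QuotientGroup.mk_mul, QuotientGroup.mk_inv]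
        group
      rw [e]; exact K.mul_mem hkk h1
    set m := orderOf ((c : Y) : Y ⧸ V) with hm
    have hmodd : Odd m := by
      have h1 : m ∣ Nat.card K := by
        have := orderOf_dvd_natCard (⟨((c : Y) : Y ⧸ V), hcK⟩ : K)
        rwa [Subgroup.orderOf_mk] at this
      rw [← Nat.not_even_iff_odd]
      intro hev
      have h2 : 2 ∣ Nat.gcd (Nat.card K) 2 := Nat.dvd_gcd (hev.two_dvd.trans h1) dvd_rfl
      rw [Nat.Coprime] at hKcop
      rw [hKcop] at h2
      exact absurd (Nat.dvd_one.mp h2) (by norm_num)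
    have hcm : c ^ m ∈ V := by
      rw [← hπ1, QuotientGroup.mk_pow, hm]
      exact pow_orderOf_eq_one _
    have hcV : c ∉ V := by
      intro hmem
      apply hne
      have h1 := (hπ1 c).mpr hmem
      rw [hc] at h1
      simp only [QuotientGroup.mk_mul, QuotientGroup.mk_inv] at h1
      have h2 : ((k : Y) : Y ⧸ V) * bb = bb * ((k : Y) : Y ⧸ V) := by
        calc ((k : Y) : Y ⧸ V) * bb
            = (((k : Y) : Y ⧸ V) * ((b : Y) : Y ⧸ V) * ((k : Y) : Y ⧸ V)⁻¹ * ((b : Y) : Y ⧸ V)⁻¹)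
              * (bb * ((k : Y) : Y ⧸ V)) := by rw [hbb]; group
          _ = bb * ((k : Y) : Y ⧸ V) := by rw [h1, one_mul]
      exact h2
    exact Helper47.involves_perm_four_of_transvection V V hV2 hVel hUCV hCV b k hbp hbVc m hmodd
      hcm hcV
  · -- the case `p` odd
    apply hbbC
    set S := K ⊓ Subgroup.centralizer ({bb} : Set (Y ⧸ V)) with hS
    have hSK : S = K := by
      apply eq_of_forall_sylow_le K S inf_le_left
      intro q hq
      by_cases hqp : q = p
      · subst hqp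
        obtain ⟨Q⟩ : Nonempty (Sylow q ↥K) := inferInstance
        refine ⟨Q, ?_⟩
        have hQbot : (Q : Subgroup ↥K) = ⊥ := by
          obtain ⟨n, hn⟩ := IsPGroup.iff_card.mp Q.2
          have h1 : Nat.card (Q : Subgroup ↥K) ∣ Nat.card K := Subgroup.card_subgroup_dvd_card _
          rcases Nat.eq_zero_or_pos n with h0 | hpos
          · rw [h0, pow_zero] at hn
            exact Subgroup.card_eq_one.mp hn
          · exfalso
            have h2 : q ∣ Nat.card K := (dvd_pow_self q hpos.ne').trans (hn ▸ h1)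
            have h3 : q ∣ Nat.gcd (Nat.card K) q := Nat.dvd_gcd h2 dvd_rfl
            rw [Nat.Coprime] at hKcop
            rw [hKcop] at h3
            exact hq.out.one_lt.ne' (Nat.dvd_one.mp h3)
        rw [hQbot, Subgroup.map_bot]
        exact bot_le
      · obtain ⟨Q, hQ⟩ := exists_invariant_sylow K p q hKcop bb 1 (by simpa using hbbp)
        refine ⟨Q, ?_⟩
        set Q' : Subgroup (Y ⧸ V) := (Q : Subgroup ↥K).map K.subtype with hQ'
        set L : Subgroup Y := Q'.comap (QuotientGroup.mk' V) with hL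
        have hsurj : Function.Surjective (QuotientGroup.mk' V) := QuotientGroup.mk'_surjective V
        obtain ⟨e, he⟩ := IsPGroup.iff_card.mp Q.2
        have hrel : V.relIndex L = q ^ e := by
          have h1 : V = (⊥ : Subgroup (Y ⧸ V)).comap (QuotientGroup.mk' V) := by
            rw [MonoidHom.comap_bot, QuotientGroup.ker_mk']
          have h2 : L.map (QuotientGroup.mk' V) = Q' := by
            rw [hL, Subgroup.map_comap_eq_self_of_surjective hsurj]
          calc V.relIndex L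
              = ((⊥ : Subgroup (Y ⧸ V)).comap (QuotientGroup.mk' V)).relIndex L := by rw [← h1]
            _ = (⊥ : Subgroup (Y ⧸ V)).relIndex (L.map (QuotientGroup.mk' V)) :=
                Subgroup.relIndex_comap _ _ _
            _ = Nat.card Q' := by rw [h2, Subgroup.relIndex_bot_left]
            _ = q ^ e := by
                rw [hQ', Subgroup.card_map_of_injective K.subtype_injective, he]
        have hbL : ∀ l ∈ L, b * l * b⁻¹ ∈ L := by
          intro l hl
          obtain ⟨k, hk, hkl⟩ := hl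
          have h1 := hQ k hk
          refine ⟨(MulAut.conjNormal bb : MulAut ↥K) k, h1, ?_⟩
          show (((MulAut.conjNormal bb : MulAut ↥K) k : ↥K) : Y ⧸ V) = QuotientGroup.mk' V (b * l * b⁻¹)
          rw [MulAut.conjNormal_apply]
          have hkl' : (k : Y ⧸ V) = ((l : Y) : Y ⧸ V) := hkl
          rw [hkl', hbb]
          simp
        have hA := commutator_mem_of_odd hp2 hqp V hVc hVp hCV b hbp hb L e hrel hbL
        rintro _ ⟨k, hk, rfl⟩
        refine ⟨k.2, ?_⟩
        show (k : Y ⧸ V) ∈ Subgroup.centralizer ({bb} : Set (Y ⧸ V))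
        rw [Subgroup.mem_centralizer_singleton_iff]
        obtain ⟨l, hl⟩ := hsurj (k : Y ⧸ V)
        have hlL : l ∈ L := ⟨k, hk, hl.symm⟩
        have h1 := (hπ1 _).mpr (hA l hlL)
        simp only [QuotientGroup.mk_mul, QuotientGroup.mk_inv] at h1
        have hl' : ((l : Y) : Y ⧸ V) = (k : Y ⧸ V) := hl
        rw [hl'] at h1
        show (k : Y ⧸ V) * bb = bb * (k : Y ⧸ V)
        calc (k : Y ⧸ V) * bb
            = ((k : Y ⧸ V) * ((b : Y) : Y ⧸ V) * (k : Y ⧸ V)⁻¹ * ((b : Y) : Y ⧸ V)⁻¹)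
              * (bb * (k : Y ⧸ V)) := by rw [hbb]; group
          _ = bb * (k : Y ⧸ V) := by rw [h1, one_mul]
    rw [Subgroup.mem_centralizer_iff]
    intro k hk
    have h1 : k ∈ S := by rw [hSK]; exact hk
    have h2 : k ∈ Subgroup.centralizer ({bb} : Set (Y ⧸ V)) := h1.2
    rw [Subgroup.mem_centralizer_singleton_iff] at h2
    exact h2

end Cfsg.Agent.Lib.Helper63.CycNorm
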