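import Mathlib
import Cfsg.Agent.Lib.Helper63.CycNormB
import Cfsg.Agent.Lib.Helper70.FrattiniFaithful
import Cfsg.Agent.Lib.Helper99.S4InvA
import Cfsg.Agent.Lib.Helper76.PCore

set_option autoImplicit false

/-!
Helper63 library: **Lemma C/D** for "a cyclic normal subgroup of a Sylow `p`-subgroup lies in
`O_{p',p}(G)`": the case `O_{p'}(G) = 1`.
-/

namespace Cfsg.Agent.Lib.Helper63.CycNorm

open Cfsg

variable {G : Type*} [Group G]

/-- **Lemma C.** `G` `p`-soluble with `O_{p'}(G) = 1`, `R = O_p(G)`, `b ^ p ∈ R`,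
`[R, b] ≤ ⟨b ^ p⟩`; if `p` is odd or `G` is `S₄`-free then `b ∈ R`. -/
theorem mem_pCore_of_transvection [Finite G] {p : ℕ} [hp : Fact p.Prime]
    (hsolv : IsPSolvable p G)
    (hcore : ∀ N : Subgroup G, N.Normal → (Nat.card N).Coprime p → N = ⊥)
    (b : G) (hbp : b ^ p ∈ pCore p G)
    (hb : ∀ r ∈ pCore p G, r * b * r⁻¹ * b⁻¹ ∈ Subgroup.zpowers (b ^ p))
    (h : p ≠ 2 ∨ ¬ Involves (Equiv.Perm (Fin 4)) G) : b ∈ pCore p G := by
  classical
  set R := pCore p G with hR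
  have hRn : R.Normal := inferInstance
  have hRp : IsPGroup p R := Helper76.pCore_isPGroup p
  set Φ := Helper70.frattiniIn R with hΦ
  have hΦn : Φ.Normal := inferInstance
  have hΦR : Φ ≤ R := Helper70.frattiniIn_le R
  have hsurj : Function.Surjective (QuotientGroup.mk' Φ) := QuotientGroup.mk'_surjective Φ
  have hπ1 : ∀ x : G, ((x : G) : G ⧸ Φ) = 1 ↔ x ∈ Φ := fun x => QuotientGroup.eq_one_iff x
  set V : Subgroup (G ⧸ Φ) := R.map (QuotientGroup.mk' Φ) with hV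
  have hVn : V.Normal := hRn.map (QuotientGroup.mk' Φ) hsurj
  have hcent : Subgroup.centralizer (R : Set G) ≤ R := Helper76.centralizer_pCore_le p hsolv hcore
  have hmax : ∀ N : Subgroup G, N.Normal → IsPGroup p N → N ≤ R :=
    fun N hN hNp => Helper76.le_pCore p N hN hNp
  have htriv : Helper70.trivOnFrattiniQuot R ≤ R := Helper70.trivOnFrattiniQuot_le R hRp hcent hmax
  have hRtriv : R ≤ Helper70.trivOnFrattiniQuot R := Helper70.le_trivOnFrattiniQuot R hRp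
  -- membership in V
  have hmemV : ∀ x : G, ((x : G) : G ⧸ Φ) ∈ V ↔ x ∈ R := by
    intro x
    constructor
    · rintro ⟨r, hr, hrx⟩
      have h1 : ((r⁻¹ * x : G) : G ⧸ Φ) = 1 := by
        rw [QuotientGroup.mk_mul, QuotientGroup.mk_inv]
        have : ((r : G) : G ⧸ Φ) = ((x : G) : G ⧸ Φ) := hrx
        rw [this, inv_mul_cancel]
      have h2 : r⁻¹ * x ∈ R := hΦR ((hπ1 _).mp h1)
      have : x = r * (r⁻¹ * x) := by group
      rw [this]; exact R.mul_mem hr h2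
    · intro hx
      exact ⟨x, hx, rfl⟩
  -- V is elementary abelian
  have hVc : ∀ u ∈ V, ∀ v ∈ V, u * v = v * u := by
    rintro _ ⟨r, hr, rfl⟩ _ ⟨s, hs, rfl⟩
    have h1 := hRtriv hr s hs
    have h2 := (hπ1 _).mpr h1
    show ((r : G) : G ⧸ Φ) * ((s : G) : G ⧸ Φ) = ((s : G) : G ⧸ Φ) * ((r : G) : G ⧸ Φ)
    simp only [QuotientGroup.mk_mul, QuotientGroup.mk_inv] at h2
    calc ((r : G) : G ⧸ Φ) * ((s : G) : G ⧸ Φ)
        = (((r : G) : G ⧸ Φ) * ((s : G) : G ⧸ Φ) * ((r : G) : G ⧸ Φ)⁻¹ * ((s : G) : G ⧸ Φ)⁻¹)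
          * (((s : G) : G ⧸ Φ) * ((r : G) : G ⧸ Φ)) := by group
      _ = ((s : G) : G ⧸ Φ) * ((r : G) : G ⧸ Φ) := by rw [h2, one_mul]
  have hVp : ∀ v ∈ V, v ^ p = 1 := by
    rintro _ ⟨r, hr, rfl⟩
    obtain ⟨_, h2⟩ := Cfsg.Agent.S0012.result p hRp
    have h3 := h2 ⟨r, hr⟩
    have h4 : r ^ p ∈ Φ := by
      rw [Helper70.mem_frattiniIn (R.pow_mem hr p)]
      exact h3
    show (((r : G) : G ⧸ Φ)) ^ p = 1
    rw [← QuotientGroup.mk_pow]
    exact (hπ1 _).mpr h4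
  -- V is self-centralizing
  have hCV : Subgroup.centralizer (V : Set (G ⧸ Φ)) ≤ V := by
    intro y hy
    obtain ⟨g, rfl⟩ := hsurj y
    show ((g : G) : G ⧸ Φ) ∈ V
    rw [hmemV]
    apply htriv
    intro r hr
    rw [← hπ1]
    simp only [QuotientGroup.mk_mul, QuotientGroup.mk_inv]
    have h1 := (Subgroup.mem_centralizer_iff.mp hy) ((r : G) : G ⧸ Φ) ⟨r, hr, rfl⟩
    have h1' : ((r : G) : G ⧸ Φ) * ((g : G) : G ⧸ Φ) = ((g : G) : G ⧸ Φ) * ((r : G) : G ⧸ Φ) := h1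
    rw [← h1', mul_inv_cancel_right, mul_inv_cancel]
  -- the quotient (G/Φ)/V
  set f : G →* (G ⧸ Φ) ⧸ V := (QuotientGroup.mk' V).comp (QuotientGroup.mk' Φ) with hf
  have hfsurj : Function.Surjective f :=
    (QuotientGroup.mk'_surjective V).comp hsurj
  have hfker : f.ker = R := by
    ext x
    rw [MonoidHom.mem_ker, hf, MonoidHom.comp_apply]
    show ((((x : G) : G ⧸ Φ)) : (G ⧸ Φ) ⧸ V) = 1 ↔ x ∈ R
    rw [QuotientGroup.eq_one_iff, hmemV]
  have hsolv' : IsPSolvable p ((G ⧸ Φ) ⧸ V) := Helper76.IsPSolvable_of_surjective p f hfsurj hsolv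
  have hcore' : ∀ N : Subgroup ((G ⧸ Φ) ⧸ V), N.Normal → IsPGroup p N → N = ⊥ := by
    intro N hN hNp
    have h1 : (N.comap f).Normal := hN.comap f
    have h2 : IsPGroup p (N.comap f) := by
      apply hNp.comap_of_ker_isPGroup f
      rw [hfker]; exact hRp
    have h3 : N.comap f ≤ R := hmax _ h1 h2
    rw [eq_bot_iff]
    intro n hn
    obtain ⟨x, rfl⟩ := hfsurj n
    have hx : x ∈ N.comap f := hn
    have hx' : x ∈ f.ker := by rw [hfker]; exact h3 hx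
    exact Subgroup.mem_bot.mpr hx'
  -- the element
  have hbp' : (((b : G) : G ⧸ Φ)) ^ p ∈ V := by
    rw [← QuotientGroup.mk_pow, hmemV]; exact hbp
  have hb' : ∀ v ∈ V, v * ((b : G) : G ⧸ Φ) * v⁻¹ * ((b : G) : G ⧸ Φ)⁻¹ ∈
      Subgroup.zpowers ((((b : G) : G ⧸ Φ)) ^ p) := by
    rintro _ ⟨r, hr, rfl⟩
    obtain ⟨i, hi⟩ := Subgroup.mem_zpowers_iff.mp (hb r hr)
    refine Subgroup.mem_zpowers_iff.mpr ⟨i, ?_⟩
    show (((b : G) : G ⧸ Φ) ^ p) ^ i =
      ((r : G) : G ⧸ Φ) * ((b : G) : G ⧸ Φ) * ((r : G) : G ⧸ Φ)⁻¹ * ((b : G) : G ⧸ Φ)⁻¹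
    rw [← QuotientGroup.mk_pow, ← QuotientGroup.mk_zpow, hi]
    simp only [QuotientGroup.mk_mul, QuotientGroup.mk_inv]
  have h' : p ≠ 2 ∨ ¬ Involves (Equiv.Perm (Fin 4)) (G ⧸ Φ) := by
    rcases h with h | h
    · exact Or.inl h
    · exact Or.inr (fun hinv => h (Helper99.S4Inv.Involves.of_quotient Φ hinv))
  have hfin := mem_of_transvection V hVc hVp hCV hsolv' hcore' ((b : G) : G ⧸ Φ) hbp' hb' h'
  exact (hmemV b).mp hfin


/-- **Lemma D.** `G` `p`-soluble with `O_{p'}(G) = 1`: a cyclic subgroup `A` of a Sylow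
`p`-subgroup `P` normalized by `P` lies in `O_p(G)`, if `p` is odd or `G` is `S₄`-free. -/
theorem le_pCore_of_cyclic_normal [Finite G] {p : ℕ} [hp : Fact p.Prime]
    (hsolv : IsPSolvable p G)
    (hcore : ∀ N : Subgroup G, N.Normal → (Nat.card N).Coprime p → N = ⊥)
    (P : Sylow p G) (A : Subgroup G) (hAP : A ≤ (P : Subgroup G))
    (hAn : (P : Subgroup G) ≤ Subgroup.normalizer (A : Set G)) (hA : IsCyclic A)
    (h : p ≠ 2 ∨ ¬ Involves (Equiv.Perm (Fin 4)) G) : A ≤ pCore p G := by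
  classical
  set R := pCore p G with hR
  have hRn : R.Normal := inferInstance
  have hRP : R ≤ P := Helper76.pCore_le_sylow p P
  obtain ⟨⟨a, haA⟩, hgen⟩ := hA.exists_generator
  have hgen' : ∀ x ∈ A, ∃ k : ℤ, a ^ k = x := by
    intro x hx
    obtain ⟨k, hk⟩ := Subgroup.mem_zpowers_iff.mp (hgen ⟨x, hx⟩)
    refine ⟨k, ?_⟩
    have := congrArg Subtype.val hk
    simpa using this
  by_contra hAR
  have haR : a ∉ R := by
    intro haR
    apply hAR
    intro x hx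
    obtain ⟨k, rfl⟩ := hgen' x hx
    exact R.zpow_mem haR k
  obtain ⟨n, hn⟩ := P.2 ⟨a, hAP haA⟩
  have hn' : a ^ p ^ n = 1 := by
    have := congrArg Subtype.val hn
    simpa using this
  have hex : ∃ i, a ^ p ^ i ∈ R := ⟨n, by rw [hn']; exact R.one_mem⟩
  have hi : a ^ p ^ (Nat.find hex) ∈ R := Nat.find_spec hex
  have hi0 : Nat.find hex ≠ 0 := by
    intro h0
    rw [h0] at hi
    apply haR
    simpa using hi
  obtain ⟨j, hj⟩ : ∃ j, Nat.find hex = j + 1 := Nat.exists_eq_succ_of_ne_zero hi0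
  set b := a ^ p ^ j with hbdef
  have hbR : b ∉ R := Nat.find_min hex (by omega : j < Nat.find hex)
  have hbp : b ^ p ∈ R := by
    rw [hbdef, ← pow_mul, ← pow_succ, ← hj]; exact hi
  have hπ1 : ∀ x : G, ((x : G) : G ⧸ R) = 1 ↔ x ∈ R := fun x => QuotientGroup.eq_one_iff x
  have hbo : orderOf ((b : G) : G ⧸ R) = p := by
    apply orderOf_eq_prime
    · rw [← QuotientGroup.mk_pow]; exact (hπ1 _).mpr hbp
    · intro h1; exact hbR ((hπ1 _).mp h1)
  have hb : ∀ r ∈ R, r * b * r⁻¹ * b⁻¹ ∈ Subgroup.zpowers (b ^ p) := by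
    intro r hr
    have hrN : r ∈ Subgroup.normalizer (A : Set G) := hAn (hRP hr)
    have h1 : r * a * r⁻¹ ∈ A := (Subgroup.mem_normalizer_iff.mp hrN a).mp haA
    obtain ⟨k, hk⟩ := hgen' _ h1
    have h2 : r * b * r⁻¹ = b ^ k := by
      rw [hbdef, ← conj_pow, ← hk, ← zpow_natCast, ← zpow_natCast, ← zpow_mul, ← zpow_mul,
        mul_comm]
    have h3 : r * b * r⁻¹ * b⁻¹ = b ^ (k - 1) := by rw [h2, zpow_sub_one]
    have h4 : b ^ (k - 1) ∈ R := by
      rw [← h3]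
      have h5 : b * r⁻¹ * b⁻¹ ∈ R := hRn.conj_mem _ (R.inv_mem hr) b
      have e : r * b * r⁻¹ * b⁻¹ = r * (b * r⁻¹ * b⁻¹) := by group
      rw [e]; exact R.mul_mem hr h5
    have h5 : ((orderOf ((b : G) : G ⧸ R) : ℕ) : ℤ) ∣ (k - 1) := by
      rw [orderOf_dvd_iff_zpow_eq_one, ← QuotientGroup.mk_zpow]
      exact (hπ1 _).mpr h4
    rw [hbo] at h5
    obtain ⟨m, hm⟩ := h5
    rw [h3, hm, zpow_mul, zpow_natCast]
    exact Subgroup.zpow_mem_zpowers _ m
  exact hbR (mem_pCore_of_transvection hsolv hcore b hbp hb h)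

/-- **Main theorem**: in a `p`-soluble group a cyclic subgroup `A` of a Sylow `p`-subgroup `P`
normalized by `P` lies in `O_{p',p}(G)`, provided `p` is odd or `G` is `S₄`-free. -/
theorem le_pPrimePCore_of_cyclic_normal [Finite G] {p : ℕ} [hp : Fact p.Prime]
    (hsolv : IsPSolvable p G)
    (P : Sylow p G) (A : Subgroup G) (hAP : A ≤ (P : Subgroup G))
    (hAn : (P : Subgroup G) ≤ Subgroup.normalizer (A : Set G)) (hA : IsCyclic A)
    (h : p ≠ 2 ∨ ¬ Involves (Equiv.Perm (Fin 4)) G) : A ≤ pPrimePCore p G := by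
  classical
  have hsurj : Function.Surjective (QuotientGroup.mk' (pPrimeCore p G)) :=
    QuotientGroup.mk'_surjective _
  have hsolv' : IsPSolvable p (G ⧸ pPrimeCore p G) :=
    Helper76.IsPSolvable_of_surjective p _ hsurj hsolv
  have hcore' : ∀ N : Subgroup (G ⧸ pPrimeCore p G), N.Normal → (Nat.card N).Coprime p → N = ⊥ :=
    fun N hN hc => Helper76.quotient_pPrimeCore_core_trivial p N hN hc
  set P' : Sylow p (G ⧸ pPrimeCore p G) := P.mapSurjective hsurj with hP'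
  set A' : Subgroup (G ⧸ pPrimeCore p G) := A.map (QuotientGroup.mk' (pPrimeCore p G)) with hA'
  have hAP' : A' ≤ (P' : Subgroup (G ⧸ pPrimeCore p G)) := by
    rw [hP', Sylow.coe_mapSurjective]; exact Subgroup.map_mono hAP
  have hAn' : (P' : Subgroup (G ⧸ pPrimeCore p G)) ≤ Subgroup.normalizer (A' : Set _) := by
    rw [hP', Sylow.coe_mapSurjective]
    exact (Subgroup.map_mono hAn).trans (Subgroup.le_normalizer_map _)
  have hAc' : IsCyclic A' := by
    have := hA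
    exact isCyclic_of_surjective ((QuotientGroup.mk' (pPrimeCore p G)).subgroupMap A)
      (MonoidHom.subgroupMap_surjective _ A)
  have h' : p ≠ 2 ∨ ¬ Involves (Equiv.Perm (Fin 4)) (G ⧸ pPrimeCore p G) := by
    rcases h with h | h
    · exact Or.inl h
    · exact Or.inr (fun hinv => h (Helper99.S4Inv.Involves.of_quotient _ hinv))
  have hfin := le_pCore_of_cyclic_normal hsolv' hcore' P' A' hAP' hAn' hAc' h'
  intro x hx
  show x ∈ (pCore p (G ⧸ pPrimeCore p G)).comap (QuotientGroup.mk' (pPrimeCore p G))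
  exact hfin ⟨x, hx, rfl⟩

end Cfsg.Agent.Lib.Helper63.CycNorm
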