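-- helper63: abstract Kreknin theorem for (Z/n)-graded families in a Lie ring (for S3779).
import Mathlib

set_option autoImplicit false

namespace Cfsg.Agent.Lib.Helper63.KK

/-- A graded family of additive subgroups of a Lie ring, indexed by `ZMod n`, with zero
component trivial. No directness is assumed. -/
structure GrFam (L : Type*) [LieRing L] (n : ℕ) where
  C : ZMod n → AddSubgroup L
  lie_mem : ∀ {a b : ZMod n} {x y : L}, x ∈ C a → y ∈ C b → ⁅x, y⁆ ∈ C (a + b)
  zero : C 0 = ⊥

variable {L : Type*} [LieRing L] {n : ℕ}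

namespace GrFam

theorem eq_zero_of_mem_zero (K : GrFam L n) {x : L} (hx : x ∈ K.C 0) : x = 0 := by
  rw [K.zero] at hx; exact (AddSubgroup.mem_bot).1 hx

/-- generators of the derived family -/
def derSet (K : GrFam L n) (a : ZMod n) : Set L :=
  {z | ∃ b c : ZMod n, ∃ x ∈ K.C b, ∃ y ∈ K.C c, b + c = a ∧ z = ⁅x, y⁆}

theorem derSet_subset (K : GrFam L n) (a : ZMod n) : K.derSet a ⊆ K.C a := by
  rintro z ⟨b, c, x, hx, y, hy, rfl, rfl⟩
  exact K.lie_mem hx hy

/-- the derived family -/
def der (K : GrFam L n) : GrFam L n where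
  C a := AddSubgroup.closure (K.derSet a)
  lie_mem := by
    intro a b x y hx hy
    have hx' : x ∈ K.C a := (AddSubgroup.closure_le _).2 (K.derSet_subset a) hx
    have hy' : y ∈ K.C b := (AddSubgroup.closure_le _).2 (K.derSet_subset b) hy
    exact AddSubgroup.subset_closure ⟨a, b, x, hx', y, hy', rfl, rfl⟩
  zero := by
    rw [eq_bot_iff]
    refine (AddSubgroup.closure_le _).2 ?_
    intro z hz
    have := K.derSet_subset 0 hz
    rw [K.zero] at this
    exact this

theorem der_le (K : GrFam L n) (a : ZMod n) : K.der.C a ≤ K.C a :=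
  (AddSubgroup.closure_le _).2 (K.derSet_subset a)

theorem lie_mem_der (K : GrFam L n) {b c : ZMod n} {x y : L} (hx : x ∈ K.C b) (hy : y ∈ K.C c) :
    ⁅x, y⁆ ∈ K.der.C (b + c) :=
  AddSubgroup.subset_closure ⟨b, c, x, hx, y, hy, rfl, rfl⟩

/-- iterated derived family -/
def derN (K : GrFam L n) : ℕ → GrFam L n
  | 0 => K
  | s + 1 => (derN K s).der

@[simp] theorem derN_zero (K : GrFam L n) : K.derN 0 = K := rfl
theorem derN_succ (K : GrFam L n) (s : ℕ) : K.derN (s + 1) = (K.derN s).der := rfl

theorem derN_add (K : GrFam L n) (s : ℕ) : ∀ t, K.derN (s + t) = (K.derN s).derN t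
  | 0 => rfl
  | t + 1 => by rw [← add_assoc, derN_succ, derN_add K s t, derN_succ]

theorem derN_le (K : GrFam L n) : ∀ s a, (K.derN s).C a ≤ K.C a
  | 0, _ => le_rfl
  | s + 1, a => le_trans ((K.derN s).der_le a) (derN_le K s a)

end GrFam

/-- left-normed monomials in homogeneous generators of degree (value) `> k`. -/
inductive Mono (K : GrFam L n) (k : ℕ) : ZMod n → L → Prop
  | gen {a : ZMod n} {x : L} : k < a.val → x ∈ K.C a → Mono K k a x
  | step {a d : ZMod n} {x g : L} : Mono K k a x → k < d.val → g ∈ K.C d →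
      Mono K k (a + d) ⁅x, g⁆

theorem Mono.mem {K : GrFam L n} {k : ℕ} {a : ZMod n} {x : L} (h : Mono K k a x) : x ∈ K.C a := by
  induction h with
  | gen _ hx => exact hx
  | step _ _ hg ih => exact K.lie_mem ih hg

theorem Mono.mono_succ {K : GrFam L n} {k : ℕ} {a : ZMod n} {x : L} (h : Mono K (k + 1) a x) :
    Mono K k a x := by
  induction h with
  | gen ha hx => exact Mono.gen (by omega) hx
  | step _ hd hg ih => exact Mono.step ih (by omega) hg

/-- the `a`-component of the subring generated by the components of degree `> k`. -/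
def S (K : GrFam L n) (k : ℕ) (a : ZMod n) : AddSubgroup L :=
  AddSubgroup.closure {x | Mono K k a x}

theorem S_le (K : GrFam L n) (k : ℕ) (a : ZMod n) : S K k a ≤ K.C a :=
  (AddSubgroup.closure_le _).2 fun _ hx => Mono.mem hx

theorem mem_S_of_gen {K : GrFam L n} {k : ℕ} {a : ZMod n} {x : L} (ha : k < a.val)
    (hx : x ∈ K.C a) : x ∈ S K k a :=
  AddSubgroup.subset_closure (Mono.gen ha hx)

theorem S_lie_gen {K : GrFam L n} {k : ℕ} {a d : ZMod n} {x g : L} (hx : x ∈ S K k a)
    (hd : k < d.val) (hg : g ∈ K.C d) : ⁅x, g⁆ ∈ S K k (a + d) := by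
  refine AddSubgroup.closure_induction (p := fun x _ => ⁅x, g⁆ ∈ S K k (a + d)) ?_ ?_ ?_ ?_ hx
  · intro x hx
    exact AddSubgroup.subset_closure (Mono.step hx hd hg)
  · rw [zero_lie]; exact zero_mem _
  · intro x y _ _ h1 h2
    rw [add_lie]; exact add_mem h1 h2
  · intro x _ h1
    rw [neg_lie]; exact neg_mem h1

theorem S_cast {K : GrFam L n} {k : ℕ} {a b : ZMod n} (h : a = b) {x : L} (hx : x ∈ S K k a) :
    x ∈ S K k b := h ▸ hx

theorem Mono_lie {K : GrFam L n} {k : ℕ} {b : ZMod n} {y : L} (hy : Mono K k b y) :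
    ∀ (a : ZMod n) (x : L), x ∈ S K k a → ⁅x, y⁆ ∈ S K k (a + b) := by
  induction hy with
  | gen hb hy => intro a x hx; exact S_lie_gen hx hb hy
  | @step b d y g hy hd hg ih =>
    intro a x hx
    have e : ⁅x, ⁅y, g⁆⁆ = ⁅⁅x, y⁆, g⁆ - ⁅⁅x, g⁆, y⁆ := by
      rw [lie_lie x y g, ← lie_skew y ⁅x, g⁆]; abel
    rw [e]
    refine sub_mem ?_ ?_
    · exact S_cast (by abel) (S_lie_gen (ih a x hx) hd hg)
    · exact S_cast (by abel) (ih (a + d) ⁅x, g⁆ (S_lie_gen hx hd hg))

theorem S_lie_aux {K : GrFam L n} {k : ℕ} {b : ZMod n} {y : L} (hy : y ∈ S K k b) :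
    ∀ (a : ZMod n) (x : L), x ∈ S K k a → ⁅x, y⁆ ∈ S K k (a + b) := by
  refine AddSubgroup.closure_induction
    (p := fun y _ => ∀ (a : ZMod n) (x : L), x ∈ S K k a → ⁅x, y⁆ ∈ S K k (a + b)) ?_ ?_ ?_ ?_ hy
  · intro y hy
    exact Mono_lie hy
  · intro a x _; rw [lie_zero]; exact zero_mem _
  · intro y z _ _ h1 h2 a x hx
    rw [lie_add]; exact add_mem (h1 a x hx) (h2 a x hx)
  · intro y _ h1 a x hx
    rw [lie_neg]; exact neg_mem (h1 a x hx)

theorem S_lie {K : GrFam L n} {k : ℕ} {a b : ZMod n} {x y : L} (hx : x ∈ S K k a)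
    (hy : y ∈ S K k b) : ⁅x, y⁆ ∈ S K k (a + b) := S_lie_aux hy a x hx


section Kreknin

variable [NeZero n]

theorem val_add_cases (a b : ZMod n) :
    (a + b).val = a.val + b.val ∨ (a + b).val + n = a.val + b.val := by
  rcases lt_or_ge (a.val + b.val) n with h | h
  · exact Or.inl (ZMod.val_add_of_lt h)
  · exact Or.inr (ZMod.val_add_val_of_le h).symm

omit [NeZero n] in
theorem eq_zero_of_val_eq_zero {a : ZMod n} (h : a.val = 0) : a = 0 := (ZMod.val_eq_zero a).1 h

/-- Key lemma for Kreknin's theorem. -/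
theorem keyK (K : GrFam L n) (k : ℕ) : ∀ (b : ℕ) (A B : ZMod n) (x y : L), Mono K k A x →
    y ∈ S K k B → B.val = b → 1 ≤ A.val → 1 ≤ B.val → A.val + B.val = k + 1 →
    ⁅x, y⁆ ∈ S K (k + 1) (A + B) := by
  intro b
  induction b using Nat.strong_induction_on with
  | _ b IH =>
    intro A B x y hx hy hb hA1 hB1 hsum
    cases hx with
    | gen hA _ => omega
    | @step A' d x' g hx' hd hg =>
      have hdn : d.val < n := ZMod.val_lt d
      have hA'n : A'.val < n := ZMod.val_lt A'
      have hBn : B.val < n := ZMod.val_lt B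
      have hABn : (A' + B).val < n := ZMod.val_lt _
      have hBdn : (B + d).val < n := ZMod.val_lt _
      have hAdn : (A' + d).val < n := ZMod.val_lt _
      -- value of A'
      have hA' : A'.val + d.val = (A' + d).val + n := by
        rcases val_add_cases A' d with h | h
        · omega
        · omega
      have e : ⁅⁅x', g⁆, y⁆ = ⁅⁅x', y⁆, g⁆ + ⁅x', ⁅g, y⁆⁆ := by
        rw [lie_lie x' g y, ← lie_skew ⁅x', y⁆ g]; abel
      rw [e]
      refine add_mem ?_ ?_
      · -- term 1
        have h1 : ⁅x', y⁆ ∈ K.C (A' + B) := K.lie_mem hx'.mem (S_le K k B hy)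
        rcases val_add_cases A' B with h | h
        · -- A'.val + B.val < n, so d.val > k+1
          have hv : k + 1 < (A' + B).val := by omega
          have hd' : k + 1 < d.val := by omega
          have := S_lie_gen (mem_S_of_gen hv h1) hd' hg
          exact S_cast (by abel) this
        · have hz : (A' + B).val = 0 := by omega
          have : ⁅x', y⁆ = 0 := by
            rw [eq_zero_of_val_eq_zero hz] at h1
            exact K.eq_zero_of_mem_zero h1
          rw [this, zero_lie]; exact zero_mem _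
      · -- term 2
        have hw : ⁅g, y⁆ ∈ S K k (B + d) := by
          rw [← lie_skew g y]
          exact neg_mem (S_lie_gen hy hd hg)
        rcases val_add_cases B d with h | h
        · -- B.val + d.val < n
          have hv : k + 1 < (B + d).val := by omega
          have hv' : k + 1 < A'.val := by omega
          have hm : Mono K (k + 1) (A' + (B + d)) ⁅x', ⁅g, y⁆⁆ :=
            Mono.step (Mono.gen hv' hx'.mem) hv (S_le K k _ hw)
          exact S_cast (by abel) (AddSubgroup.subset_closure hm)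
        · rcases Nat.eq_zero_or_pos (B + d).val with hz | hpos
          · have : ⁅g, y⁆ = 0 := by
              have h2 := S_le K k _ hw
              rw [eq_zero_of_val_eq_zero hz] at h2
              exact K.eq_zero_of_mem_zero h2
            rw [this, lie_zero]; exact zero_mem _
          · have hlt : (B + d).val < b := by omega
            have := IH (B + d).val hlt A' (B + d) x' ⁅g, y⁆ hx' hw rfl (by omega) hpos (by omega)
            exact S_cast (by abel) this

theorem keyK' (K : GrFam L n) (k : ℕ) {A B : ZMod n} {x y : L} (hx : x ∈ S K k A)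
    (hy : y ∈ S K k B) (hA1 : 1 ≤ A.val) (hB1 : 1 ≤ B.val) (hsum : A.val + B.val = k + 1) :
    ⁅x, y⁆ ∈ S K (k + 1) (A + B) := by
  refine AddSubgroup.closure_induction (p := fun x _ => ⁅x, y⁆ ∈ S K (k + 1) (A + B))
    ?_ ?_ ?_ ?_ hx
  · intro x hx
    exact keyK K k B.val A B x y hx hy rfl hA1 hB1 hsum
  · rw [zero_lie]; exact zero_mem _
  · intro x z _ _ h1 h2
    rw [add_lie]; exact add_mem h1 h2
  · intro x _ h1
    rw [neg_lie]; exact neg_mem h1


theorem der_mem_S (K : GrFam L n) (k : ℕ)
    (IH : ∀ a, (K.derN (2 ^ k - 1)).C a ≤ S K k a) {d : ZMod n} {g : L}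
    (hg : g ∈ (K.derN (2 ^ k - 1)).der.C d) (hd : k < d.val) : g ∈ S K (k + 1) d := by
  set M := K.derN (2 ^ k - 1) with hM
  rcases lt_or_eq_of_le (Nat.succ_le_of_lt hd) with h | h
  · exact mem_S_of_gen h (K.derN_le _ d (M.der_le d hg))
  · -- d.val = k + 1
    refine AddSubgroup.closure_induction (p := fun g _ => g ∈ S K (k + 1) d) ?_ ?_ ?_ ?_ hg
    · rintro z ⟨b, c, x, hx, y, hy, rfl, rfl⟩
      have hbn : b.val < n := ZMod.val_lt b
      have hcn : c.val < n := ZMod.val_lt c
      rcases Nat.eq_zero_or_pos b.val with hb0 | hb1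
      · have : x = 0 := by
          rw [eq_zero_of_val_eq_zero hb0] at hx
          exact M.eq_zero_of_mem_zero hx
        rw [this, zero_lie]; exact zero_mem _
      rcases Nat.eq_zero_or_pos c.val with hc0 | hc1
      · have : y = 0 := by
          rw [eq_zero_of_val_eq_zero hc0] at hy
          exact M.eq_zero_of_mem_zero hy
        rw [this, lie_zero]; exact zero_mem _
      rcases val_add_cases b c with hv | hv
      · exact keyK' K k (IH b hx) (IH c hy) hb1 hc1 (by omega)
      · have hb : k + 1 < b.val := by omega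
        have hc : k + 1 < c.val := by omega
        exact S_lie_gen (mem_S_of_gen hb (K.derN_le _ b hx)) hc (K.derN_le _ c hy)
    · exact zero_mem _
    · intro x y _ _ h1 h2; exact add_mem h1 h2
    · intro x _ h1; exact neg_mem h1

theorem Qk (k : ℕ) : ∀ (K : GrFam L n) (a : ZMod n), (K.derN (2 ^ k - 1)).C a ≤ S K k a := by
  induction k with
  | zero =>
    intro K a x hx
    simp only [pow_zero, Nat.sub_self, GrFam.derN_zero] at hx
    rcases Nat.eq_zero_or_pos a.val with h | h
    · have : x = 0 := by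
        rw [eq_zero_of_val_eq_zero h] at hx
        exact K.eq_zero_of_mem_zero hx
      rw [this]; exact zero_mem _
    · exact mem_S_of_gen h hx
  | succ k ih =>
    intro K a
    have e : 2 ^ (k + 1) - 1 = (2 ^ k - 1) + (1 + (2 ^ k - 1)) := by
      have : 1 ≤ 2 ^ k := Nat.one_le_two_pow
      rw [pow_succ]; omega
    rw [e, GrFam.derN_add, GrFam.derN_add _ 1]
    have e1 : (K.derN (2 ^ k - 1)).derN 1 = (K.derN (2 ^ k - 1)).der := rfl
    rw [e1]
    refine le_trans (ih (K.derN (2 ^ k - 1)).der a) ?_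
    refine (AddSubgroup.closure_le _).2 ?_
    intro x hx
    induction hx with
    | gen ha hx => exact der_mem_S K k (ih K) hx ha
    | step _ hd hg ih2 => exact S_lie ih2 (der_mem_S K k (ih K) hg hd)

/-- **Kreknin's theorem** (graded form): a `ZMod n`-graded family with trivial zero component
is solvable of derived length at most `2 ^ (n - 1) - 1`. -/
theorem kreknin (K : GrFam L n) (a : ZMod n) : (K.derN (2 ^ (n - 1) - 1)).C a = ⊥ := by
  rw [eq_bot_iff]
  refine le_trans (Qk (n - 1) K a) ?_
  refine (AddSubgroup.closure_le _).2 ?_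
  intro x hx
  exfalso
  have hpos : 0 < n := Nat.pos_of_ne_zero (NeZero.ne n)
  induction hx with
  | @gen a _ ha _ => have := ZMod.val_lt a; omega
  | @step _ d _ _ _ hd _ _ => have := ZMod.val_lt d; omega

end Kreknin

end Cfsg.Agent.Lib.Helper63.KK
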