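-- helper63: Kreknin–Kostrikin nilpotency bound for (Z/p)-graded families in a Lie ring (for S3779).
import Mathlib
import Cfsg.Agent.Lib.Helper63.KKGraded

set_option autoImplicit false
set_option linter.unusedSectionVars false

namespace Cfsg.Agent.Lib.Helper63.KK

variable {L : Type*} [LieRing L] {n : ℕ}

namespace GrFam

/-- generators of the next lower central family -/
def lcSet (K : GrFam L n) (T : ZMod n → AddSubgroup L) (a : ZMod n) : Set L :=
  {z | ∃ b c : ZMod n, ∃ x ∈ T b, ∃ y ∈ K.C c, b + c = a ∧ z = ⁅x, y⁆}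

/-- lower central families; `lcF K m` has weight `m + 1`. -/
def lcF (K : GrFam L n) : ℕ → ZMod n → AddSubgroup L
  | 0 => K.C
  | m + 1 => fun a => AddSubgroup.closure (K.lcSet (lcF K m) a)

@[simp] theorem lcF_zero (K : GrFam L n) : K.lcF 0 = K.C := rfl
theorem lcF_succ (K : GrFam L n) (m : ℕ) (a : ZMod n) :
    K.lcF (m + 1) a = AddSubgroup.closure (K.lcSet (K.lcF m) a) := rfl

theorem lcF_le (K : GrFam L n) : ∀ m a, K.lcF m a ≤ K.C a
  | 0, _ => le_rfl
  | m + 1, a => by
    rw [lcF_succ]
    refine (AddSubgroup.closure_le _).2 ?_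
    rintro z ⟨b, c, x, hx, y, hy, rfl, rfl⟩
    exact K.lie_mem (lcF_le K m b hx) hy

theorem lie_mem_lcF_succ (K : GrFam L n) {m : ℕ} {b c : ZMod n} {x y : L}
    (hx : x ∈ K.lcF m b) (hy : y ∈ K.C c) : ⁅x, y⁆ ∈ K.lcF (m + 1) (b + c) :=
  AddSubgroup.subset_closure ⟨b, c, x, hx, y, hy, rfl, rfl⟩

theorem lcF_succ_le (K : GrFam L n) : ∀ m a, K.lcF (m + 1) a ≤ K.lcF m a
  | 0, a => K.lcF_le 1 a
  | m + 1, a => by
    rw [lcF_succ]
    refine (AddSubgroup.closure_le _).2 ?_
    rintro z ⟨b, c, x, hx, y, hy, rfl, rfl⟩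
    exact K.lie_mem_lcF_succ (lcF_succ_le K m b hx) hy

theorem lcF_anti (K : GrFam L n) {m m' : ℕ} (h : m ≤ m') (a : ZMod n) :
    K.lcF m' a ≤ K.lcF m a := by
  induction h with
  | refl => exact le_rfl
  | step _ ih => exact le_trans (K.lcF_succ_le _ a) ih

theorem lcF_cast (K : GrFam L n) {m m' : ℕ} {a a' : ZMod n} (hm : m = m') (ha : a = a') {x : L}
    (hx : x ∈ K.lcF m a) : x ∈ K.lcF m' a' := by subst hm; subst ha; exact hx

theorem lie_mem_lcF (K : GrFam L n) : ∀ (j i : ℕ) (a b : ZMod n) (x y : L),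
    x ∈ K.lcF i a → y ∈ K.lcF j b → ⁅x, y⁆ ∈ K.lcF (i + j + 1) (a + b) := by
  intro j
  induction j with
  | zero => intro i a b x y hx hy; exact K.lie_mem_lcF_succ hx hy
  | succ j ih =>
    intro i a b x y hx hy
    rw [lcF_succ] at hy
    refine AddSubgroup.closure_induction
      (p := fun y _ => ⁅x, y⁆ ∈ K.lcF (i + (j + 1) + 1) (a + b)) ?_ ?_ ?_ ?_ hy
    · rintro _ ⟨b', c, y', hy', z, hz, rfl, rfl⟩
      have e : ⁅x, ⁅y', z⁆⁆ = ⁅⁅x, y'⁆, z⁆ - ⁅⁅x, z⁆, y'⁆ := by
        rw [lie_lie x y' z, ← lie_skew y' ⁅x, z⁆]; abel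
      rw [e]
      refine sub_mem ?_ ?_
      · exact K.lcF_cast (by omega) (by abel) (K.lie_mem_lcF_succ (ih i a b' x y' hx hy') hz)
      · exact K.lcF_cast (by omega) (by abel)
          (ih (i + 1) (a + c) b' ⁅x, z⁆ y' (K.lie_mem_lcF_succ hx hz) hy')
    · rw [lie_zero]; exact zero_mem _
    · intro y z _ _ h1 h2; rw [lie_add]; exact add_mem h1 h2
    · intro y _ h1; rw [lie_neg]; exact neg_mem h1

/-- the derived families are ideals -/
theorem derN_lie_mem (K : GrFam L n) : ∀ (s : ℕ) (a b : ZMod n) (x y : L),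
    x ∈ (K.derN s).C a → y ∈ K.C b → ⁅x, y⁆ ∈ (K.derN s).C (a + b) := by
  intro s
  induction s with
  | zero => intro a b x y hx hy; exact K.lie_mem hx hy
  | succ s ih =>
    intro a b x y hx hy
    rw [derN_succ] at hx ⊢
    refine AddSubgroup.closure_induction
      (p := fun x _ => ⁅x, y⁆ ∈ (K.derN s).der.C (a + b)) ?_ ?_ ?_ ?_ hx
    · rintro _ ⟨b', c', u, hu, v, hv, rfl, rfl⟩
      have e : ⁅⁅u, v⁆, y⁆ = ⁅⁅u, y⁆, v⁆ + ⁅u, ⁅v, y⁆⁆ := by
        rw [lie_lie u v y, ← lie_skew ⁅u, y⁆ v]; abel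
      rw [e]
      refine add_mem ?_ ?_
      · have := (K.derN s).lie_mem_der (ih b' b u y hu hy) hv
        exact (show b' + b + c' = b' + c' + b by abel) ▸ this
      · have := (K.derN s).lie_mem_der hu (ih c' b v y hv hy)
        exact (show b' + (c' + b) = b' + c' + b by abel) ▸ this
    · rw [zero_lie]; exact zero_mem _
    · intro x z _ _ h1 h2; rw [add_lie]; exact add_mem h1 h2
    · intro x _ h1; rw [neg_lie]; exact neg_mem h1

end GrFam


/-! ### subset sums in `ZMod p` -/

section SubsetSum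

variable {p : ℕ} [Fact p.Prime]

/-- the set of sums of sublists -/
def sums : List (ZMod p) → Finset (ZMod p)
  | [] => {0}
  | d :: l => sums l ∪ (sums l).image (· + d)

theorem zero_mem_sums : ∀ l : List (ZMod p), (0 : ZMod p) ∈ sums l
  | [] => Finset.mem_singleton_self 0
  | _ :: l => Finset.mem_union_left _ (zero_mem_sums l)

theorem exists_sublist_of_mem_sums : ∀ (l : List (ZMod p)) (t : ZMod p), t ∈ sums l →
    ∃ sub : List (ZMod p), sub.Sublist l ∧ sub.sum = t
  | [], t, h => by
    have ht : t = 0 := by simpa [sums] using h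
    exact ⟨[], List.Sublist.refl _, by simp [ht]⟩
  | d :: l, t, h => by
    rcases Finset.mem_union.1 h with h | h
    · obtain ⟨sub, hs, hsum⟩ := exists_sublist_of_mem_sums l t h
      exact ⟨sub, hs.cons d, hsum⟩
    · obtain ⟨s, hs, rfl⟩ := Finset.mem_image.1 h
      obtain ⟨sub, hsub, hsum⟩ := exists_sublist_of_mem_sums l s hs
      refine ⟨d :: sub, hsub.cons_cons d, ?_⟩
      rw [List.sum_cons, hsum, add_comm]

theorem card_sums_ge : ∀ (l : List (ZMod p)), (∀ d ∈ l, d ≠ 0) →
    min p (l.length + 1) ≤ (sums l).card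
  | [], _ => by simp [sums]
  | d :: l, hl => by
    have hd : d ≠ 0 := hl d (List.mem_cons_self)
    have ih := card_sums_ge l (fun e he => hl e (List.mem_cons_of_mem _ he))
    set T := sums l with hT
    have hsub : T ⊆ sums (d :: l) := Finset.subset_union_left
    by_cases hu : T = Finset.univ
    · have : sums (d :: l) = Finset.univ := by
        rw [Finset.eq_univ_iff_forall]; intro x; exact hsub (hu ▸ Finset.mem_univ x)
      rw [this, Finset.card_univ, ZMod.card]
      exact min_le_left _ _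
    · -- strict growth
      have hlt : T.card < (sums (d :: l)).card := by
        by_contra hcon
        push Not at hcon
        have heq : T = sums (d :: l) := Finset.eq_of_subset_of_card_le hsub hcon
        have hinv : ∀ x ∈ T, x + d ∈ T := by
          intro x hx
          rw [heq]
          exact Finset.mem_union_right _ (Finset.mem_image_of_mem _ hx)
        have hinv' : ∀ m : ℕ, ∀ x ∈ T, x + m • d ∈ T := by
          intro m
          induction m with
          | zero => intro x hx; simpa using hx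
          | succ m ihm =>
            intro x hx
            have := hinv _ (ihm x hx)
            rwa [add_assoc, ← succ_nsmul] at this
        apply hu
        rw [Finset.eq_univ_iff_forall]
        intro y
        have h0 : (0 : ZMod p) ∈ T := zero_mem_sums l
        have := hinv' (y * d⁻¹).val 0 h0
        rwa [zero_add, nsmul_eq_mul, ZMod.natCast_zmod_val, inv_mul_cancel_right₀ hd] at this
      have : min p (l.length + 1) + 1 ≤ (sums (d :: l)).card := by omega
      simp only [List.length_cons]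
      omega

theorem exists_sublist_sum (l : List (ZMod p)) (hl : ∀ d ∈ l, d ≠ 0) (hlen : p - 1 ≤ l.length)
    (t : ZMod p) : ∃ sub : List (ZMod p), sub.Sublist l ∧ sub.sum = t := by
  apply exists_sublist_of_mem_sums
  have hp : 0 < p := (Fact.out : p.Prime).pos
  have h1 := card_sums_ge l hl
  have h2 : (sums l).card ≤ p := by
    have := Finset.card_le_univ (sums l)
    rwa [ZMod.card] at this
  have h3 : (sums l).card = Fintype.card (ZMod p) := by rw [ZMod.card]; omega
  have := (Finset.card_eq_iff_eq_univ _).1 h3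
  rw [this]; exact Finset.mem_univ t

end SubsetSum


/-! ### weighted lists of homogeneous elements and left-normed products -/

/-- an entry: weight (minus one), degree, element -/
structure Ent (L : Type*) (n : ℕ) where
  w : ℕ
  d : ZMod n
  y : L

def Ent.Good (K : GrFam L n) (t : Ent L n) : Prop := t.y ∈ K.lcF t.w t.d

/-- left-normed product `⁅…⁅⁅u, y₁⁆, y₂⁆, …, yᵣ⁆` -/
def prod (u : L) (ys : List (Ent L n)) : L := ys.foldl (fun acc t => ⁅acc, t.y⁆) u

def deg (ys : List (Ent L n)) : ZMod n := (ys.map (fun t => t.d)).sum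
def wt (ys : List (Ent L n)) : ℕ := (ys.map (fun t => t.w + 1)).sum

@[simp] theorem prod_nil (u : L) : prod u ([] : List (Ent L n)) = u := rfl
@[simp] theorem prod_cons (u : L) (t : Ent L n) (ys : List (Ent L n)) :
    prod u (t :: ys) = prod ⁅u, t.y⁆ ys := rfl
theorem prod_append (u : L) (l1 l2 : List (Ent L n)) :
    prod u (l1 ++ l2) = prod (prod u l1) l2 := by
  unfold prod; rw [List.foldl_append]

@[simp] theorem deg_nil : deg ([] : List (Ent L n)) = 0 := rfl
@[simp] theorem deg_cons (t : Ent L n) (ys : List (Ent L n)) : deg (t :: ys) = t.d + deg ys := by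
  simp [deg]
theorem deg_append (l1 l2 : List (Ent L n)) : deg (l1 ++ l2) = deg l1 + deg l2 := by
  simp [deg]
@[simp] theorem wt_nil : wt ([] : List (Ent L n)) = 0 := rfl
@[simp] theorem wt_cons (t : Ent L n) (ys : List (Ent L n)) : wt (t :: ys) = t.w + 1 + wt ys := by
  simp [wt]
theorem wt_append (l1 l2 : List (Ent L n)) : wt (l1 ++ l2) = wt l1 + wt l2 := by
  simp [wt]

theorem deg_perm {l l' : List (Ent L n)} (h : l.Perm l') : deg l = deg l' :=
  (h.map _).sum_eq
theorem wt_perm {l l' : List (Ent L n)} (h : l.Perm l') : wt l = wt l' :=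
  (h.map _).sum_eq

theorem prod_zero : ∀ ys : List (Ent L n), prod (0 : L) ys = 0
  | [] => rfl
  | t :: ys => by rw [prod_cons, zero_lie, prod_zero ys]

theorem prod_add : ∀ (ys : List (Ent L n)) (u v : L), prod (u + v) ys = prod u ys + prod v ys
  | [], _, _ => rfl
  | t :: ys, u, v => by rw [prod_cons, prod_cons, prod_cons, add_lie, prod_add ys]

theorem prod_neg : ∀ (ys : List (Ent L n)) (u : L), prod (-u) ys = -prod u ys
  | [], _ => rfl
  | t :: ys, u => by rw [prod_cons, prod_cons, neg_lie, prod_neg ys]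

theorem prod_sub (ys : List (Ent L n)) (u v : L) : prod (u - v) ys = prod u ys - prod v ys := by
  rw [sub_eq_add_neg, prod_add, prod_neg, ← sub_eq_add_neg]

theorem prod_eq_zero_of_mem : ∀ (ys : List (Ent L n)) (u : L) (t : Ent L n), t ∈ ys → t.y = 0 →
    prod u ys = 0
  | [], _, _, h, _ => by cases h
  | t' :: ys, u, t, h, h0 => by
    rw [prod_cons]
    rcases List.mem_cons.1 h with rfl | h
    · rw [h0, lie_zero, prod_zero]
    · exact prod_eq_zero_of_mem ys _ t h h0

/-- products stay in an ideal family -/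
theorem prod_mem_ideal (K : GrFam L n) (J : ZMod n → AddSubgroup L)
    (hJ : ∀ (a b : ZMod n) (x y : L), x ∈ J a → y ∈ K.C b → ⁅x, y⁆ ∈ J (a + b)) :
    ∀ (ys : List (Ent L n)) (j : ZMod n) (u : L), u ∈ J j → (∀ t ∈ ys, t.y ∈ K.C t.d) →
      prod u ys ∈ J (j + deg ys)
  | [], j, u, hu, _ => by simpa using hu
  | t :: ys, j, u, hu, h => by
    rw [prod_cons, deg_cons, ← add_assoc]
    exact prod_mem_ideal K J hJ ys (j + t.d) _
      (hJ j t.d u t.y hu (h t (List.mem_cons_self)))
      (fun t' ht' => h t' (List.mem_cons_of_mem _ ht'))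

theorem Ent.Good.mem {K : GrFam L n} {t : Ent L n} (h : t.Good K) : t.y ∈ K.C t.d :=
  K.lcF_le _ _ h


/-! ### the Kostrikin–Kreknin step -/

section Step

variable {p : ℕ} [Fact p.Prime] (K : GrFam L p) (s c : ℕ)

/-- swapping two adjacent entries changes a product by a shorter product of the same weight. -/
theorem perm_invariance (r : ℕ)
    (IHr : ∀ ys' : List (Ent L p), ys'.length + 1 = r → (∀ t ∈ ys', t.Good K) →
      (p - 2) * c + 1 ≤ wt ys' → ∀ (j : ZMod p) (u : L), u ∈ (K.derN s).C j →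
      prod u ys' ∈ (K.derN (s + 1)).C (j + deg ys')) :
    ∀ {l l' : List (Ent L p)}, l.Perm l' → ∀ pre : List (Ent L p),
      (∀ t ∈ pre ++ l, t.Good K) → (pre ++ l).length = r → (p - 2) * c + 1 ≤ wt (pre ++ l) →
      ∀ (j : ZMod p) (u : L), u ∈ (K.derN s).C j →
      prod u (pre ++ l) - prod u (pre ++ l') ∈ (K.derN (s + 1)).C (j + deg (pre ++ l)) := by
  intro l l' h
  induction h with
  | nil => intro pre _ _ _ j u _; rw [sub_self]; exact zero_mem _
  | @cons x l l' _ ih =>
    intro pre hg hlen hw j u hu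
    have e1 : pre ++ x :: l = (pre ++ [x]) ++ l := by simp
    have e2 : pre ++ x :: l' = (pre ++ [x]) ++ l' := by simp
    rw [e1, e2]
    exact ih (pre ++ [x]) (e1 ▸ hg) (e1 ▸ hlen) (e1 ▸ hw) j u hu
  | swap x y l =>
    intro pre hg hlen hw j u hu
    -- l = y :: x :: l, l' = x :: y :: l
    set X := prod u pre with hX
    have hdiff : prod u (pre ++ y :: x :: l) - prod u (pre ++ x :: y :: l)
        = prod u (pre ++ (⟨y.w + x.w + 1, y.d + x.d, ⁅y.y, x.y⁆⟩ : Ent L p) :: l) := by
      rw [prod_append, prod_append, prod_append, prod_cons, prod_cons, prod_cons, prod_cons,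
        prod_cons, ← prod_sub]
      congr 1
      rw [lie_lie X y.y x.y, ← lie_skew ⁅X, x.y⁆ y.y]; abel
    rw [hdiff]
    have hgy : y.Good K := hg y (by simp)
    have hgx : x.Good K := hg x (by simp)
    have hgood : ∀ t ∈ pre ++ (⟨y.w + x.w + 1, y.d + x.d, ⁅y.y, x.y⁆⟩ : Ent L p) :: l,
        t.Good K := by
      intro t ht
      rcases List.mem_append.1 ht with ht | ht
      · exact hg t (List.mem_append_left _ ht)
      · rcases List.mem_cons.1 ht with rfl | ht
        · exact K.lie_mem_lcF _ _ _ _ _ _ hgy hgx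
        · exact hg t (List.mem_append_right _ (List.mem_cons_of_mem _ (List.mem_cons_of_mem _ ht)))
    have hlen' : (pre ++ (⟨y.w + x.w + 1, y.d + x.d, ⁅y.y, x.y⁆⟩ : Ent L p) :: l).length + 1
        = r := by
      rw [← hlen]; simp only [List.length_append, List.length_cons]; omega
    have hw' : (p - 2) * c + 1 ≤
        wt (pre ++ (⟨y.w + x.w + 1, y.d + x.d, ⁅y.y, x.y⁆⟩ : Ent L p) :: l) := by
      refine le_trans hw (le_of_eq ?_)
      rw [wt_append, wt_append, wt_cons, wt_cons, wt_cons]; dsimp only; omega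
    have hdeg : deg (pre ++ (⟨y.w + x.w + 1, y.d + x.d, ⁅y.y, x.y⁆⟩ : Ent L p) :: l)
        = deg (pre ++ y :: x :: l) := by
      rw [deg_append, deg_append, deg_cons, deg_cons, deg_cons]; dsimp only; abel
    rw [← hdeg]
    exact IHr _ hlen' hgood hw' j u hu
  | @trans l1 l2 l3 h12 _ ih1 ih2 =>
    intro pre hg hlen hw j u hu
    have hP : (pre ++ l1).Perm (pre ++ l2) := List.Perm.append_left pre h12
    have hg2 : ∀ t ∈ pre ++ l2, t.Good K := fun t ht => hg t (hP.mem_iff.2 ht)
    have hlen2 : (pre ++ l2).length = r := by rw [← hlen]; exact hP.length_eq.symm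
    have hw2 : (p - 2) * c + 1 ≤ wt (pre ++ l2) := by rw [← wt_perm hP]; exact hw
    have a1 := ih1 pre hg hlen hw j u hu
    have a2 := ih2 pre hg2 hlen2 hw2 j u hu
    rw [← deg_perm hP] at a2
    have : prod u (pre ++ l1) - prod u (pre ++ l3)
        = (prod u (pre ++ l1) - prod u (pre ++ l2)) + (prod u (pre ++ l2) - prod u (pre ++ l3)) := by
      abel
    rw [this]; exact add_mem a1 a2


theorem wt_le_of_forall (c : ℕ) : ∀ ys : List (Ent L n), (∀ t ∈ ys, t.w < c) → wt ys ≤ ys.length * c
  | [], _ => by simp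
  | t :: ys, h => by
    have h1 := h t (List.mem_cons_self)
    have h2 := wt_le_of_forall c ys (fun t' ht' => h t' (List.mem_cons_of_mem _ ht'))
    rw [wt_cons, List.length_cons, Nat.succ_mul]; omega

theorem prod_mem_der (hc : ∀ a, K.lcF c a ≤ (K.derN s).C a) : ∀ (r : ℕ) (ys : List (Ent L p)),
    ys.length = r → (∀ t ∈ ys, t.Good K) → (p - 2) * c + 1 ≤ wt ys →
    ∀ (j : ZMod p) (u : L), u ∈ (K.derN s).C j →
    prod u ys ∈ (K.derN (s + 1)).C (j + deg ys) := by
  intro r
  induction r using Nat.strong_induction_on with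
  | _ r IH =>
    intro ys hlen hg hw j u hu
    by_cases h1 : ∃ t ∈ ys, c ≤ t.w
    · obtain ⟨t, ht, hct⟩ := h1
      obtain ⟨l1, l2, rfl⟩ := List.append_of_mem ht
      rw [prod_append, prod_cons]
      have hA : prod u l1 ∈ (K.derN s).C (j + deg l1) :=
        prod_mem_ideal K (K.derN s).C (K.derN_lie_mem s) l1 j u hu
          (fun t' ht' => (hg t' (List.mem_append_left _ ht')).mem)
      have htA : t.y ∈ (K.derN s).C t.d :=
        hc _ (K.lcF_anti hct _ (hg t (List.mem_append_right _ (List.mem_cons_self))))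
      have hI : ⁅prod u l1, t.y⁆ ∈ (K.derN (s + 1)).C (j + deg l1 + t.d) :=
        (K.derN s).lie_mem_der hA htA
      have := prod_mem_ideal K (K.derN (s + 1)).C (K.derN_lie_mem (s + 1)) l2 _ _ hI
        (fun t' ht' => (hg t' (List.mem_append_right _ (List.mem_cons_of_mem _ ht'))).mem)
      have e : j + deg l1 + t.d + deg l2 = j + deg (l1 ++ t :: l2) := by
        rw [deg_append, deg_cons]; abel
      exact e ▸ this
    · push Not at h1
      have hne : ys ≠ [] := by
        rintro rfl
        simp at hw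
      have hwle := wt_le_of_forall c ys h1
      have hrp : p - 1 ≤ r := by
        have h2 : (p - 2) * c < r * c := by rw [← hlen]; omega
        have := Nat.lt_of_mul_lt_mul_right h2
        omega
      by_cases hj : j = 0
      · have : u = 0 := by rw [hj] at hu; exact (K.derN s).eq_zero_of_mem_zero hu
        rw [this, prod_zero]; exact zero_mem _
      by_cases hd0 : ∃ t ∈ ys, t.d = 0
      · obtain ⟨t, ht, htd⟩ := hd0
        have : t.y = 0 := by
          have := (hg t ht).mem
          rw [htd] at this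
          exact K.eq_zero_of_mem_zero this
        rw [prod_eq_zero_of_mem ys u t ht this]; exact zero_mem _
      push Not at hd0
      -- subset sum
      have htake : ((ys.take (p - 1)).map (fun t => t.d)).length = p - 1 := by
        rw [List.length_map, List.length_take, hlen]; omega
      have hnz : ∀ d ∈ (ys.take (p - 1)).map (fun t => t.d), d ≠ 0 := by
        intro d hd
        obtain ⟨t, ht, rfl⟩ := List.mem_map.1 hd
        exact hd0 t (List.mem_of_mem_take ht)
      obtain ⟨sub, hsub, hsum⟩ := exists_sublist_sum _ hnz (le_of_eq htake.symm) (-j)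
      obtain ⟨sub', hsub', rfl⟩ := List.sublist_map_iff.1 hsub
      have hsubys : sub'.Sublist ys := hsub'.trans (List.take_sublist _ _)
      obtain ⟨rest, hperm⟩ := hsubys.exists_perm_append
      have IHr : ∀ ys' : List (Ent L p), ys'.length + 1 = r → (∀ t ∈ ys', t.Good K) →
          (p - 2) * c + 1 ≤ wt ys' → ∀ (j : ZMod p) (u : L), u ∈ (K.derN s).C j →
          prod u ys' ∈ (K.derN (s + 1)).C (j + deg ys') := by
        intro ys' hl' hg' hw' j' u' hu'
        exact IH (r - 1) (by omega) ys' (by omega) hg' hw' j' u' hu'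
      have key := perm_invariance K s c r IHr hperm [] (by simpa using hg) (by simpa using hlen)
        (by simpa using hw) j u hu
      simp only [List.nil_append] at key
      have hz : prod u (sub' ++ rest) = 0 := by
        rw [prod_append]
        have hA : prod u sub' ∈ (K.derN s).C (j + deg sub') :=
          prod_mem_ideal K (K.derN s).C (K.derN_lie_mem s) sub' j u hu
            (fun t' ht' => (hg t' (hsubys.subset ht')).mem)
        have hdeg : j + deg sub' = 0 := by
          have : deg sub' = -j := hsum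
          rw [this]; abel
        rw [hdeg] at hA
        rw [(K.derN s).eq_zero_of_mem_zero hA, prod_zero]
      rw [hz, sub_zero] at key
      exact key

end Step


/-! ### the main theorem -/

/-- the Kostrikin–Kreknin function: `xi p s = 1 + (p-1) + ⋯ + (p-1)^(s-1)` -/
def xi (p : ℕ) : ℕ → ℕ
  | 0 => 0
  | s + 1 => (p - 1) * xi p s + 1

theorem xi_eq_sum (p : ℕ) : ∀ s, xi p s = ∑ i ∈ Finset.range s, (p - 1) ^ i
  | 0 => by simp [xi]
  | s + 1 => by
    rw [Finset.sum_range_succ', xi, xi_eq_sum p s, Finset.mul_sum]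
    simp [pow_succ, mul_comm]

section Main

variable {p : ℕ} [Fact p.Prime] (K : GrFam L p)

theorem wt_eq_length : ∀ ys : List (Ent L n), (∀ t ∈ ys, t.w = 0) → wt ys = ys.length
  | [], _ => rfl
  | t :: ys, h => by
    rw [wt_cons, List.length_cons, h t (List.mem_cons_self),
      wt_eq_length ys (fun t' ht' => h t' (List.mem_cons_of_mem _ ht'))]; omega

/-- `lcF (c+m)` is spanned by products of an element of `lcF c` with `m` homogeneous elements. -/
theorem lcF_prod_span (c : ℕ) : ∀ (m : ℕ) (a : ZMod p), K.lcF (c + m) a ≤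
    AddSubgroup.closure {z | ∃ (j : ZMod p) (u : L) (ys : List (Ent L p)), u ∈ K.lcF c j ∧
      ys.length = m ∧ (∀ t ∈ ys, t.w = 0 ∧ t.y ∈ K.C t.d) ∧ j + deg ys = a ∧ z = prod u ys} := by
  intro m
  induction m with
  | zero =>
    intro a x hx
    exact AddSubgroup.subset_closure ⟨a, x, [], hx, rfl, by simp, by simp, rfl⟩
  | succ m ih =>
    intro a
    rw [← add_assoc, GrFam.lcF_succ]
    refine (AddSubgroup.closure_le _).2 ?_
    rintro _ ⟨b, c', x, hx, y, hy, rfl, rfl⟩
    have hx' := ih b hx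
    refine AddSubgroup.closure_induction (p := fun x _ => ⁅x, y⁆ ∈ AddSubgroup.closure
      {z | ∃ (j : ZMod p) (u : L) (ys : List (Ent L p)), u ∈ K.lcF c j ∧
      ys.length = m + 1 ∧ (∀ t ∈ ys, t.w = 0 ∧ t.y ∈ K.C t.d) ∧ j + deg ys = b + c' ∧
      z = prod u ys}) ?_ ?_ ?_ ?_ hx'
    · rintro _ ⟨j, u, ys, hu, hl, hys, hd, rfl⟩
      refine AddSubgroup.subset_closure ⟨j, u, ys ++ [⟨0, c', y⟩], hu, by simp [hl], ?_, ?_, ?_⟩
      · intro t ht
        rcases List.mem_append.1 ht with ht | ht
        · exact hys t ht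
        · rw [List.mem_singleton] at ht; subst ht; exact ⟨rfl, hy⟩
      · rw [deg_append, ← add_assoc, hd]; simp
      · rw [prod_append]; rfl
    · rw [zero_lie]; exact zero_mem _
    · intro x z _ _ h1 h2; rw [add_lie]; exact add_mem h1 h2
    · intro x _ h1; rw [neg_lie]; exact neg_mem h1

theorem lcF_xi_le : ∀ (s : ℕ) (a : ZMod p), K.lcF (xi p s) a ≤ (K.derN s).C a := by
  intro s
  induction s with
  | zero => intro a; exact le_rfl
  | succ s ih =>
    intro a
    have hp2 : 2 ≤ p := (Fact.out : p.Prime).two_le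
    have e : xi p (s + 1) = xi p s + ((p - 2) * xi p s + 1) := by
      rw [xi]
      have : p - 1 = (p - 2) + 1 := by omega
      rw [this, Nat.succ_mul]; omega
    rw [e]
    refine le_trans (lcF_prod_span K (xi p s) _ a) ?_
    refine (AddSubgroup.closure_le _).2 ?_
    rintro _ ⟨j, u, ys, hu, hl, hys, hd, rfl⟩
    have hgood : ∀ t ∈ ys, t.Good K := by
      intro t ht
      obtain ⟨h0, hy⟩ := hys t ht
      unfold Ent.Good; rw [h0]; exact hy
    have hwt : wt ys = ys.length := wt_eq_length ys (fun t ht => (hys t ht).1)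
    have := prod_mem_der K s (xi p s) ih _ ys rfl hgood (by rw [hwt, hl]) j u (ih j hu)
    rw [hd] at this
    exact this

/-- **Kreknin–Kostrikin**: a `ZMod p`-graded family with trivial zero component is nilpotent of
class at most `xi p (2 ^ (p - 1) - 1)`. -/
theorem kk (a : ZMod p) : K.lcF (xi p (2 ^ (p - 1) - 1)) a = ⊥ := by
  have : NeZero p := ⟨(Fact.out : p.Prime).ne_zero⟩
  rw [eq_bot_iff]
  refine le_trans (lcF_xi_le K _ a) ?_
  rw [kreknin K a]

end Main


/-! ### consequences for arbitrary elements of the homogeneous span -/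

/-- the additive subgroup spanned by all components of `lcF K m` -/
def GrFam.tot (K : GrFam L n) (m : ℕ) : AddSubgroup L :=
  AddSubgroup.closure (⋃ a, (K.lcF m a : Set L))

theorem GrFam.mem_tot_of_mem (K : GrFam L n) {m : ℕ} {a : ZMod n} {x : L} (hx : x ∈ K.lcF m a) :
    x ∈ K.tot m :=
  AddSubgroup.subset_closure (Set.mem_iUnion.2 ⟨a, hx⟩)

theorem GrFam.lie_mem_tot (K : GrFam L n) {m : ℕ} {x z : L} (hx : x ∈ K.tot m)
    (hz : z ∈ K.tot 0) : ⁅x, z⁆ ∈ K.tot (m + 1) := by
  refine AddSubgroup.closure_induction (p := fun x _ => ⁅x, z⁆ ∈ K.tot (m + 1)) ?_ ?_ ?_ ?_ hx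
  · intro x hx
    obtain ⟨a, hxa⟩ := Set.mem_iUnion.1 hx
    refine AddSubgroup.closure_induction (p := fun z _ => ⁅x, z⁆ ∈ K.tot (m + 1)) ?_ ?_ ?_ ?_ hz
    · intro z hz
      obtain ⟨c, hzc⟩ := Set.mem_iUnion.1 hz
      exact K.mem_tot_of_mem (K.lie_mem_lcF_succ hxa hzc)
    · rw [lie_zero]; exact zero_mem _
    · intro y z _ _ h1 h2; rw [lie_add]; exact add_mem h1 h2
    · intro y _ h1; rw [lie_neg]; exact neg_mem h1
  · rw [zero_lie]; exact zero_mem _
  · intro x y _ _ h1 h2; rw [add_lie]; exact add_mem h1 h2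
  · intro x _ h1; rw [neg_lie]; exact neg_mem h1

/-- left-normed product of a plain list -/
def lprod (u : L) (zs : List L) : L := zs.foldl (fun acc z => ⁅acc, z⁆) u

@[simp] theorem lprod_nil (u : L) : lprod u [] = u := rfl
@[simp] theorem lprod_cons (u z : L) (zs : List L) : lprod u (z :: zs) = lprod ⁅u, z⁆ zs := rfl

theorem GrFam.lprod_mem_tot (K : GrFam L n) : ∀ (zs : List L) (m : ℕ) (u : L), u ∈ K.tot m →
    (∀ z ∈ zs, z ∈ K.tot 0) → lprod u zs ∈ K.tot (m + zs.length)
  | [], m, u, hu, _ => by simpa using hu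
  | z :: zs, m, u, hu, h => by
    rw [lprod_cons, List.length_cons, ← add_assoc, add_right_comm]
    exact GrFam.lprod_mem_tot K zs (m + 1) _ (K.lie_mem_tot hu (h z (List.mem_cons_self)))
      (fun z' hz' => h z' (List.mem_cons_of_mem _ hz'))

theorem GrFam.tot_eq_bot {p : ℕ} [Fact p.Prime] (K : GrFam L p) {N : ℕ}
    (hN : xi p (2 ^ (p - 1) - 1) ≤ N) : K.tot N = ⊥ := by
  rw [eq_bot_iff]
  refine (AddSubgroup.closure_le _).2 ?_
  intro x hx
  obtain ⟨a, hxa⟩ := Set.mem_iUnion.1 hx
  have := K.lcF_anti hN a hxa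
  rw [kk K a] at this
  exact this

/-- **Kreknin–Kostrikin**, element form: any left-normed product of more than
`xi p (2 ^ (p - 1) - 1)` elements of the homogeneous span vanishes. -/
theorem GrFam.lprod_eq_zero {p : ℕ} [Fact p.Prime] (K : GrFam L p) (u : L) (zs : List L)
    (hu : u ∈ K.tot 0) (hzs : ∀ z ∈ zs, z ∈ K.tot 0) (hlen : xi p (2 ^ (p - 1) - 1) ≤ zs.length) :
    lprod u zs = 0 := by
  have h := K.lprod_mem_tot zs 0 u hu hzs
  rw [K.tot_eq_bot (by omega)] at h
  exact (AddSubgroup.mem_bot).1 h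

end Cfsg.Agent.Lib.Helper63.KK
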