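-- helper63: extension of scalars to Z[ω] and eigen-decomposition; a Lie ring with a splitting
-- automorphism of prime order p and additive order prime to p is nilpotent (for S3779).
import Mathlib
import Cfsg.Agent.Lib.Helper63.KKNilp

set_option autoImplicit false
set_option linter.unusedSectionVars false

namespace Cfsg.Agent.Lib.Helper63.KK

open scoped TensorProduct
open Polynomial

section Ring

variable (p : ℕ) [hp : Fact p.Prime]

/-- `1 + X + ⋯ + X^(p-1)` -/
noncomputable def cyc : ℤ[X] := ∑ i ∈ Finset.range p, (X : ℤ[X]) ^ i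

theorem cyc_monic : (cyc p).Monic := monic_geom_sum_X hp.out.ne_zero

/-- `ℤ[ω]` -/
abbrev RR : Type := AdjoinRoot (cyc p)

/-- the primitive root -/
noncomputable def om : RR p := AdjoinRoot.root (cyc p)

theorem sum_om : ∑ i ∈ Finset.range p, (om p) ^ i = 0 := by
  have h : eval₂ (AdjoinRoot.of (cyc p)) (AdjoinRoot.root (cyc p))
      (∑ i ∈ Finset.range p, (X : ℤ[X]) ^ i) = 0 := AdjoinRoot.eval₂_root (cyc p)
  rw [eval₂_finsetSum] at h
  simpa [om, eval₂_pow, eval₂_X] using h

theorem om_pow : (om p) ^ p = 1 := by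
  have h := geom_sum_mul (om p) p
  rw [sum_om, zero_mul] at h
  exact (sub_eq_zero.1 h.symm)

/-- a retraction `ℤ[ω] → ℤ` of the structure map -/
noncomputable def rho : RR p →ₗ[ℤ] ℤ :=
  (Polynomial.lcoeff ℤ 0) ∘ₗ (AdjoinRoot.modByMonicHom (cyc_monic p))

theorem rho_one : rho p 1 = 1 := by
  have h1 : (1 : RR p) = AdjoinRoot.mk (cyc p) 1 := (map_one _).symm
  unfold rho
  rw [LinearMap.comp_apply, h1, AdjoinRoot.modByMonicHom_mk]
  have hdeg : (1 : ℤ[X]).degree < (cyc p).degree := by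
    have hnd : (cyc p).natDegree = p - 1 := by
      unfold cyc
      have := hp.out.two_le
      obtain ⟨q, rfl⟩ : ∃ q, p = q + 1 := ⟨p - 1, by omega⟩
      rw [Finset.sum_range_succ]
      have hlt : (∑ i ∈ Finset.range q, (X : ℤ[X]) ^ i).degree < ((X : ℤ[X]) ^ q).degree := by
        rw [degree_X_pow]
        refine lt_of_le_of_lt (degree_sum_le _ _) ?_
        rw [Finset.sup_lt_iff (by simp)]
        intro i hi
        rw [degree_X_pow]
        exact_mod_cast Finset.mem_range.1 hi
      rw [natDegree_add_eq_right_of_degree_lt hlt, natDegree_X_pow]; rfl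
    rw [degree_one, degree_eq_natDegree (cyc_monic p).ne_zero, hnd]
    have := hp.out.two_le
    exact_mod_cast (by omega : 0 < p - 1)
  rw [(Polynomial.modByMonic_eq_self_iff (cyc_monic p)).2 hdeg]
  simp

/-- `ω ^ a.val` as a function on `ZMod p` -/
noncomputable def omz (a : ZMod p) : RR p := (om p) ^ a.val

theorem omz_zero : omz p 0 = 1 := by simp [omz]

theorem omz_add (a b : ZMod p) : omz p (a + b) = omz p a * omz p b := by
  have : NeZero p := ⟨hp.out.ne_zero⟩
  unfold omz
  rw [← pow_add]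
  rcases val_add_cases a b with h | h
  · rw [h]
  · rw [← h, pow_add, om_pow, mul_one]

theorem sum_omz : ∑ a : ZMod p, omz p a = 0 := by
  have : NeZero p := ⟨hp.out.ne_zero⟩
  rw [← sum_om p]
  unfold omz
  refine Finset.sum_nbij' (fun a => a.val) (fun i => (i : ZMod p)) ?_ ?_ ?_ ?_ ?_
  · intro a _; exact Finset.mem_range.2 (ZMod.val_lt a)
  · intro i _; exact Finset.mem_univ _
  · intro a _; exact ZMod.natCast_zmod_val a
  · intro i hi; exact ZMod.val_natCast_of_lt (Finset.mem_range.1 hi)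
  · intro a _; rfl

theorem sum_omz_mul {c : ZMod p} (hc : c ≠ 0) : ∑ a : ZMod p, omz p (c * a) = 0 := by
  rw [← sum_omz p]
  exact Fintype.sum_bijective (fun a => c * a) (mulLeft_bijective₀ c hc) _ _ (fun _ => rfl)

end Ring


section Ext

variable {p : ℕ} [hp : Fact p.Prime] {L : Type*} [LieRing L]

/-- `ℤ[ω] ⊗ L` -/
abbrev AA (p : ℕ) [Fact p.Prime] (L : Type*) [LieRing L] : Type _ := RR p ⊗[ℤ] L

variable (φ : L →ₗ⁅ℤ⁆ L)

/-- `id ⊗ φ` -/
noncomputable def Phi : AA p L →ₗ⁅ℤ⁆ AA p L :=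
  LieAlgebra.ExtendScalars.map (AlgHom.id ℤ (RR p)) φ

theorem Phi_tmul (r : RR p) (x : L) : Phi φ (r ⊗ₜ[ℤ] x) = r ⊗ₜ[ℤ] φ x := rfl

theorem Phi_smul (r : RR p) (y : AA p L) : Phi φ (r • y) = r • Phi φ y := by
  refine TensorProduct.induction_on y ?_ ?_ ?_
  · simp
  · intro s x
    rw [TensorProduct.smul_tmul', Phi_tmul, Phi_tmul, TensorProduct.smul_tmul']
  · intro y z hy hz
    rw [smul_add, map_add, map_add, smul_add, hy, hz]

theorem Phi_iter_tmul (k : ℕ) (r : RR p) (x : L) :
    (⇑(Phi φ))^[k] (r ⊗ₜ[ℤ] x) = r ⊗ₜ[ℤ] ((⇑φ)^[k] x) := by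
  induction k with
  | zero => rfl
  | succ k ih => rw [Function.iterate_succ_apply', ih, Phi_tmul, Function.iterate_succ_apply']

theorem Phi_iter_zero (k : ℕ) : (⇑(Phi φ))^[k] (0 : AA p L) = 0 := by
  induction k with
  | zero => rfl
  | succ k ih => rw [Function.iterate_succ_apply', ih, map_zero]

theorem Phi_iter_add (k : ℕ) (y z : AA p L) :
    (⇑(Phi φ))^[k] (y + z) = (⇑(Phi φ))^[k] y + (⇑(Phi φ))^[k] z := by
  induction k with
  | zero => rfl
  | succ k ih => simp only [Function.iterate_succ_apply', ih, map_add]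

theorem Phi_iter_p (hφp : ∀ x, (⇑φ)^[p] x = x) (y : AA p L) : (⇑(Phi φ))^[p] y = y := by
  refine TensorProduct.induction_on y ?_ ?_ ?_
  · exact Phi_iter_zero φ p
  · intro r x; rw [Phi_iter_tmul, hφp]
  · intro y z hy hz; rw [Phi_iter_add, hy, hz]

theorem sum_Phi_iter (hsum : ∀ x, ∑ k ∈ Finset.range p, (⇑φ)^[k] x = 0) (y : AA p L) :
    ∑ k ∈ Finset.range p, (⇑(Phi φ))^[k] y = 0 := by
  refine TensorProduct.induction_on y ?_ ?_ ?_
  · simp
  · intro r x
    simp only [Phi_iter_tmul]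
    rw [← TensorProduct.tmul_sum, hsum, TensorProduct.tmul_zero]
  · intro y z hy hz
    simp only [Phi_iter_add]
    rw [Finset.sum_add_distrib, hy, hz, add_zero]

theorem nsmul_eq_zero_AA (m : ℕ) (hm : ∀ x : L, m • x = 0) (y : AA p L) : m • y = 0 := by
  refine TensorProduct.induction_on y ?_ ?_ ?_
  · simp
  · intro r x
    rw [← TensorProduct.tmul_smul, hm, TensorProduct.tmul_zero]
  · intro y z hy hz; rw [smul_add, hy, hz, add_zero]

theorem eq_zero_of_coprime {M : Type*} [AddCommGroup M] {m q : ℕ} (hmq : Nat.Coprime m q) {y : M}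
    (h1 : m • y = 0) (h2 : q • y = 0) : y = 0 := by
  have h := Nat.gcd_eq_gcd_ab m q
  rw [hmq] at h
  have : ((1 : ℕ) : ℤ) • y = 0 := by
    rw [h, add_smul, mul_smul, mul_smul, natCast_zsmul, natCast_zsmul, smul_comm, h1,
      smul_comm (q : ℕ), h2]
    simp
  simpa using this

theorem lie_smul_AA (r : RR p) (y z : AA p L) : ⁅y, r • z⁆ = r • ⁅y, z⁆ := lie_smul r y z

theorem smul_lie_AA (r : RR p) (y z : AA p L) : ⁅r • y, z⁆ = r • ⁅y, z⁆ := by
  rw [← lie_skew, lie_smul_AA, ← lie_skew z y, smul_neg, neg_neg]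

/-- the eigenspaces of `id ⊗ φ` form a graded family with trivial zero component. -/
noncomputable def eigFam (hsum : ∀ x, ∑ k ∈ Finset.range p, (⇑φ)^[k] x = 0)
    (m : ℕ) (hmp : Nat.Coprime m p) (hm : ∀ x : L, m • x = 0) : GrFam (AA p L) p where
  C a :=
    { carrier := {y | Phi φ y = omz p a • y}
      zero_mem' := by simp
      add_mem' := by
        intro y z hy hz
        simp only [Set.mem_ofPred_eq] at hy hz ⊢
        rw [map_add, smul_add, hy, hz]
      neg_mem' := by
        intro y hy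
        simp only [Set.mem_ofPred_eq] at hy ⊢
        rw [map_neg, smul_neg, hy] }
  lie_mem := by
    intro a b y z hy hz
    change Phi φ y = omz p a • y at hy
    change Phi φ z = omz p b • z at hz
    change Phi φ ⁅y, z⁆ = omz p (a + b) • ⁅y, z⁆
    rw [LieHom.map_lie, hy, hz, smul_lie_AA, lie_smul_AA, smul_smul, omz_add]
  zero := by
    rw [eq_bot_iff]
    intro y hy
    change Phi φ y = omz p 0 • y at hy
    rw [omz_zero, one_smul] at hy
    have hk : ∀ k : ℕ, (⇑(Phi φ))^[k] y = y := by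
      intro k
      induction k with
      | zero => rfl
      | succ k ih => rw [Function.iterate_succ_apply', ih, hy]
    have h2 : p • y = 0 := by
      have := sum_Phi_iter φ hsum y
      simp only [hk] at this
      simpa using this
    exact (AddSubgroup.mem_bot).2 (eq_zero_of_coprime hmp (nsmul_eq_zero_AA m hm y) h2)

end Ext


section Proj

variable {p : ℕ} [hp : Fact p.Prime] {L : Type*} [LieRing L] (φ : L →ₗ⁅ℤ⁆ L)

/-- the `j`-th eigenprojection (times `p`) -/
noncomputable def PP (j : ZMod p) (y : AA p L) : AA p L :=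
  ∑ k : ZMod p, omz p (-(j * k)) • (⇑(Phi φ))^[k.val] y

theorem iter_val_succ (hφp : ∀ x, (⇑φ)^[p] x = x) (k : ZMod p) (y : AA p L) :
    (⇑(Phi φ))^[k.val + 1] y = (⇑(Phi φ))^[(k + 1).val] y := by
  have : NeZero p := ⟨hp.out.ne_zero⟩
  have : Fact (1 < p) := ⟨hp.out.one_lt⟩
  have h1 : (1 : ZMod p).val = 1 := ZMod.val_one p
  rcases val_add_cases k 1 with h | h
  · rw [h, h1]
  · have hz : (k + 1).val = 0 := by
      have := ZMod.val_lt k
      omega
    have hk : k.val + 1 = p := by omega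
    rw [hz, hk, Phi_iter_p φ hφp]; rfl

theorem Phi_PP (hφp : ∀ x, (⇑φ)^[p] x = x) (j : ZMod p) (y : AA p L) :
    Phi φ (PP φ j y) = omz p j • PP φ j y := by
  unfold PP
  rw [map_sum, Finset.smul_sum]
  have e1 : ∀ k : ZMod p, Phi φ (omz p (-(j * k)) • (⇑(Phi φ))^[k.val] y)
      = omz p (-(j * k)) • (⇑(Phi φ))^[(k + 1).val] y := by
    intro k
    rw [Phi_smul, ← iter_val_succ φ hφp, Function.iterate_succ_apply']
  simp only [e1]
  rw [← Equiv.sum_comp (Equiv.addRight (1 : ZMod p))
    (fun k => omz p j • omz p (-(j * k)) • (⇑(Phi φ))^[k.val] y)]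
  refine Finset.sum_congr rfl ?_
  intro k _
  simp only [Equiv.coe_addRight]
  rw [smul_smul, ← omz_add]
  congr 2
  ring

theorem sum_PP (y : AA p L) : ∑ j : ZMod p, PP φ j y = p • y := by
  unfold PP
  rw [Finset.sum_comm]
  simp only [← Finset.sum_smul]
  rw [Finset.sum_eq_single (0 : ZMod p)]
  · simp only [mul_zero, neg_zero, omz_zero, Finset.sum_const, Finset.card_univ, ZMod.card,
      ZMod.val_zero, Function.iterate_zero, id_eq]
    rw [nsmul_eq_mul, mul_one, Nat.cast_smul_eq_nsmul]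
  · intro k _ hk
    have : ∑ j : ZMod p, omz p (-(j * k)) = 0 := by
      have := sum_omz_mul p (neg_ne_zero.2 hk)
      rw [← this]
      refine Finset.sum_congr rfl (fun j _ => ?_)
      congr 1; ring
    rw [this, zero_smul]
  · intro h; exact absurd (Finset.mem_univ _) h

end Proj


section Final

variable {p : ℕ} [hp : Fact p.Prime] {L : Type*} [LieRing L]

/-- `x ↦ 1 ⊗ x` -/
noncomputable def iota (x : L) : AA p L := (1 : RR p) ⊗ₜ[ℤ] x

theorem iota_lie (x y : L) : (iota ⁅x, y⁆ : AA p L) = ⁅(iota x : AA p L), iota y⁆ := by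
  unfold iota
  rw [LieAlgebra.ExtendScalars.bracket_tmul, mul_one]

theorem iota_injective : Function.Injective (iota : L → AA p L) := by
  intro x y h
  have key : ∀ w : L, TensorProduct.lid ℤ L (LinearMap.rTensor L (rho p) (iota w : AA p L)) = w := by
    intro w
    unfold iota
    rw [LinearMap.rTensor_tmul, rho_one, TensorProduct.lid_tmul, one_smul]
  rw [← key x, ← key y, h]

theorem iota_lprod (u : L) (zs : List L) :
    (iota (lprod u zs) : AA p L) = lprod (iota u) (zs.map iota) := by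
  induction zs generalizing u with
  | nil => rfl
  | cons z zs ih => rw [lprod_cons, ih, List.map_cons, lprod_cons, iota_lie]

theorem iota_nsmul (k : ℕ) (x : L) : (iota (k • x) : AA p L) = k • iota x := by
  unfold iota; rw [TensorProduct.tmul_smul]

/-- **Higman–Kreknin–Kostrikin for Lie rings**: a Lie ring of additive exponent prime to `p`
with a splitting automorphism of order `p` is nilpotent of class at most `xi p (2^(p-1) - 1)`. -/
theorem lprod_eq_zero_of_splitting (φ : L →ₗ⁅ℤ⁆ L) (hφp : ∀ x, (⇑φ)^[p] x = x)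
    (hsum : ∀ x, ∑ k ∈ Finset.range p, (⇑φ)^[k] x = 0) (m : ℕ) (hmp : Nat.Coprime m p)
    (hm : ∀ x : L, m • x = 0) (u : L) (zs : List L)
    (hlen : xi p (2 ^ (p - 1) - 1) ≤ zs.length) : lprod u zs = 0 := by
  set K := eigFam φ hsum m hmp hm with hK
  have hPP : ∀ (j : ZMod p) (y : AA p L), PP φ j y ∈ K.tot 0 := by
    intro j y
    apply K.mem_tot_of_mem (a := j)
    change Phi φ (PP φ j y) = omz p j • PP φ j y
    exact Phi_PP φ hφp j y
  have hmem : ∀ x : L, (iota x : AA p L) ∈ K.tot 0 := by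
    intro x
    -- x = p • x'
    obtain ⟨x', hx'⟩ : ∃ x' : L, p • x' = x := by
      have h := Nat.gcd_eq_gcd_ab m p
      rw [hmp] at h
      have h2 : ((m : ℤ) * Nat.gcdA m p) • x = 0 := by
        rw [mul_comm, mul_smul, natCast_zsmul, hm, smul_zero]
      have h3 : ((1 : ℕ) : ℤ) • x = ((m : ℤ) * Nat.gcdA m p + (p : ℤ) * Nat.gcdB m p) • x := by
        rw [h]
      rw [add_smul, h2, zero_add] at h3
      refine ⟨(Nat.gcdB m p) • x, ?_⟩
      rw [← natCast_zsmul, ← mul_smul, ← h3]
      simp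
    rw [← hx', iota_nsmul, ← sum_PP φ]
    exact sum_mem (fun j _ => hPP j _)
  have h0 : lprod (iota u : AA p L) (zs.map iota) = 0 := by
    apply K.lprod_eq_zero
    · exact hmem u
    · intro z hz
      obtain ⟨z', _, rfl⟩ := List.mem_map.1 hz
      exact hmem z'
    · rw [List.length_map]; exact hlen
  rw [← iota_lprod] at h0
  apply iota_injective (p := p)
  rw [h0]
  unfold iota; rw [TensorProduct.tmul_zero]

end Final

end Cfsg.Agent.Lib.Helper63.KK
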