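/-
helper63: Higman–Kreknin–Kostrikin for finite groups with a fixed-point-free automorphism
of prime order: glue between the Lie ring theorem (`KKExt.lprod_eq_zero_of_splitting`),
the associated Lie ring of the lower central series (helper29's `LcsLie`) and Thompson's
theorem (helper1's `thompson_fpf_nilpotent`); plus the classical cases `p = 2, 3`.
-/
import Mathlib
import Cfsg.Agent.Lib.Helper63.KKExt
import Cfsg.Agent.Lib.Helper29.LcsLieExtra
import Cfsg.Agent.Lib.Helper1.ThompsonFpf
import Cfsg.Agent.Lib.Helper66.Neumann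

set_option autoImplicit false

namespace Cfsg.Agent.Lib.Helper63.KK

open Cfsg.Agent.Lib.Helper29
open scoped commutatorElement

section GroupGlue

variable {G : Type*} [Group G] [Finite G]

/-- A finite group with a fixed-point-free automorphism of prime order `p` has order prime to
`p`. -/
theorem fpf_card_coprime {p : ℕ} (hp : p.Prime) (α : MulAut G) (hα : orderOf α = p)
    (hfpf : ∀ g : G, α g = g → g = 1) : Nat.Coprime (Nat.card G) p := by
  have : Fact p.Prime := ⟨hp⟩
  have hP : IsPGroup p (Subgroup.zpowers α) := by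
    apply IsPGroup.of_card (n := 1)
    rw [Nat.card_zpowers, hα, pow_one]
  have h := hP.card_modEq_card_fixedPoints G
  have hfix : MulAction.fixedPoints (Subgroup.zpowers α) G = {1} := by
    ext g
    rw [MulAction.mem_fixedPoints, Set.mem_singleton_iff]
    constructor
    · intro h
      exact hfpf g (h ⟨α, Subgroup.mem_zpowers α⟩)
    · rintro rfl β
      exact map_one (β : MulAut G)
  rw [hfix] at h
  have h1 : Nat.card (({1} : Set G)) = 1 := by simp
  rw [h1] at h
  rw [Nat.coprime_comm, Nat.Prime.coprime_iff_not_dvd hp]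
  intro hdvd
  have h0 : Nat.card G % p = 0 := Nat.mod_eq_zero_of_dvd hdvd
  unfold Nat.ModEq at h
  rw [h0, Nat.mod_eq_of_lt hp.one_lt] at h
  exact absurd h (by norm_num)

/-- the Lie ring endomorphism of the associated Lie ring induced by an automorphism. -/
noncomputable def lieMap (α : MulAut G) : LcsLie.LcsLie G →ₗ⁅ℤ⁆ LcsLie.LcsLie G :=
  { (LcsLie.map α).toIntLinearMap with
    map_lie' := fun {a b} => LcsLie.map_lie α a b }

omit [Finite G] in
theorem lieMap_apply (α : MulAut G) (a : LcsLie.LcsLie G) : lieMap α a = LcsLie.map α a := rfl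

theorem lieMap_iterate (α : MulAut G) (k : ℕ) (a : LcsLie.LcsLie G) :
    (⇑(lieMap α))^[k] a = (⇑(LcsLie.map α))^[k] a := by
  induction k generalizing a with
  | zero => rfl
  | succ k ih => rw [Function.iterate_succ_apply, Function.iterate_succ_apply, lieMap_apply, ih]

theorem lieMap_sum_eq_zero {p : ℕ} (α : MulAut G) (hαp : α ^ p = 1)
    (hfpf : ∀ g : G, α g = g → g = 1) (a : LcsLie.LcsLie G) :
    ∑ k ∈ Finset.range p, (⇑(lieMap α))^[k] a = 0 := by
  apply LcsLie.map_fix_eq_zero α hfpf
  simp only [lieMap_iterate]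
  rw [map_sum]
  have h1 : ∀ k ∈ Finset.range p, (LcsLie.map α) ((⇑(LcsLie.map α))^[k] a)
      = (⇑(LcsLie.map α))^[k + 1] a := by
    intro k _
    rw [Function.iterate_succ_apply']
  rw [Finset.sum_congr rfl h1]
  have h2 := Finset.sum_range_succ' (fun k => (⇑(LcsLie.map α))^[k] a) p
  have h3 := Finset.sum_range_succ (fun k => (⇑(LcsLie.map α))^[k] a) p
  rw [h3] at h2
  have h4 : (⇑(LcsLie.map α))^[p] a = a := LcsLie.map_iterate_of_pow_eq_one α hαp a
  simp only [Function.iterate_zero, id_eq] at h2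
  rw [h4] at h2
  exact (add_right_cancel h2).symm

/-- **Higman–Kreknin–Kostrikin** for finite groups. -/
theorem gam_xi_eq_bot {p : ℕ} (hp : p.Prime) (α : MulAut G) (hα : orderOf α = p)
    (hfpf : ∀ g : G, α g = g → g = 1) :
    (⊤ : Subgroup G).lowerCentralSeries (xi p (2 ^ (p - 1) - 1)) = ⊥ := by
  have : Fact p.Prime := ⟨hp⟩
  have hnil : Group.IsNilpotent G :=
    Cfsg.Agent.Lib.Helper1.thompson_fpf_nilpotent α (fun g hg => hfpf g hg) p hp hα
  have hαp : α ^ p = 1 := by rw [← hα]; exact pow_orderOf_eq_one α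
  let T : ℕ → AddSubgroup (LcsLie.LcsLie G) := fun n =>
    AddSubgroup.closure {a | ∃ (u : LcsLie.LcsLie G) (zs : List (LcsLie.LcsLie G)),
      zs.length = n ∧ a = lprod u zs}
  refine LcsLie.gam_eq_bot_of_step T ?_ ?_ _ ?_
  · intro g
    apply AddSubgroup.subset_closure
    exact ⟨_, [], rfl, rfl⟩
  · intro n a ha g
    refine AddSubgroup.closure_induction
      (p := fun a _ => ⁅a, LcsLie.iota 0 g (Subgroup.mem_top g)⁆ ∈ T (n + 1)) ?_ ?_ ?_ ?_ ha
    · rintro _ ⟨u, zs, hlen, rfl⟩
      apply AddSubgroup.subset_closure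
      refine ⟨u, zs ++ [LcsLie.iota 0 g (Subgroup.mem_top g)], by simp [hlen], ?_⟩
      simp [lprod, List.foldl_append]
    · rw [zero_lie]; exact (T (n + 1)).zero_mem
    · intro x y _ _ hx hy
      rw [add_lie]; exact (T (n + 1)).add_mem hx hy
    · intro x _ hx
      rw [neg_lie]; exact (T (n + 1)).neg_mem hx
  · rw [AddSubgroup.closure_eq_bot_iff]
    rintro _ ⟨u, zs, hlen, rfl⟩
    rw [Set.mem_singleton_iff]
    exact lprod_eq_zero_of_splitting (lieMap α)
      (fun x => by rw [lieMap_iterate]; exact LcsLie.map_iterate_of_pow_eq_one α hαp x)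
      (lieMap_sum_eq_zero α hαp hfpf) (Nat.card G) (fpf_card_coprime hp α hα hfpf)
      LcsLie.card_nsmul_eq_zero u zs (le_of_eq hlen.symm)

/-- B. H. Neumann: a finite group with a fixed-point-free automorphism of order `3` is
nilpotent of class at most `2`. -/
theorem fpf_three_class_two (α : MulAut G) (hα : orderOf α = 3)
    (hfpf : ∀ g : G, α g = g → g = 1) : (⊤ : Subgroup G).lowerCentralSeries 2 = ⊥ := by
  have hFP : MonoidHom.FixedPointFree (α : G →* G) := fun g hg => hfpf g hg
  have h3 : α ^ 3 = 1 := by rw [← hα]; exact pow_orderOf_eq_one α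
  have hα3 : ∀ x, α (α (α x)) = x := by
    intro x
    have := congrArg (fun β : MulAut G => β x) h3
    simpa [pow_succ, MulAut.mul_apply] using this
  have hsplit : ∀ x : G, x * α x * α (α x) = 1 := by
    intro x
    have hit : (⇑(α : G →* G))^[3] = _root_.id := by
      funext x
      simp [Function.iterate_succ, hα3]
    have := hFP.prod_pow_eq_one hit x
    simpa [List.range_succ, mul_assoc] using this
  have hcomm : ∀ x : G, Commute x (α x) := by
    intro x
    have h1 := hsplit x
    have h2 := hsplit x⁻¹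
    rw [map_inv, map_inv] at h2
    have hc : α (α x) = (x * α x)⁻¹ := eq_inv_of_mul_eq_one_right h1
    have h4 : (α x * x)⁻¹ * (x * α x) = 1 := by
      rw [← h2, hc]; group
    exact (inv_mul_eq_one.mp h4).symm
  have hconj : ∀ x w : G, Commute x (w * α x * w⁻¹) := by
    intro x w
    obtain ⟨h, hh⟩ := hFP.commutatorMap_surjective w
    have hw : w = h * (α h)⁻¹ := by
      rw [← hh]; simp [MonoidHom.commutatorMap_apply, div_eq_mul_inv]
    have hc := (hcomm (h⁻¹ * x * h)).eq
    rw [map_mul, map_mul, map_inv] at hc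
    subst hw
    show x * _ = _ * x
    calc x * (h * (α h)⁻¹ * α x * (h * (α h)⁻¹)⁻¹)
        = h * ((h⁻¹ * x * h) * ((α h)⁻¹ * α x * α h)) * h⁻¹ := by group
      _ = h * (((α h)⁻¹ * α x * α h) * (h⁻¹ * x * h)) * h⁻¹ := by rw [hc]
      _ = (h * (α h)⁻¹ * α x * (h * (α h)⁻¹)⁻¹) * x := by group
  have hE : Cfsg.Agent.Lib.Helper66.Engel2 G := by
    intro x g
    have hb : Commute x (g * α x * g⁻¹) := hconj x g
    have hc : Commute x (g * α (α x) * g⁻¹) := by
      have h := hconj (α (α x)) g⁻¹
      rw [hα3 x, inv_inv] at h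
      have e := h.eq
      show x * _ = _ * x
      calc x * (g * α (α x) * g⁻¹) = g * ((g⁻¹ * x * g) * α (α x)) * g⁻¹ := by group
        _ = g * (α (α x) * (g⁻¹ * x * g)) * g⁻¹ := by rw [e]
        _ = (g * α (α x) * g⁻¹) * x := by group
    have hx : g * x * g⁻¹ = ((g * α x * g⁻¹) * (g * α (α x) * g⁻¹))⁻¹ := by
      have hx' : x = (α x * α (α x))⁻¹ :=
        eq_inv_of_mul_eq_one_left (by rw [← mul_assoc]; exact hsplit x)
      conv_lhs => rw [hx']
      group
    rw [hx]
    exact (hb.mul_right hc).inv_right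
  have hcop : Nat.Coprime (Nat.card G) 3 := fpf_card_coprime Nat.prime_three α hα hfpf
  have hT : ∀ x y z : G, ⁅⁅x, y⁆, z⁆ = 1 := by
    intro x y z
    have h := Cfsg.Agent.Lib.Helper66.Engel2.T_pow_three hE x y z
    rw [Cfsg.Agent.Lib.Helper66.Engel2.T_def] at h
    have hd1 : orderOf ⁅⁅x, y⁆, z⁆ ∣ 3 := orderOf_dvd_of_pow_eq_one h
    have hd2 : orderOf ⁅⁅x, y⁆, z⁆ ∣ Nat.card G := orderOf_dvd_natCard _
    have : orderOf ⁅⁅x, y⁆, z⁆ ∣ 1 := by
      have := Nat.dvd_gcd hd2 hd1
      rwa [hcop] at this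
    exact orderOf_eq_one_iff.mp (Nat.dvd_one.mp this)
  change LcsLie.gam G 2 = ⊥
  rw [LcsLie.gam_succ, eq_bot_iff, Subgroup.commutator_le]
  intro u hu z _
  rw [Subgroup.mem_bot]
  have hcen : LcsLie.gam G 1 ≤ Subgroup.center G := by
    rw [LcsLie.gam_succ, Subgroup.commutator_le]
    intro x _ y _
    rw [Subgroup.mem_center_iff]
    intro w
    have := hT x y w
    rw [commutatorElement_eq_one_iff_commute] at this
    exact this.eq.symm
  have hu' := hcen hu
  rw [Subgroup.mem_center_iff] at hu'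
  rw [commutatorElement_eq_one_iff_commute]
  exact (hu' z).symm

end GroupGlue

end Cfsg.Agent.Lib.Helper63.KK
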