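import Mathlib
import Cfsg.Prelude.Def_Local
import Cfsg.Agent.Lib.Helper74.UpsEqDef
import Cfsg.Agent.Lib.Helper1.PCore
import Cfsg.Agent.Lib.Helper1.Fitting

/-!
A general API for `Cfsg.PLengthLE` (helper63): a finite group has `p`-length at most `k` iff it has
a normal series `1 = V 0 ≤ V 1 ≤ ⋯ ≤ V (2k+1) = G` whose factors are alternately `p'`-groups and
`p`-groups (`IsPSeries`).  Closure of `PLengthLE` under isomorphisms, quotients, subgroups.
-/

set_option autoImplicit false
set_option linter.unusedSectionVars false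

namespace Cfsg.Agent.Lib.Helper63

open Cfsg

section relIndex

variable {G : Type*} [Group G]

/-- the relative index can only go down when passing to images -/
theorem relIndex_map_map_dvd {G' : Type*} [Group G'] (f : G →* G') {H K : Subgroup G}
    [hH : H.Normal] (hHK : H ≤ K) : (H.map f).relIndex (K.map f) ∣ H.relIndex K := by
  rw [Subgroup.relIndex_map_map]
  have h1 : K ⊔ f.ker = K ⊔ (H ⊔ f.ker) := by
    rw [← sup_assoc, sup_eq_left.2 hHK]
  have hn : (H ⊔ f.ker).Normal := inferInstance
  rw [h1, Subgroup.relIndex_sup_right]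
  exact Subgroup.relIndex_dvd_of_le_left K le_sup_left

/-- the relative index can only go down when intersecting with a subgroup -/
theorem relIndex_inf_dvd {A B : Subgroup G} [hA : A.Normal] (hAB : A ≤ B) (H : Subgroup G) :
    A.relIndex (B ⊓ H) ∣ A.relIndex B := by
  have h1 : A.relIndex ((B ⊓ H) ⊔ A) = A.relIndex (B ⊓ H) := Subgroup.relIndex_sup_right _ _
  have h2 : (B ⊓ H) ⊔ A ≤ B := sup_le inf_le_left hAB
  have h3 := Subgroup.relIndex_mul_relIndex A ((B ⊓ H) ⊔ A) B le_sup_right h2
  rw [h1] at h3
  exact Dvd.intro _ h3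

theorem relIndex_subgroupOf_dvd {A B : Subgroup G} [hA : A.Normal] (hAB : A ≤ B)
    (H : Subgroup G) : (A.subgroupOf H).relIndex (B.subgroupOf H) ∣ A.relIndex B := by
  have h1 : (A.subgroupOf H).relIndex (B.subgroupOf H) = A.relIndex (B ⊓ H) := by
    unfold Subgroup.subgroupOf
    rw [Subgroup.relIndex_comap]
    congr 1
    exact Subgroup.subgroupOf_map_subtype B H
  rw [h1]
  exact relIndex_inf_dvd hAB H

end relIndex

/-- a normal series with alternately `p'`- and `p`-factors (beginning with a `p'`-factor) -/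
structure IsPSeries (p : ℕ) {G : Type*} [Group G] (V : ℕ → Subgroup G) : Prop where
  zero : V 0 = ⊥
  normal : ∀ i, (V i).Normal
  mono : Monotone V
  even : ∀ i, Even i → ((V i).relIndex (V (i + 1))).Coprime p
  odd : ∀ i, ¬ Even i → ∃ m : ℕ, (V i).relIndex (V (i + 1)) = p ^ m

section unfold

variable {G : Type*} [Group G] (p : ℕ)

theorem ups_zero : (upperPSeries p G 0).1 = ⊥ := by
  rw [upperPSeries]

theorem ups_succ_even {n : ℕ} (h : Even n) :
    (upperPSeries p G (n + 1)).1 =
      (pPrimeCore p (G ⧸ (upperPSeries p G n).1)).comap (QuotientGroup.mk' _) := by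
  rw [upperPSeries]
  simp only [h, if_true]

theorem ups_succ_odd {n : ℕ} (h : ¬ Even n) :
    (upperPSeries p G (n + 1)).1 =
      (pCore p (G ⧸ (upperPSeries p G n).1)).comap (QuotientGroup.mk' _) := by
  rw [upperPSeries]
  simp only [h, if_false]

theorem ups_le_succ (n : ℕ) : (upperPSeries p G n).1 ≤ (upperPSeries p G (n + 1)).1 := by
  by_cases h : Even n
  · rw [ups_succ_even p h]
    intro x hx
    rw [Subgroup.mem_comap]
    have : (QuotientGroup.mk' (upperPSeries p G n).1) x = 1 := (QuotientGroup.eq_one_iff x).2 hx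
    rw [this]
    exact Subgroup.one_mem _
  · rw [ups_succ_odd p h]
    intro x hx
    rw [Subgroup.mem_comap]
    have : (QuotientGroup.mk' (upperPSeries p G n).1) x = 1 := (QuotientGroup.eq_one_iff x).2 hx
    rw [this]
    exact Subgroup.one_mem _

theorem ups_mono : Monotone (fun n => (upperPSeries p G n).1) :=
  monotone_nat_of_le_succ (ups_le_succ p)

end unfold

section charA

variable {G : Type*} [Group G] [Finite G] {p : ℕ} [hp : Fact p.Prime]

theorem relIndex_comap_mk' (U : Subgroup G) [U.Normal] (C : Subgroup (G ⧸ U)) :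
    U.relIndex (C.comap (QuotientGroup.mk' U)) = Nat.card C := by
  have h1 := Subgroup.relIndex_ker (C.comap (QuotientGroup.mk' U)) (QuotientGroup.mk' U)
  rw [QuotientGroup.ker_mk', Subgroup.map_comap_eq_self_of_surjective
    (QuotientGroup.mk'_surjective U)] at h1
  exact h1

/-- the upper `p`-series is a `p`-series -/
theorem isPSeries_ups : IsPSeries p (fun n => (upperPSeries p G n).1) where
  zero := ups_zero p
  normal := fun i => inferInstance
  mono := ups_mono p
  even := fun i hi => by
    show ((upperPSeries p G i).1.relIndex (upperPSeries p G (i + 1)).1).Coprime p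
    rw [ups_succ_even p hi, relIndex_comap_mk']
    exact Cfsg.Agent.Lib.Helper1.pPrimeCore_card_coprime p
  odd := fun i hi => by
    show ∃ m : ℕ, (upperPSeries p G i).1.relIndex (upperPSeries p G (i + 1)).1 = p ^ m
    rw [ups_succ_odd p hi, relIndex_comap_mk']
    exact (IsPGroup.iff_card.1 (Cfsg.Agent.Lib.Helper1.pCore_isPGroup p))

/-- every `p`-series lies termwise below the upper `p`-series -/
theorem IsPSeries.le_ups {V : ℕ → Subgroup G} (hV : IsPSeries p V) (i : ℕ) :
    V i ≤ (upperPSeries p G i).1 := by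
  induction i with
  | zero => rw [hV.zero]; exact bot_le
  | succ i ih =>
    have hVn : (V (i + 1)).Normal := hV.normal (i + 1)
    have hVn' : (V i).Normal := hV.normal i
    have hsurj := QuotientGroup.mk'_surjective (upperPSeries p G i).1
    have hmn : ((V (i + 1)).map (QuotientGroup.mk' (upperPSeries p G i).1)).Normal :=
      hVn.map _ hsurj
    -- the order of the image divides the relative index
    have hcard : Nat.card ((V (i + 1)).map (QuotientGroup.mk' (upperPSeries p G i).1)) ∣
        (V i).relIndex (V (i + 1)) := by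
      rw [← Subgroup.relIndex_ker, QuotientGroup.ker_mk', ← Subgroup.inf_relIndex_right]
      exact Subgroup.relIndex_dvd_of_le_left _ (le_inf ih (hV.mono (Nat.le_succ i)))
    by_cases hi : Even i
    · rw [ups_succ_even p hi, ← Subgroup.map_le_iff_le_comap]
      apply Cfsg.Agent.Lib.Helper1.le_pPrimeCore hmn
      exact Nat.Coprime.coprime_dvd_left hcard (hV.even i hi)
    · rw [ups_succ_odd p hi, ← Subgroup.map_le_iff_le_comap]
      apply Cfsg.Agent.Lib.Helper1.le_pCore hmn
      obtain ⟨m, hm⟩ := hV.odd i hi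
      rw [hm] at hcard
      obtain ⟨j, _, hj⟩ := (Nat.dvd_prime_pow hp.out).1 hcard
      exact IsPGroup.of_card hj

/-- `PLengthLE` in terms of `p`-series -/
theorem pLengthLE_iff (k : ℕ) :
    PLengthLE p k G ↔ ∃ V : ℕ → Subgroup G, IsPSeries p V ∧ V (2 * k + 1) = ⊤ := by
  constructor
  · intro h
    exact ⟨_, isPSeries_ups, h⟩
  · rintro ⟨V, hV, htop⟩
    unfold PLengthLE
    rw [eq_top_iff, ← htop]
    exact hV.le_ups _

theorem PLengthLE_mono {k k' : ℕ} (h : PLengthLE p k G) (hk : k ≤ k') : PLengthLE p k' G := by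
  unfold PLengthLE at h ⊢
  rw [eq_top_iff, ← h]
  exact ups_mono p (by omega)

end charA

section closure

variable {G : Type*} [Group G] {p : ℕ}

theorem IsPSeries.map_equiv {G' : Type*} [Group G'] {V : ℕ → Subgroup G} (hV : IsPSeries p V)
    (e : G ≃* G') : IsPSeries p (fun i => (V i).map e.toMonoidHom) where
  zero := by
    show (V 0).map e.toMonoidHom = ⊥
    rw [hV.zero, Subgroup.map_bot]
  normal := fun i => (hV.normal i).map _ e.surjective
  mono := fun i j hij => Subgroup.map_mono (hV.mono hij)
  even := fun i hi => by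
    show (((V i).map e.toMonoidHom).relIndex ((V (i + 1)).map e.toMonoidHom)).Coprime p
    rw [Subgroup.relIndex_map_map_of_injective _ _ e.injective]
    exact hV.even i hi
  odd := fun i hi => by
    show ∃ m : ℕ, ((V i).map e.toMonoidHom).relIndex ((V (i + 1)).map e.toMonoidHom) = p ^ m
    rw [Subgroup.relIndex_map_map_of_injective _ _ e.injective]
    exact hV.odd i hi

theorem IsPSeries.map_surjective [hp : Fact p.Prime] {G' : Type*} [Group G'] {V : ℕ → Subgroup G}
    (hV : IsPSeries p V) (f : G →* G') (hf : Function.Surjective f) :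
    IsPSeries p (fun i => (V i).map f) where
  zero := by
    show (V 0).map f = ⊥
    rw [hV.zero, Subgroup.map_bot]
  normal := fun i => (hV.normal i).map _ hf
  mono := fun i j hij => Subgroup.map_mono (hV.mono hij)
  even := fun i hi => by
    show (((V i).map f).relIndex ((V (i + 1)).map f)).Coprime p
    have hn := hV.normal i
    exact Nat.Coprime.coprime_dvd_left (relIndex_map_map_dvd f (hV.mono (Nat.le_succ i)))
      (hV.even i hi)
  odd := fun i hi => by
    show ∃ m : ℕ, ((V i).map f).relIndex ((V (i + 1)).map f) = p ^ m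
    have hn := hV.normal i
    obtain ⟨m, hm⟩ := hV.odd i hi
    have h1 := relIndex_map_map_dvd f (hV.mono (Nat.le_succ i))
    rw [hm] at h1
    obtain ⟨j, _, hj⟩ := (Nat.dvd_prime_pow hp.out).1 h1
    exact ⟨j, hj⟩

theorem IsPSeries.subgroupOf [hp : Fact p.Prime] {V : ℕ → Subgroup G} (hV : IsPSeries p V)
    (H : Subgroup G) : IsPSeries p (fun i => (V i).subgroupOf H) where
  zero := by
    show (V 0).subgroupOf H = ⊥
    rw [hV.zero, Subgroup.bot_subgroupOf]
  normal := fun i => (hV.normal i).subgroupOf H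
  mono := fun i j hij => Subgroup.subgroupOf_mono H (hV.mono hij)
  even := fun i hi => by
    show (((V i).subgroupOf H).relIndex ((V (i + 1)).subgroupOf H)).Coprime p
    have hn := hV.normal i
    exact Nat.Coprime.coprime_dvd_left (relIndex_subgroupOf_dvd (hV.mono (Nat.le_succ i)) H)
      (hV.even i hi)
  odd := fun i hi => by
    show ∃ m : ℕ, ((V i).subgroupOf H).relIndex ((V (i + 1)).subgroupOf H) = p ^ m
    have hn := hV.normal i
    obtain ⟨m, hm⟩ := hV.odd i hi
    have h1 := relIndex_subgroupOf_dvd (hV.mono (Nat.le_succ i)) H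
    rw [hm] at h1
    obtain ⟨j, _, hj⟩ := (Nat.dvd_prime_pow hp.out).1 h1
    exact ⟨j, hj⟩

variable [Finite G] [hp : Fact p.Prime]

/-- `p`-length is invariant under isomorphism -/
theorem PLengthLE.of_equiv {G' : Type*} [Group G'] [Finite G'] {k : ℕ} (h : PLengthLE p k G)
    (e : G ≃* G') : PLengthLE p k G' := by
  obtain ⟨V, hV, htop⟩ := (pLengthLE_iff k).1 h
  refine (pLengthLE_iff k).2 ⟨_, hV.map_equiv e, ?_⟩
  show (V (2 * k + 1)).map e.toMonoidHom = ⊤
  rw [htop]
  exact Subgroup.map_top_of_surjective _ e.surjective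

/-- `p`-length does not increase in quotients -/
theorem PLengthLE.quotient {k : ℕ} (h : PLengthLE p k G) (N : Subgroup G) [N.Normal] :
    PLengthLE p k (G ⧸ N) := by
  obtain ⟨V, hV, htop⟩ := (pLengthLE_iff k).1 h
  refine (pLengthLE_iff k).2
    ⟨_, hV.map_surjective (QuotientGroup.mk' N) (QuotientGroup.mk'_surjective N), ?_⟩
  show (V (2 * k + 1)).map (QuotientGroup.mk' N) = ⊤
  rw [htop]
  exact Subgroup.map_top_of_surjective _ (QuotientGroup.mk'_surjective N)

/-- `p`-length does not increase in subgroups -/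
theorem PLengthLE.subgroup {k : ℕ} (h : PLengthLE p k G) (H : Subgroup G) :
    PLengthLE p k ↥H := by
  obtain ⟨V, hV, htop⟩ := (pLengthLE_iff k).1 h
  refine (pLengthLE_iff k).2 ⟨_, hV.subgroupOf H, ?_⟩
  show (V (2 * k + 1)).subgroupOf H = ⊤
  rw [htop, Subgroup.top_subgroupOf]

end closure

end Cfsg.Agent.Lib.Helper63
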