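import Mathlib
import Cfsg.Prelude.Def_Local
import Cfsg.Agent.Lib.Helper63.PLen

/-!
# Groups whose maximal subgroups are `p`-nilpotent or of prime index: preliminaries

`Chain p G`: a normal series `A ≤ B ≤ C ≤ D` with factors `p'`, `p`, `p'`, `p` and `G/D` of exponent
dividing `p - 1`.  Pull-back lemmas, quotient stability of the hypothesis.
-/

set_option autoImplicit false

namespace Cfsg.Agent.Lib.Helper63.MaxPNil

open Cfsg

/-- chain predicate -/
def Chain (p : ℕ) (G : Type*) [Group G] : Prop :=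
  ∃ A B C D : Subgroup G, A.Normal ∧ B.Normal ∧ C.Normal ∧ D.Normal ∧ A ≤ B ∧ B ≤ C ∧ C ≤ D ∧
    (Nat.card A).Coprime p ∧ (∃ k : ℕ, A.relIndex B = p ^ k) ∧ (B.relIndex C).Coprime p ∧
    (∃ k : ℕ, C.relIndex D = p ^ k) ∧ ∀ g : G, g ^ (p - 1) ∈ D

/-- hypothesis on maximal subgroups -/
def MaxHyp (p : ℕ) (G : Type*) [Group G] : Prop :=
  ∀ M : Subgroup G, IsCoatom M →
    (∃ K : Subgroup ↥M, K.Normal ∧ ¬ p ∣ Nat.card K ∧ ∃ k : ℕ, K.index = p ^ k) ∨ (M.index).Prime

variable {G : Type*} [Group G]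

theorem relIndex_comap_comap {G' : Type*} [Group G'] (f : G →* G') (hf : Function.Surjective f)
    (H K : Subgroup G') : (H.comap f).relIndex (K.comap f) = H.relIndex K := by
  rw [Subgroup.relIndex_comap, Subgroup.map_comap_eq_self_of_surjective hf]

theorem relIndex_inf_inf_dvd {A B : Subgroup G} [A.Normal] (hAB : A ≤ B) (H : Subgroup G) :
    (A ⊓ H).relIndex (B ⊓ H) ∣ A.relIndex B := by
  have h1 : (A ⊓ H).relIndex (B ⊓ H) = A.relIndex (B ⊓ H) := by
    have h2 : A ⊓ (B ⊓ H) = (A ⊓ H) ⊓ (B ⊓ H) := by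
      apply le_antisymm
      · exact le_inf (le_inf inf_le_left (inf_le_right.trans inf_le_right)) inf_le_right
      · exact le_inf (inf_le_left.trans inf_le_left) inf_le_right
    rw [← Subgroup.inf_relIndex_right A (B ⊓ H), ← Subgroup.inf_relIndex_right (A ⊓ H) (B ⊓ H), h2]
  rw [h1]
  exact relIndex_inf_dvd hAB H

theorem pow_of_dvd_pow {p : ℕ} (hp : p.Prime) {a k : ℕ} (h : a ∣ p ^ k) : ∃ j : ℕ, a = p ^ j := by
  obtain ⟨j, _, hj⟩ := (Nat.dvd_prime_pow hp).1 h
  exact ⟨j, hj⟩

/-- pull back a chain along the quotient by a normal `p'`-subgroup -/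
theorem Chain.of_quotient_coprime [Finite G] {p : ℕ} (N : Subgroup G) [N.Normal]
    (hN : (Nat.card N).Coprime p) (h : Chain p (G ⧸ N)) : Chain p G := by
  obtain ⟨A, B, C, D, hA, hB, hC, hD, hAB, hBC, hCD, hAc, hBp, hCc, hDp, hpow⟩ := h
  have hsurj := QuotientGroup.mk'_surjective N
  refine ⟨A.comap (QuotientGroup.mk' N), B.comap (QuotientGroup.mk' N),
    C.comap (QuotientGroup.mk' N), D.comap (QuotientGroup.mk' N), hA.comap _, hB.comap _,
    hC.comap _, hD.comap _, Subgroup.comap_mono hAB, Subgroup.comap_mono hBC,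
    Subgroup.comap_mono hCD, ?_, ?_, ?_, ?_, ?_⟩
  · have h1 : N ≤ A.comap (QuotientGroup.mk' N) := by
      have := Subgroup.ker_le_comap (QuotientGroup.mk' N) A
      rwa [QuotientGroup.ker_mk'] at this
    have h2 := relIndex_comap_mk' N A
    have h3 := Subgroup.relIndex_mul_relIndex ⊥ N (A.comap (QuotientGroup.mk' N)) bot_le h1
    rw [Subgroup.relIndex_bot_left, Subgroup.relIndex_bot_left, h2] at h3
    rw [← h3]
    exact Nat.Coprime.mul_left hN hAc
  · rw [relIndex_comap_comap _ hsurj]; exact hBp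
  · rw [relIndex_comap_comap _ hsurj]; exact hCc
  · rw [relIndex_comap_comap _ hsurj]; exact hDp
  · intro g
    rw [Subgroup.mem_comap, map_pow]
    exact hpow _

/-- the hypothesis passes to quotients -/
theorem MaxHyp.quotient [Finite G] {p : ℕ} (hp : p.Prime) (h : MaxHyp p G) (N : Subgroup G)
    [N.Normal] : MaxHyp p (G ⧸ N) := by
  intro M hM
  have hsurj := QuotientGroup.mk'_surjective N
  have hco : IsCoatom (M.comap (QuotientGroup.mk' N)) := Subgroup.isCoatom_comap_of_surjective hsurj hM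
  rcases h _ hco with ⟨K, hKn, hKc, k, hk⟩ | hpr
  · left
    have hfs : Function.Surjective ((QuotientGroup.mk' N).subgroupComap M) :=
      MonoidHom.subgroupComap_surjective_of_surjective _ _ hsurj
    refine ⟨K.map ((QuotientGroup.mk' N).subgroupComap M), hKn.map _ hfs, ?_, ?_⟩
    · intro hdvd
      exact hKc (dvd_trans hdvd (Subgroup.card_map_dvd _ _))
    · have h1 := Subgroup.index_map_dvd K hfs
      rw [hk] at h1
      exact pow_of_dvd_pow hp h1
  · right
    rwa [Subgroup.index_comap_of_surjective M hsurj] at hpr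

end Cfsg.Agent.Lib.Helper63.MaxPNil
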