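import Mathlib
import Cfsg.Agent.Lib.Helper76.PCore
import Cfsg.Agent.Lib.Helper63.MaxPNilA

/-!
# Splitting off a central normal Hall `p`-subgroup
-/

set_option autoImplicit false

namespace Cfsg.Agent.Lib.Helper63.MaxPNil

open Cfsg

variable {G : Type*} [Group G]

/-- `N ⊴ G` a `p`-group, central in `X ⊴ G`, of index prime to `p` in `X`: the `p'`-elements of `X`
form a normal subgroup of `G` complementing `N` in `X`. -/
theorem exists_normal_compl_of_central [Finite G] {p : ℕ} [hp : Fact p.Prime] (N X : Subgroup G)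
    [hNn : N.Normal] [hXn : X.Normal]
    (hNX : N ≤ X) (hNp : IsPGroup p N) (hcen : ∀ n ∈ N, ∀ x ∈ X, n * x = x * n)
    (hcop : (N.relIndex X).Coprime p) :
    ∃ A : Subgroup G, A.Normal ∧ A ≤ X ∧ (Nat.card A).Coprime p ∧ A.relIndex X = Nat.card N := by
  have hcardN' : Nat.card (N.subgroupOf X) = Nat.card N :=
    Nat.card_congr (Subgroup.subgroupOfEquivOfLe hNX).toEquiv
  obtain ⟨k, hk⟩ := hNp.exists_card_eq
  have hcop' : (Nat.card (N.subgroupOf X)).Coprime (N.subgroupOf X).index := by
    rw [hcardN', hk]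
    exact Nat.Coprime.pow_left k (Nat.Coprime.symm hcop)
  obtain ⟨H', hH'⟩ := Subgroup.exists_right_complement'_of_coprime hcop'
  have hm : (N.subgroupOf X).index = Nat.card H' := hH'.symm.index_eq_card
  have hmc : (Nat.card H').Coprime p := by
    rw [← hm]; exact hcop
  -- characterisation of H'
  have key : ∀ x : ↥X, x ∈ H' ↔ x ^ Nat.card H' = 1 := by
    intro x
    constructor
    · intro hx
      have := pow_card_eq_one' (G := ↥H') (x := ⟨x, hx⟩)
      exact congrArg Subtype.val this
    · intro hx
      obtain ⟨⟨⟨n, hn⟩, ⟨h, hh⟩⟩, hnh, -⟩ := (Subgroup.isComplement_iff_existsUnique.1 hH') x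
      simp only at hnh
      have hcomm : Commute n h := by
        apply Subtype.ext
        exact hcen n hn h h.2
      have h1 : x ^ Nat.card H' = n ^ Nat.card H' * h ^ Nat.card H' := by
        rw [← hnh, hcomm.mul_pow]
      have h2 : h ^ Nat.card H' = 1 := by
        have := pow_card_eq_one' (G := ↥H') (x := ⟨h, hh⟩)
        exact congrArg Subtype.val this
      rw [h2, mul_one, hx] at h1
      have h3 : (n : G) ^ p ^ k = 1 := by
        have := pow_card_eq_one' (G := ↥N) (x := ⟨n, hn⟩)
        rw [hk] at this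
        exact congrArg Subtype.val this
      have h4 : (n : G) ^ Nat.card H' = 1 := by
        have := congrArg (Subtype.val) h1.symm
        simpa using this
      have h5 : (n : G) = 1 :=
        Helper76.eq_one_of_pow_eq_one_of_coprime p (n : G) (Nat.card H') k hmc h4 h3
      have h6 : n = 1 := Subtype.ext h5
      rw [h6, one_mul] at hnh
      rw [← hnh]
      exact hh
  refine ⟨H'.map X.subtype, ⟨?_⟩, Subgroup.map_subtype_le H', ?_, ?_⟩
  · rintro _ ⟨y, hy, rfl⟩ g
    have hz : g * (y : G) * g⁻¹ ∈ X := hXn.conj_mem _ y.2 g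
    refine ⟨⟨g * (y : G) * g⁻¹, hz⟩, ?_, rfl⟩
    rw [SetLike.mem_coe, key]
    apply Subtype.ext
    have h1 : (y : G) ^ Nat.card H' = 1 := by
      have := (key y).1 hy
      exact congrArg Subtype.val this
    simp only [Subgroup.coe_pow, Subgroup.coe_one]
    rw [conj_pow, h1, mul_one, mul_inv_cancel]
  · rw [Nat.card_congr (Subgroup.equivMapOfInjective H' X.subtype
      (Subgroup.subtype_injective X)).toEquiv.symm]
    exact hmc
  · have h1 : (H'.map X.subtype).subgroupOf X = H' :=
      Subgroup.comap_map_eq_self_of_injective (Subgroup.subtype_injective X) H'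
    unfold Subgroup.relIndex
    rw [h1, hH'.index_eq_card, hcardN']

end Cfsg.Agent.Lib.Helper63.MaxPNil
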