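import Mathlib
import Cfsg.Agent.Lib.Helper1.SZConj
import Cfsg.Agent.Lib.Helper63.MaxPNilA

/-!
# Frattini argument: a normal Hall `p`-subgroup inside the Frattini subgroup splits off normally
-/

set_option autoImplicit false

namespace Cfsg.Agent.Lib.Helper63.MaxPNil

open Cfsg
open scoped Pointwise

universe u

variable {G : Type u} [Group G]

/-- `N ⊴ G` a `p`-group contained in every maximal subgroup, `N ≤ A' ⊴ G` with `|A' : N|` prime to `p`:
a complement of `N` in `A'` is normal in `G`. -/
theorem exists_normal_compl_of_frattini [Finite G] {p : ℕ} [hp : Fact p.Prime] (N A' : Subgroup G)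
    [hNn : N.Normal] [hAn : A'.Normal]
    (hNA : N ≤ A') (hNp : IsPGroup p N) (hcop : (N.relIndex A').Coprime p)
    (hfr : ∀ M : Subgroup G, IsCoatom M → N ≤ M) :
    ∃ A : Subgroup G, A.Normal ∧ A ≤ A' ∧ (Nat.card A).Coprime p ∧ A.relIndex A' = Nat.card N := by
  have hcardN' : Nat.card (N.subgroupOf A') = Nat.card N :=
    Nat.card_congr (Subgroup.subgroupOfEquivOfLe hNA).toEquiv
  obtain ⟨k, hk⟩ := hNp.exists_card_eq
  have hcop' : (Nat.card (N.subgroupOf A')).Coprime (N.subgroupOf A').index := by
    rw [hcardN', hk]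
    exact Nat.Coprime.pow_left k (Nat.Coprime.symm hcop)
  obtain ⟨H', hH'⟩ := Subgroup.exists_right_complement'_of_coprime hcop'
  have hm : (N.subgroupOf A').index = Nat.card H' := hH'.symm.index_eq_card
  have hmc : (Nat.card H').Coprime p := by
    rw [← hm]; exact hcop
  have hNH : (Nat.card (N.subgroupOf A')).Coprime (Nat.card H') := by
    rw [← hm]; exact hcop'
  have hN'p : IsPGroup p (N.subgroupOf A') :=
    hNp.of_injective (Subgroup.subgroupOfEquivOfLe hNA).toMonoidHom
      (Subgroup.subgroupOfEquivOfLe hNA).injective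
  have hN'sol : Group.IsSolvable (N.subgroupOf A') := by
    haveI : Group.IsNilpotent (N.subgroupOf A') := hN'p.isNilpotent
    infer_instance
  have hcardmap : Nat.card (H'.map A'.subtype) = Nat.card H' :=
    Nat.card_congr (Subgroup.equivMapOfInjective H' A'.subtype
      (Subgroup.subtype_injective A')).toEquiv.symm
  have hnorm : Subgroup.normalizer ((H'.map A'.subtype : Subgroup G) : Set G) = ⊤ := by
    by_contra hne
    obtain ⟨M, hM, hle⟩ := (eq_top_or_exists_le_coatom _).resolve_left hne
    apply hM.1
    rw [eq_top_iff]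
    intro g _
    -- the conjugate complement
    have hK' : Subgroup.IsComplement' (N.subgroupOf A')
        (H'.map (MulAut.conjNormal g : MulAut ↥A').toMonoidHom) := by
      apply Subgroup.isComplement'_of_coprime
      · rw [Nat.card_congr (Subgroup.equivMapOfInjective H'
          (MulAut.conjNormal g : MulAut ↥A').toMonoidHom
          (MulAut.conjNormal g : MulAut ↥A').injective).toEquiv.symm]
        exact hH'.card_mul
      · rw [Nat.card_congr (Subgroup.equivMapOfInjective H'
          (MulAut.conjNormal g : MulAut ↥A').toMonoidHom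
          (MulAut.conjNormal g : MulAut ↥A').injective).toEquiv.symm]
        exact hNH
    obtain ⟨a, ha⟩ := Cfsg.Agent.Lib.Helper1.exists_conj_eq_of_isComplement' (N.subgroupOf A') H'
      (H'.map (MulAut.conjNormal g : MulAut ↥A').toMonoidHom) hH' hK' hNH (Or.inl hN'sol)
    -- `a⁻¹ g` normalizes `H`
    have h1 : (a : G)⁻¹ * g ∈ Subgroup.normalizer ((H'.map A'.subtype : Subgroup G) : Set G) := by
      apply Subgroup.mem_normalizer_fintype
      rintro _ ⟨y, hy, rfl⟩
      have h2 : (MulAut.conjNormal g : MulAut ↥A') y ∈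
          H'.map (MulAut.conjNormal g : MulAut ↥A').toMonoidHom := ⟨y, hy, rfl⟩
      rw [← ha] at h2
      rw [Subgroup.mem_pointwise_smul_iff_inv_smul_mem] at h2
      refine ⟨_, h2, ?_⟩
      simp only [Subgroup.coe_subtype, MulAut.smul_def, map_inv, MulAut.inv_apply,
        MulAut.conj_symm_apply, Subgroup.coe_mul, Subgroup.coe_inv, MulAut.conjNormal_apply]
      group
    have h3 : (a : G) ∈ M := by
      obtain ⟨⟨⟨n, hn⟩, ⟨h, hh⟩⟩, hnh, -⟩ := (Subgroup.isComplement_iff_existsUnique.1 hH') a
      simp only at hnh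
      rw [← hnh, Subgroup.coe_mul]
      apply M.mul_mem
      · exact hfr M hM hn
      · apply hle
        apply Subgroup.le_normalizer
        exact ⟨h, hh, rfl⟩
    have h4 : g = (a : G) * ((a : G)⁻¹ * g) := by group
    rw [h4]
    exact M.mul_mem h3 (hle h1)
  refine ⟨H'.map A'.subtype, Subgroup.normalizer_eq_top_iff.1 hnorm, Subgroup.map_subtype_le H', ?_, ?_⟩
  · rw [hcardmap]; exact hmc
  · have h1 : (H'.map A'.subtype).subgroupOf A' = H' :=
      Subgroup.comap_map_eq_self_of_injective (Subgroup.subtype_injective A') H'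
    unfold Subgroup.relIndex
    rw [h1, hH'.index_eq_card, hcardN']

end Cfsg.Agent.Lib.Helper63.MaxPNil
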