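import Mathlib
import Cfsg.Agent.Lib.Helper63.MaxPNilB
import Cfsg.Agent.Lib.Helper63.MaxPNilC

/-!
# Chains above a normal `p`-subgroup and how to repair their bottom
-/

set_option autoImplicit false

namespace Cfsg.Agent.Lib.Helper63.MaxPNil

open Cfsg

universe u

variable {G : Type u} [Group G]

/-- a chain above `N` whose bottom factor `A'/N` is a `p'`-group -/
def PreChain (p : ℕ) (N : Subgroup G) : Prop :=
  ∃ A' B' C' D' : Subgroup G, A'.Normal ∧ B'.Normal ∧ C'.Normal ∧ D'.Normal ∧ N ≤ A' ∧ A' ≤ B' ∧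
    B' ≤ C' ∧ C' ≤ D' ∧ (N.relIndex A').Coprime p ∧ (∃ k : ℕ, A'.relIndex B' = p ^ k) ∧
    (B'.relIndex C').Coprime p ∧ (∃ k : ℕ, C'.relIndex D' = p ^ k) ∧ ∀ g : G, g ^ (p - 1) ∈ D'

theorem PreChain.of_quotient [Finite G] {p : ℕ} (N : Subgroup G) [N.Normal]
    (h : Chain p (G ⧸ N)) : PreChain p N := by
  obtain ⟨A, B, C, D, hA, hB, hC, hD, hAB, hBC, hCD, hAc, hBp, hCc, hDp, hpow⟩ := h
  have hsurj := QuotientGroup.mk'_surjective N
  refine ⟨A.comap (QuotientGroup.mk' N), B.comap (QuotientGroup.mk' N),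
    C.comap (QuotientGroup.mk' N), D.comap (QuotientGroup.mk' N), hA.comap _, hB.comap _,
    hC.comap _, hD.comap _, ?_, Subgroup.comap_mono hAB, Subgroup.comap_mono hBC,
    Subgroup.comap_mono hCD, ?_, ?_, ?_, ?_, ?_⟩
  · have := Subgroup.ker_le_comap (QuotientGroup.mk' N) A
    rwa [QuotientGroup.ker_mk'] at this
  · rw [relIndex_comap_mk' N A]; exact hAc
  · rw [relIndex_comap_comap _ hsurj]; exact hBp
  · rw [relIndex_comap_comap _ hsurj]; exact hCc
  · rw [relIndex_comap_comap _ hsurj]; exact hDp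
  · intro g
    rw [Subgroup.mem_comap, map_pow]
    exact hpow _

/-- repairing the bottom of a prechain -/
theorem Chain.of_bottom {p : ℕ} (hp : p.Prime) {N : Subgroup G} (hNp : ∃ k : ℕ, Nat.card N = p ^ k)
    {A A' B' C' D' : Subgroup G} (hAn : A.Normal) (hB : B'.Normal) (hC : C'.Normal) (hD : D'.Normal)
    (hAA' : A ≤ A') (hAB : A' ≤ B') (hBC : B' ≤ C') (hCD : C' ≤ D')
    (hAc : (Nat.card A).Coprime p) (hArel : A.relIndex A' = Nat.card N)
    (hBp : ∃ k : ℕ, A'.relIndex B' = p ^ k) (hCc : (B'.relIndex C').Coprime p)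
    (hDp : ∃ k : ℕ, C'.relIndex D' = p ^ k) (hpow : ∀ g : G, g ^ (p - 1) ∈ D') : Chain p G := by
  refine ⟨A, B', C', D', hAn, hB, hC, hD, hAA'.trans hAB, hBC, hCD, hAc, ?_, hCc, hDp, hpow⟩
  obtain ⟨k, hk⟩ := hNp
  obtain ⟨j, hj⟩ := hBp
  refine ⟨k + j, ?_⟩
  rw [← Subgroup.relIndex_mul_relIndex A A' B' hAA' hAB, hArel, hk, hj, pow_add]

theorem Chain.of_preChain_frattini [Finite G] {p : ℕ} [hp : Fact p.Prime] (N : Subgroup G)
    [N.Normal] (hNp : IsPGroup p N) (hfr : ∀ M : Subgroup G, IsCoatom M → N ≤ M)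
    (h : PreChain p N) : Chain p G := by
  obtain ⟨A', B', C', D', hA, hB, hC, hD, hNA, hAB, hBC, hCD, hAc, hBp, hCc, hDp, hpow⟩ := h
  haveI := hA
  obtain ⟨A, hAn, hAA', hAcop, hArel⟩ := exists_normal_compl_of_frattini N A' hNA hNp hAc hfr
  exact Chain.of_bottom hp.out hNp.exists_card_eq hAn hB hC hD hAA' hAB hBC hCD hAcop hArel hBp hCc
    hDp hpow

theorem Chain.of_preChain_central [Finite G] {p : ℕ} [hp : Fact p.Prime] (N : Subgroup G)
    [hNn : N.Normal] (hNp : IsPGroup p N) (hNab : ∀ a ∈ N, ∀ b ∈ N, a * b = b * a)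
    (hcen : ∀ g : G, g ^ (p - 1) ∈ Subgroup.centralizer (N : Set G))
    (h : PreChain p N) : Chain p G := by
  obtain ⟨A', B', C', D', hA, hB, hC, hD, hNA, hAB, hBC, hCD, hAc, hBp, hCc, hDp, hpow⟩ := h
  haveI := hA; haveI := hB; haveI := hC; haveI := hD
  have hNcen : N ≤ Subgroup.centralizer (N : Set G) := by
    intro a ha
    rw [Subgroup.mem_centralizer_iff]
    intro b hb
    exact hNab b hb a ha
  have hXn : (A' ⊓ Subgroup.centralizer (N : Set G)).Normal := inferInstance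
  have hNX : N ≤ A' ⊓ Subgroup.centralizer (N : Set G) := le_inf hNA hNcen
  have hcop : (N.relIndex (A' ⊓ Subgroup.centralizer (N : Set G))).Coprime p :=
    Nat.Coprime.coprime_dvd_left (relIndex_inf_dvd hNA _) hAc
  have hcentral : ∀ n ∈ N, ∀ x ∈ A' ⊓ Subgroup.centralizer (N : Set G), n * x = x * n := by
    intro n hn x hx
    exact (Subgroup.mem_centralizer_iff.1 hx.2 n hn)
  obtain ⟨A, hAn, hAX, hAcop, hArel⟩ :=
    exists_normal_compl_of_central N (A' ⊓ Subgroup.centralizer (N : Set G)) hNX hNp hcentral hcop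
  refine Chain.of_bottom hp.out hNp.exists_card_eq hAn
    (inferInstance : (B' ⊓ Subgroup.centralizer (N : Set G)).Normal)
    (inferInstance : (C' ⊓ Subgroup.centralizer (N : Set G)).Normal)
    (inferInstance : (D' ⊓ Subgroup.centralizer (N : Set G)).Normal) hAX
    (inf_le_inf_right _ hAB) (inf_le_inf_right _ hBC) (inf_le_inf_right _ hCD) hAcop hArel ?_ ?_ ?_ ?_
  · obtain ⟨k, hk⟩ := hBp
    have := relIndex_inf_inf_dvd hAB (Subgroup.centralizer (N : Set G))
    rw [hk] at this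
    exact pow_of_dvd_pow hp.out this
  · exact Nat.Coprime.coprime_dvd_left (relIndex_inf_inf_dvd hBC _) hCc
  · obtain ⟨k, hk⟩ := hDp
    have := relIndex_inf_inf_dvd hCD (Subgroup.centralizer (N : Set G))
    rw [hk] at this
    exact pow_of_dvd_pow hp.out this
  · intro g
    exact ⟨hpow g, hcen g⟩

end Cfsg.Agent.Lib.Helper63.MaxPNil
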