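import Mathlib
import Cfsg.Agent.Lib.Helper63.MaxPNilD
import Cfsg.Agent.Lib.Helper63.PLen3
import Cfsg.Agent.Lib.Helper1.MinimalNormal
import Cfsg.Agent.S3744

/-!
# Groups whose maximal subgroups are `p`-nilpotent or of prime index have `p`-length at most 2
-/

set_option autoImplicit false

namespace Cfsg.Agent.Lib.Helper63.MaxPNil

open Cfsg
open scoped Pointwise

universe u

variable {G : Type u} [Group G]

theorem Chain.of_subsingleton {p : ℕ} [Subsingleton G] : Chain p G := by
  refine ⟨⊥, ⊥, ⊥, ⊥, inferInstance, inferInstance, inferInstance, inferInstance, le_refl _,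
    le_refl _, le_refl _, ?_, ⟨0, ?_⟩, ?_, ⟨0, ?_⟩, ?_⟩
  · rw [Subgroup.card_bot]; exact Nat.coprime_one_left p
  · simp
  · simp
  · simp
  · intro g
    rw [Subgroup.mem_bot]
    exact Subsingleton.elim _ _

/-- a minimal normal subgroup that is a `p`-group or a `p'`-group -/
theorem exists_minimal_normal_p_or_p' [Finite G] [Nontrivial G] {p : ℕ} [hp : Fact p.Prime]
    (h : IsPSolvable p G ∨ Group.IsSolvable G) :
    ∃ N : Subgroup G, N.Normal ∧ N ≠ ⊥ ∧ (IsPGroup p N ∨ (Nat.card N).Coprime p) ∧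
      ∀ M : Subgroup G, M.Normal → M ≤ N → M = ⊥ ∨ M = N := by
  rcases h with h | h
  · obtain ⟨M₀, hM₀n, hM₀1, hM₀⟩ := Cfsg.Agent.S3744.exists_normal_p_or_p' h
    obtain ⟨R, hRn, hR1, hRM, hmin⟩ := Cfsg.Agent.Lib.Helper1.exists_minimal_normal_le M₀ hM₀n hM₀1
    refine ⟨R, hRn, hR1, ?_, hmin⟩
    rcases hM₀ with hp' | hc
    · exact Or.inl (hp'.to_le hRM)
    · exact Or.inr (Nat.Coprime.coprime_dvd_left (Subgroup.card_dvd_of_le hRM) hc)
  · haveI := h
    obtain ⟨q, R, hq, hRn, hR1, hRq, -, -, hmin⟩ :=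
      Cfsg.Agent.Lib.Helper1.exists_normal_pSubgroup_of_isSolvable (G := G)
    refine ⟨R, hRn, hR1, ?_, hmin⟩
    by_cases hqp : q = p
    · subst hqp
      exact Or.inl hRq
    · right
      haveI : Fact q.Prime := ⟨hq⟩
      obtain ⟨k, hk⟩ := hRq.exists_card_eq
      rw [hk]
      exact Nat.Coprime.pow_left k ((Nat.coprime_primes hq hp.out).2 hqp)

theorem abelian_of_minimal_pgroup [Finite G] {p : ℕ} [hp : Fact p.Prime] (N : Subgroup G)
    [hNn : N.Normal] (hN1 : N ≠ ⊥) (hNp : IsPGroup p N)
    (hmin : ∀ M : Subgroup G, M.Normal → M ≤ N → M = ⊥ ∨ M = N) :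
    ∀ a ∈ N, ∀ b ∈ N, a * b = b * a := by
  haveI : Nontrivial ↥N := (Subgroup.nontrivial_iff_ne_bot N).2 hN1
  have hZn : ((Subgroup.center ↥N).map N.subtype).Normal := inferInstance
  have hZle : (Subgroup.center ↥N).map N.subtype ≤ N := Subgroup.map_subtype_le _
  have hZ1 : (Subgroup.center ↥N).map N.subtype ≠ ⊥ := by
    intro h
    rw [Subgroup.map_eq_bot_iff_of_injective _ (Subgroup.subtype_injective N)] at h
    have := hNp.center_nontrivial
    rw [h] at this
    exact not_nontrivial _ this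
  have hZ : (Subgroup.center ↥N).map N.subtype = N := (hmin _ hZn hZle).resolve_left hZ1
  intro a ha b hb
  have h1 : a ∈ (Subgroup.center ↥N).map N.subtype := by rw [hZ]; exact ha
  obtain ⟨a', ha', rfl⟩ := h1
  have := Subgroup.mem_center_iff.1 ha' ⟨b, hb⟩
  exact (congrArg Subtype.val this).symm

theorem compl_bijective [Finite G] (N M : Subgroup G) [hNn : N.Normal]
    (hNab : ∀ a ∈ N, ∀ b ∈ N, a * b = b * a)
    (hmin : ∀ K : Subgroup G, K.Normal → K ≤ N → K = ⊥ ∨ K = N) (hM : IsCoatom M)
    (hNM : ¬ N ≤ M) : Function.Bijective ((QuotientGroup.mk' N).comp M.subtype) := by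
  have hsup : N ⊔ M = ⊤ := by
    apply hM.2
    apply lt_of_le_of_ne le_sup_right
    intro h
    apply hNM
    rw [h]
    exact le_sup_left
  have hnorm : Subgroup.normalizer ((N ⊓ M : Subgroup G) : Set G) = ⊤ := by
    rw [eq_top_iff, ← hsup]
    apply sup_le
    · intro n hn
      apply Subgroup.mem_normalizer_fintype
      intro x hx
      have : n * x * n⁻¹ = x := by
        rw [hNab n hn x hx.1, mul_assoc, mul_inv_cancel, mul_one]
      rw [this]
      exact hx
    · intro m hm
      apply Subgroup.mem_normalizer_fintype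
      intro x hx
      exact ⟨hNn.conj_mem x hx.1 m, M.mul_mem (M.mul_mem hm hx.2) (M.inv_mem hm)⟩
  have hinf : N ⊓ M = ⊥ := by
    rcases hmin (N ⊓ M) (Subgroup.normalizer_eq_top_iff.1 hnorm) inf_le_left with h | h
    · exact h
    · exfalso
      apply hNM
      rw [← h]
      exact inf_le_right
  constructor
  · rw [injective_iff_map_eq_one]
    intro x hx
    have h1 : (x : G) ∈ N := by
      rw [MonoidHom.comp_apply, QuotientGroup.mk'_apply, QuotientGroup.eq_one_iff] at hx
      exact hx
    have h2 : (x : G) ∈ N ⊓ M := ⟨h1, x.2⟩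
    rw [hinf, Subgroup.mem_bot] at h2
    exact Subtype.ext h2
  · intro q
    obtain ⟨g, rfl⟩ := QuotientGroup.mk'_surjective N q
    have hg : g ∈ ((N ⊔ M : Subgroup G) : Set G) := by rw [hsup]; trivial
    rw [Subgroup.normal_mul] at hg
    obtain ⟨n, hn, m, hm, rfl⟩ := Set.mem_mul.1 hg
    refine ⟨⟨m, hm⟩, ?_⟩
    rw [MonoidHom.comp_apply, Subgroup.subtype_apply, map_mul]
    have : QuotientGroup.mk' N n = 1 := by
      rw [QuotientGroup.mk'_apply, QuotientGroup.eq_one_iff]; exact hn
    rw [this, one_mul]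

theorem Chain.of_compl_pnil [Finite G] {p : ℕ} (hp : p.Prime) (N M : Subgroup G) [hNn : N.Normal]
    (hNp : ∃ k : ℕ, Nat.card N = p ^ k)
    (hf : Function.Bijective ((QuotientGroup.mk' N).comp M.subtype))
    (K : Subgroup ↥M) (hKn : K.Normal) (hKc : ¬ p ∣ Nat.card K) (hKi : ∃ k : ℕ, K.index = p ^ k) :
    Chain p G := by
  have hsurj := QuotientGroup.mk'_surjective N
  have hK1n : (K.map ((QuotientGroup.mk' N).comp M.subtype)).Normal := hKn.map _ hf.surjective
  refine ⟨⊥, N, (K.map ((QuotientGroup.mk' N).comp M.subtype)).comap (QuotientGroup.mk' N), ⊤,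
    inferInstance, hNn, hK1n.comap _, inferInstance, bot_le, ?_, le_top, ?_, ?_, ?_, ?_, ?_⟩
  · have := Subgroup.ker_le_comap (QuotientGroup.mk' N)
      (K.map ((QuotientGroup.mk' N).comp M.subtype))
    rwa [QuotientGroup.ker_mk'] at this
  · rw [Subgroup.card_bot]; exact Nat.coprime_one_left p
  · rw [Subgroup.relIndex_bot_left]; exact hNp
  · rw [relIndex_comap_mk']
    have h1 : Nat.card (K.map ((QuotientGroup.mk' N).comp M.subtype)) ∣ Nat.card K :=
      Subgroup.card_map_dvd _ _
    have h2 : ¬ p ∣ Nat.card (K.map ((QuotientGroup.mk' N).comp M.subtype)) :=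
      fun h => hKc (dvd_trans h h1)
    exact ((Nat.Prime.coprime_iff_not_dvd hp).2 h2).symm
  · rw [Subgroup.relIndex_top_right, Subgroup.index_comap_of_surjective _ hsurj]
    obtain ⟨k, hk⟩ := hKi
    have := Subgroup.index_map_dvd K hf.surjective
    rw [hk] at this
    exact pow_of_dvd_pow hp this
  · intro g; trivial

theorem pow_mem_centralizer_of_card_prime [Finite G] {p : ℕ} [hp : Fact p.Prime] (N : Subgroup G)
    [hNn : N.Normal] (hN : Nat.card N = p) (g : G) :
    g ^ (p - 1) ∈ Subgroup.centralizer (N : Set G) := by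
  haveI : IsCyclic ↥N := isCyclic_of_prime_card hN
  have h1 : Nat.card (MulAut ↥N) = p - 1 := by
    rw [IsCyclic.card_mulAut, hN, Nat.totient_prime hp.out]
  have h2 : (MulAut.conjNormal g : MulAut ↥N) ^ (p - 1) = 1 := by
    rw [← h1]; exact pow_card_eq_one'
  have h3 : (MulAut.conjNormal (g ^ (p - 1)) : MulAut ↥N) = 1 := by
    rw [map_pow, h2]
  rw [Subgroup.mem_centralizer_iff]
  intro n hn
  have h4 := congrArg (fun φ : MulAut ↥N => ((φ ⟨n, hn⟩ : ↥N) : G)) h3
  simp only [MulAut.conjNormal_apply, MulAut.one_apply] at h4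
  calc n * g ^ (p - 1) = (g ^ (p - 1) * n * (g ^ (p - 1))⁻¹) * g ^ (p - 1) := by rw [h4]
    _ = g ^ (p - 1) * n := by group

theorem index_eq_card_of_bijective [Finite G] (N M : Subgroup G) [hNn : N.Normal]
    (hf : Function.Bijective ((QuotientGroup.mk' N).comp M.subtype)) : M.index = Nat.card N := by
  have h1 : Nat.card M = N.index := Nat.card_congr (Equiv.ofBijective _ hf)
  have h2 := Subgroup.index_mul_card M
  have h3 := Subgroup.index_mul_card N
  rw [h1, ← h3, mul_comm N.index] at h2
  exact Nat.eq_of_mul_eq_mul_right (Nat.pos_of_ne_zero Subgroup.index_ne_zero_of_finite) h2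

/-- **Main theorem.** -/
theorem chain_aux (p : ℕ) [hp : Fact p.Prime] : ∀ (n : ℕ) (G : Type u) [Group G] [Finite G],
    Nat.card G = n → (IsPSolvable p G ∨ Group.IsSolvable G) → MaxHyp p G → Chain p G := by
  intro n
  induction n using Nat.strong_induction_on with
  | _ n ih =>
    intro G _ _ hn hsol hmax
    subst hn
    by_cases hG : Subsingleton G
    · exact Chain.of_subsingleton
    rw [not_subsingleton_iff_nontrivial] at hG
    obtain ⟨N, hNn, hN1, hNpp, hmin⟩ := exists_minimal_normal_p_or_p' (p := p) hsol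
    haveI := hNn
    have hcard : Nat.card (G ⧸ N) < Nat.card G := card_quotient_lt N hN1
    have hsolQ : IsPSolvable p (G ⧸ N) ∨ Group.IsSolvable (G ⧸ N) := by
      rcases hsol with h | h
      · exact Or.inl (Helper76.IsPSolvable_of_surjective p (QuotientGroup.mk' N)
          (QuotientGroup.mk'_surjective N) h)
      · haveI := h
        exact Or.inr inferInstance
    have hQ : Chain p (G ⧸ N) := ih _ hcard (G ⧸ N) rfl hsolQ (hmax.quotient hp.out N)
    rcases hNpp with hNp | hNc
    swap
    · exact Chain.of_quotient_coprime N hNc hQ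
    have hNab := abelian_of_minimal_pgroup N hN1 hNp hmin
    have hpre : PreChain p N := PreChain.of_quotient N hQ
    by_cases hfr : ∀ M : Subgroup G, IsCoatom M → N ≤ M
    · exact Chain.of_preChain_frattini N hNp hfr hpre
    · push Not at hfr
      obtain ⟨M, hM, hNM⟩ := hfr
      have hf := compl_bijective N M hNab hmin hM hNM
      rcases hmax M hM with ⟨K, hKn, hKc, hKi⟩ | hpr
      · exact Chain.of_compl_pnil hp.out N M hNp.exists_card_eq hf K hKn hKc hKi
      · rw [index_eq_card_of_bijective N M hf] at hpr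
        obtain ⟨k, hk⟩ := hNp.exists_card_eq
        have hNcard : Nat.card N = p := by
          have hk0 : k ≠ 0 := by
            intro h0
            rw [h0, pow_zero] at hk
            exact hN1 (Subgroup.card_eq_one.1 hk)
          have hdvd : p ∣ Nat.card N := by
            rw [hk]; exact dvd_pow_self p hk0
          exact ((Nat.prime_dvd_prime_iff_eq hp.out hpr).1 hdvd).symm
        exact Chain.of_preChain_central N hNp hNab
          (pow_mem_centralizer_of_card_prime N hNcard) hpre

theorem chain_of_maxHyp {G : Type u} [Group G] [Finite G] (p : ℕ) [Fact p.Prime]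
    (hsol : IsPSolvable p G ∨ Group.IsSolvable G) (hmax : MaxHyp p G) : Chain p G :=
  chain_aux p (Nat.card G) G rfl hsol hmax

end Cfsg.Agent.Lib.Helper63.MaxPNil
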