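import Mathlib

/-!
The squaring map of a group of class at most `2` in coordinates: `(x₀^ε₀ ⋯ x_{m-1}^ε_{m-1})²`
is given by polynomials of degree at most `2` in the `εᵢ ∈ 𝔽₂`, and the Chevalley–Warning theorem.
(helper63, for S3773)
-/

set_option autoImplicit false
set_option linter.unusedSectionVars false

namespace Cfsg.Agent.Lib.Helper63

open scoped commutatorElement

section class2

variable {G : Type*} [Group G]

/-- squaring a product in a group with central commutators -/
theorem sq_mul_of_central (hc : ∀ a b c : G, ⁅a, b⁆ * c = c * ⁅a, b⁆) (a b : G) :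
    (a * b) ^ 2 = a ^ 2 * b ^ 2 * ⁅b, a⁆ := by
  have h1 : b * a = ⁅b, a⁆ * (a * b) := by
    simp [commutatorElement_def, mul_assoc]
  calc (a * b) ^ 2 = a * (b * a) * b := by rw [pow_two]; simp only [mul_assoc]
    _ = a * (⁅b, a⁆ * (a * b)) * b := by rw [h1]
    _ = a * ((a * b) * ⁅b, a⁆) * b := by rw [hc]
    _ = a * (a * b) * (⁅b, a⁆ * b) := by simp only [mul_assoc]
    _ = a * (a * b) * (b * ⁅b, a⁆) := by rw [hc]
    _ = a ^ 2 * b ^ 2 * ⁅b, a⁆ := by rw [pow_two, pow_two]; simp only [mul_assoc]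

theorem commutator_mul_right_of_central (hc : ∀ a b c : G, ⁅a, b⁆ * c = c * ⁅a, b⁆)
    (a b c : G) : ⁅a, b * c⁆ = ⁅a, b⁆ * ⁅a, c⁆ := by
  have h1 : ⁅a, b * c⁆ = ⁅a, b⁆ * (b * ⁅a, c⁆ * b⁻¹) := by
    simp [commutatorElement_def, mul_assoc]
  rw [h1, ← hc a c b, mul_assoc ⁅a, c⁆, mul_inv_cancel, mul_one]

theorem commutator_one_right' (a : G) : ⁅a, (1 : G)⁆ = 1 := by
  simp [commutatorElement_def]

/-- commutators are products of three squares -/
theorem commutator_eq_squares (a b : G) :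
    ⁅a, b⁆ = (a * b) ^ 2 * (b⁻¹ * a⁻¹ * b) ^ 2 * (b⁻¹) ^ 2 := by
  simp only [commutatorElement_def, pow_two]
  group

end class2

section gprod

variable {G : Type*} [Group G]

/-- the ordered product `x 0 ^ ε 0 * x 1 ^ ε 1 * ⋯` -/
def gprod : (m : ℕ) → (Fin m → G) → (Fin m → ZMod 2) → G
  | 0, _, _ => 1
  | (m + 1), x, ε => gprod m (fun i => x i.castSucc) (fun i => ε i.castSucc) *
      x (Fin.last m) ^ (ε (Fin.last m)).val

theorem gprod_zero (x : Fin 0 → G) (ε : Fin 0 → ZMod 2) : gprod 0 x ε = 1 := rfl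

theorem gprod_succ (m : ℕ) (x : Fin (m + 1) → G) (ε : Fin (m + 1) → ZMod 2) :
    gprod (m + 1) x ε = gprod m (fun i => x i.castSucc) (fun i => ε i.castSucc) *
      x (Fin.last m) ^ (ε (Fin.last m)).val := rfl

theorem gprod_zero_vec (m : ℕ) (x : Fin m → G) : gprod m x 0 = 1 := by
  induction m with
  | zero => rfl
  | succ m ih =>
    rw [gprod_succ]
    have h1 : (fun i : Fin m => (0 : Fin (m + 1) → ZMod 2) i.castSucc) = 0 := rfl
    rw [h1, ih]
    simp

theorem gprod_mem (K : Subgroup G) (m : ℕ) (x : Fin m → G) (hx : ∀ i, x i ∈ K)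
    (ε : Fin m → ZMod 2) : gprod m x ε ∈ K := by
  induction m with
  | zero => exact K.one_mem
  | succ m ih =>
    rw [gprod_succ]
    exact K.mul_mem (ih _ (fun i => hx _) _) (K.pow_mem (hx _) _)

theorem zmod2_cases (e : ZMod 2) : e = 0 ∨ e = 1 := by
  fin_cases e
  · left; rfl
  · right; rfl

end gprod


section poly

variable {G : Type*} [Group G]

/-- `lam` is additive on the subgroup `S` -/
def AddOn (S : Subgroup G) (lam : G → ZMod 2) : Prop :=
  ∀ a ∈ S, ∀ b ∈ S, lam (a * b) = lam a + lam b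

theorem AddOn.map_one {S : Subgroup G} {lam : G → ZMod 2} (h : AddOn S lam) : lam 1 = 0 := by
  have h1 := h 1 S.one_mem 1 S.one_mem
  rw [mul_one] at h1
  exact left_eq_add.1 h1

theorem val_one_zmod2 : (1 : ZMod 2).val = 1 := rfl

theorem val_zero_zmod2 : (0 : ZMod 2).val = 0 := rfl

theorem lam_commutator_gprod (hc : ∀ a b c : G, ⁅a, b⁆ * c = c * ⁅a, b⁆) {S : Subgroup G}
    {lam : G → ZMod 2} (hSc : ∀ a b : G, ⁅a, b⁆ ∈ S) (h : AddOn S lam) (y : G) :
    ∀ (m : ℕ) (x : Fin m → G) (ε : Fin m → ZMod 2),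
      lam ⁅y, gprod m x ε⁆ = ∑ i, ε i * lam ⁅y, x i⁆ := by
  intro m
  induction m with
  | zero =>
    intro x ε
    rw [gprod_zero, commutator_one_right', h.map_one]
    simp
  | succ m ih =>
    intro x ε
    rw [gprod_succ, commutator_mul_right_of_central hc, h _ (hSc _ _) _ (hSc _ _), ih,
      Fin.sum_univ_castSucc]
    congr 1
    rcases zmod2_cases (ε (Fin.last m)) with he | he
    · rw [he, val_zero_zmod2, pow_zero, commutator_one_right', h.map_one, zero_mul]
    · rw [he, val_one_zmod2, pow_one, one_mul]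

open MvPolynomial in
/-- the polynomial computing `lam ((gprod m x ε) ^ 2)` -/
noncomputable def qpoly (lam : G → ZMod 2) :
    (m : ℕ) → (Fin m → G) → MvPolynomial (Fin m) (ZMod 2)
  | 0, _ => 0
  | (m + 1), x => rename Fin.castSucc (qpoly lam m (fun i => x i.castSucc)) +
      X (Fin.last m) * (C (lam (x (Fin.last m) ^ 2)) +
        ∑ i : Fin m, C (lam ⁅x (Fin.last m), x i.castSucc⁆) * X i.castSucc)

open MvPolynomial in
theorem qpoly_totalDegree_le (lam : G → ZMod 2) :
    ∀ (m : ℕ) (x : Fin m → G), (qpoly lam m x).totalDegree ≤ 2 := by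
  intro m
  induction m with
  | zero =>
    intro x
    simp [qpoly]
  | succ m ih =>
    intro x
    rw [qpoly]
    refine (totalDegree_add _ _).trans (max_le ?_ ?_)
    · exact (totalDegree_rename_le _ _).trans (ih _)
    · refine (totalDegree_mul _ _).trans ?_
      rw [totalDegree_X]
      have h1 : (C (lam (x (Fin.last m) ^ 2)) +
          ∑ i : Fin m, C (lam ⁅x (Fin.last m), x i.castSucc⁆) * X i.castSucc :
          MvPolynomial (Fin (m + 1)) (ZMod 2)).totalDegree ≤ 1 := by
        refine (totalDegree_add _ _).trans (max_le ?_ ?_)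
        · rw [totalDegree_C]
          omega
        · refine (totalDegree_finsetSum _ _).trans ?_
          apply Finset.sup_le
          intro i _
          refine (totalDegree_mul _ _).trans ?_
          rw [totalDegree_C, totalDegree_X]
      omega

open MvPolynomial in
theorem eval_qpoly (hc : ∀ a b c : G, ⁅a, b⁆ * c = c * ⁅a, b⁆) {S K : Subgroup G}
    {lam : G → ZMod 2} (hS2 : ∀ a ∈ K, a ^ 2 ∈ S) (hSc : ∀ a b : G, ⁅a, b⁆ ∈ S)
    (h : AddOn S lam) :
    ∀ (m : ℕ) (x : Fin m → G) (_ : ∀ i, x i ∈ K) (ε : Fin m → ZMod 2),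
      eval ε (qpoly lam m x) = lam ((gprod m x ε) ^ 2) := by
  intro m
  induction m with
  | zero =>
    intro x _ ε
    rw [qpoly, gprod_zero, one_pow, h.map_one, map_zero]
  | succ m ih =>
    intro x hx ε
    rw [qpoly, gprod_succ]
    simp only [map_add, map_mul, eval_X, eval_C, eval_rename, map_sum]
    have h0 : (ε ∘ Fin.castSucc) = fun i : Fin m => ε i.castSucc := rfl
    rw [h0, ih _ (fun i => hx _)]
    have hgK : gprod m (fun i => x i.castSucc) (fun i => ε i.castSucc) ∈ K :=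
      gprod_mem K m _ (fun i => hx _) _
    rcases zmod2_cases (ε (Fin.last m)) with he | he
    · rw [he, val_zero_zmod2, pow_zero, mul_one, zero_mul, add_zero]
    · rw [he, val_one_zmod2, pow_one, one_mul, sq_mul_of_central hc,
        h _ (S.mul_mem (hS2 _ hgK) (hS2 _ (hx _))) _ (hSc _ _), h _ (hS2 _ hgK) _ (hS2 _ (hx _)),
        lam_commutator_gprod hc hSc h, add_assoc]
      congr 2
      apply Finset.sum_congr rfl
      intro i _
      exact mul_comm _ _

end poly


section cw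

variable {G : Type*} [Group G]

open MvPolynomial in
/-- Chevalley–Warning for the squaring map: with fewer than `m / 2` functionals there is a nonzero
exponent vector whose product has a square killed by all the functionals. -/
theorem exists_ne_zero_of_lt (hc : ∀ a b c : G, ⁅a, b⁆ * c = c * ⁅a, b⁆) {S K : Subgroup G}
    (hS2 : ∀ a ∈ K, a ^ 2 ∈ S) (hSc : ∀ a b : G, ⁅a, b⁆ ∈ S) {t m : ℕ}
    (lam : Fin t → G → ZMod 2) (hlam : ∀ k, AddOn S (lam k)) (x : Fin m → G)
    (hx : ∀ i, x i ∈ K) (hlt : 2 * t < m) :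
    ∃ ε : Fin m → ZMod 2, ε ≠ 0 ∧ ∀ k, lam k ((gprod m x ε) ^ 2) = 0 := by
  classical
  have hdeg : ∑ k : Fin t, (qpoly (lam k) m x).totalDegree < Fintype.card (Fin m) := by
    rw [Fintype.card_fin]
    calc ∑ k : Fin t, (qpoly (lam k) m x).totalDegree ≤ ∑ _k : Fin t, 2 :=
          Finset.sum_le_sum (fun k _ => qpoly_totalDegree_le _ _ _)
      _ = 2 * t := by simp [mul_comm]
      _ < m := hlt
  have hdvd := char_dvd_card_solutions_of_fintype_sum_lt 2 hdeg
  by_contra hcon
  push Not at hcon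
  have hzero : ∀ k, eval (0 : Fin m → ZMod 2) (qpoly (lam k) m x) = 0 := by
    intro k
    rw [eval_qpoly hc hS2 hSc (hlam k) m x hx, gprod_zero_vec, one_pow, (hlam k).map_one]
  have huniq : ∀ ε : {ε : Fin m → ZMod 2 // ∀ k, eval ε (qpoly (lam k) m x) = 0},
      ε = ⟨0, hzero⟩ := by
    rintro ⟨ε, hε⟩
    apply Subtype.ext
    show ε = 0
    by_contra hne
    obtain ⟨k, hk⟩ := hcon ε hne
    apply hk
    rw [← eval_qpoly hc hS2 hSc (hlam k) m x hx]
    exact hε k
  rw [Fintype.card_eq_nat_card] at hdvd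
  have hcard : Nat.card {ε : Fin m → ZMod 2 // ∀ k, eval ε (qpoly (lam k) m x) = 0} = 1 := by
    rw [Nat.card_eq_one_iff_unique]
    exact ⟨⟨fun a b => (huniq a).trans (huniq b).symm⟩, ⟨⟨0, hzero⟩⟩⟩
  rw [hcard] at hdvd
  omega

end cw

end Cfsg.Agent.Lib.Helper63
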