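import Cfsg.Agent.Lib.Helper63.QuadCW

/-!
Linear algebra over `𝔽₂` for groups of exponent `2`: coordinate functionals modulo a subgroup and
independent families.  (helper63, for S3773)
-/

set_option autoImplicit false
set_option linter.unusedSectionVars false

namespace Cfsg.Agent.Lib.Helper63

open scoped commutatorElement

section hom

variable {G H : Type*} [Group G] [Group H]

theorem map_gprod (f : G →* H) (m : ℕ) (x : Fin m → G) (ε : Fin m → ZMod 2) :
    f (gprod m x ε) = gprod m (fun i => f (x i)) ε := by
  induction m with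
  | zero => simp [gprod_zero]
  | succ m ih =>
    rw [gprod_succ, gprod_succ, map_mul, map_pow, ih]

end hom

section exp2

variable {E : Type*} [Group E]

theorem comm_of_sq_eq_one (hexp : ∀ a : E, a ^ 2 = 1) (a b : E) : a * b = b * a := by
  have h1 : (a * b) * (a * b) = 1 := by rw [← pow_two]; exact hexp _
  have ha : a * a = 1 := by rw [← pow_two]; exact hexp _
  have hb : b * b = 1 := by rw [← pow_two]; exact hexp _
  calc a * b = a * b * ((a * b) * (b * a)) := by
        rw [show a * b * (b * a) = a * (b * b) * a by simp only [mul_assoc], hb, mul_one, ha,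
          mul_one]
    _ = (a * b * (a * b)) * (b * a) := by simp only [mul_assoc]
    _ = b * a := by rw [h1, one_mul]

/-- coordinates of an ordered product in the additive picture -/
theorem ofMul_gprod {E' : Type*} [CommGroup E'] [Module (ZMod 2) (Additive E')] :
    ∀ (m : ℕ) (y : Fin m → E') (ε : Fin m → ZMod 2),
      Additive.ofMul (gprod m y ε) = ∑ i, ε i • Additive.ofMul (y i) := by
  intro m
  induction m with
  | zero =>
    intro y ε
    simp [gprod_zero]
  | succ m ih =>
    intro y ε
    rw [gprod_succ, ofMul_mul, ih, Fin.sum_univ_castSucc, ofMul_pow]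
    congr 1
    rw [← Nat.cast_smul_eq_nsmul (ZMod 2), ZMod.natCast_zmod_val]

/-- an independent family of the right size in a finite group of exponent `2` -/
theorem exists_independent [Finite E] (hexp : ∀ a : E, a ^ 2 = 1) (m : ℕ)
    (hcard : Nat.card E = 2 ^ m) :
    ∃ y : Fin m → E, ∀ ε : Fin m → ZMod 2, gprod m y ε = 1 → ε = 0 := by
  let _i1 : CommGroup E := { (inferInstance : Group E) with mul_comm := comm_of_sq_eq_one hexp }
  let _i2 : Module (ZMod 2) (Additive E) := AddCommGroup.zmodModule (n := 2) (fun v => by
    have := hexp (Additive.toMul v)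
    exact congrArg Additive.ofMul this)
  have hfr : Module.finrank (ZMod 2) (Additive E) = m := by
    have h1 : Nat.card (Additive E) = Nat.card (ZMod 2) ^ Module.finrank (ZMod 2) (Additive E) :=
      Module.natCard_eq_pow_finrank
    have h2 : Nat.card (Additive E) = Nat.card E := Nat.card_congr Additive.toMul
    rw [h2, hcard, Nat.card_zmod] at h1
    exact (Nat.pow_right_injective (le_refl 2) h1).symm
  let b := (Module.finBasis (ZMod 2) (Additive E)).reindex (finCongr hfr)
  refine ⟨fun i => Additive.toMul (b i), ?_⟩
  intro ε hε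
  have h1 := ofMul_gprod m (fun i => Additive.toMul (b i)) ε
  rw [hε] at h1
  have h2 : ∑ i, ε i • b i = 0 := by
    simp only [ofMul_toMul, ofMul_one] at h1
    exact h1.symm
  funext i
  exact Fintype.linearIndependent_iff.1 b.linearIndependent ε h2 i

/-- coordinate functionals modulo a subgroup of a finite group of exponent `2` -/
theorem exists_functionals [Finite E] (hexp : ∀ a : E, a ^ 2 = 1) (M : Subgroup E) (t : ℕ)
    (hcard : Nat.card E = 2 ^ t * Nat.card M) :
    ∃ lam : Fin t → E → ZMod 2, (∀ k a b, lam k (a * b) = lam k a + lam k b) ∧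
      (∀ a, (∀ k, lam k a = 0) → a ∈ M) ∧ (∀ a ∈ M, ∀ k, lam k a = 0) ∧
      (∀ k, ∃ a, lam k a = 1) := by
  let _i1 : CommGroup E := { (inferInstance : Group E) with mul_comm := comm_of_sq_eq_one hexp }
  let _i2 : Module (ZMod 2) (Additive E) := AddCommGroup.zmodModule (n := 2) (fun v => by
    have := hexp (Additive.toMul v)
    exact congrArg Additive.ofMul this)
  let M' : Submodule (ZMod 2) (Additive E) :=
    AddSubgroup.toZModSubmodule 2 (Subgroup.toAddSubgroup M)
  have hM' : ∀ v : Additive E, v ∈ M' ↔ Additive.toMul v ∈ M := fun v => Iff.rfl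
  have hcM : Nat.card M' = Nat.card M :=
    Nat.card_congr (Equiv.subtypeEquiv Additive.toMul (fun v => hM' v))
  have hfr : Module.finrank (ZMod 2) (Additive E ⧸ M') = t := by
    have h1 : Nat.card (Additive E ⧸ M') =
        Nat.card (ZMod 2) ^ Module.finrank (ZMod 2) (Additive E ⧸ M') :=
      Module.natCard_eq_pow_finrank
    have h2 : Nat.card (Additive E) = Nat.card E := Nat.card_congr Additive.toMul
    have h3 := Submodule.card_eq_card_quotient_mul_card M'
    rw [h2, hcard, hcM, mul_comm] at h3
    have hpos : 0 < Nat.card M := Nat.card_pos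
    have h4 : 2 ^ t = Nat.card (Additive E ⧸ M') := Nat.eq_of_mul_eq_mul_left hpos h3
    rw [← h4, Nat.card_zmod] at h1
    exact (Nat.pow_right_injective (le_refl 2) h1).symm
  let b := (Module.finBasis (ZMod 2) (Additive E ⧸ M')).reindex (finCongr hfr)
  refine ⟨fun k a => b.repr (Submodule.Quotient.mk (Additive.ofMul a)) k, ?_, ?_, ?_, ?_⟩
  · intro k a c
    show b.repr (Submodule.Quotient.mk (Additive.ofMul (a * c))) k = _
    rw [ofMul_mul, Submodule.Quotient.mk_add, map_add, Finsupp.add_apply]
  · intro a ha
    have h1 : b.repr (Submodule.Quotient.mk (Additive.ofMul a) : Additive E ⧸ M') = 0 :=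
      Finsupp.ext ha
    have h2 : (Submodule.Quotient.mk (Additive.ofMul a) : Additive E ⧸ M') = 0 :=
      (LinearEquiv.map_eq_zero_iff b.repr).1 h1
    rw [Submodule.Quotient.mk_eq_zero] at h2
    exact (hM' _).1 h2
  · intro a ha k
    have h2 : (Submodule.Quotient.mk (Additive.ofMul a) : Additive E ⧸ M') = 0 := by
      rw [Submodule.Quotient.mk_eq_zero]
      exact (hM' _).2 ha
    show b.repr (Submodule.Quotient.mk (Additive.ofMul a)) k = 0
    rw [h2, map_zero, Finsupp.zero_apply]
  · intro k
    obtain ⟨v, hv⟩ := Submodule.Quotient.mk_surjective M' (b k)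
    refine ⟨Additive.toMul v, ?_⟩
    show b.repr (Submodule.Quotient.mk (Additive.ofMul (Additive.toMul v))) k = 1
    rw [ofMul_toMul, hv, Module.Basis.repr_self, Finsupp.single_eq_same]

end exp2

end Cfsg.Agent.Lib.Helper63
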