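import Cfsg.Agent.Lib.Helper63.QuadCW2

/-!
Groups of class at most `2` and exponent dividing `4` whose involutions form a subgroup: the master
inequality from the Chevalley–Warning theorem.  (helper63, for S3773)
-/

set_option autoImplicit false
set_option linter.unusedSectionVars false

namespace Cfsg.Agent.Lib.Helper63

open scoped commutatorElement

/-- standing hypotheses: central commutators, exponent dividing `4`, involutions closed under
products -/
structure Sq4 (G : Type*) [Group G] : Prop where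
  hc : ∀ a b c : G, ⁅a, b⁆ * c = c * ⁅a, b⁆
  hexp : ∀ x : G, x ^ 4 = 1
  hN : ∀ x y : G, x ^ 2 = 1 → y ^ 2 = 1 → (x * y) ^ 2 = 1

variable {G : Type*} [Group G]

/-- the subgroup of elements of order dividing `2` -/
def Sq4.inv (h : Sq4 G) : Subgroup G where
  carrier := {x | x ^ 2 = 1}
  mul_mem' := fun {a b} ha hb => h.hN a b ha hb
  one_mem' := one_pow 2
  inv_mem' := fun {x} hx => by
    show (x⁻¹) ^ 2 = 1
    rw [inv_pow, hx, inv_one]

theorem Sq4.mem_inv (h : Sq4 G) (x : G) : x ∈ h.inv ↔ x ^ 2 = 1 := Iff.rfl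

theorem Sq4.sq_mem (h : Sq4 G) (x : G) : x ^ 2 ∈ h.inv := by
  rw [h.mem_inv, ← pow_mul]
  exact h.hexp x

theorem Sq4.comm_mem (h : Sq4 G) (a b : G) : ⁅a, b⁆ ∈ h.inv := by
  rw [commutator_eq_squares]
  exact h.inv.mul_mem (h.inv.mul_mem (h.sq_mem _) (h.sq_mem _)) (h.sq_mem _)

instance Sq4.inv_normal (h : Sq4 G) : h.inv.Normal := by
  constructor
  intro x hx g
  rw [h.mem_inv] at hx ⊢
  rw [pow_two] at hx ⊢
  calc g * x * g⁻¹ * (g * x * g⁻¹) = g * (x * x) * g⁻¹ := by group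
    _ = 1 := by rw [hx]; group

/-- the master inequality -/
theorem Sq4.master [Finite G] (h : Sq4 G) (K S M : Subgroup G)
    (hSN : S ≤ h.inv) (hS2 : ∀ a ∈ K, a ^ 2 ∈ S) (hSc : ∀ a b : G, ⁅a, b⁆ ∈ S)
    (hlt : (M.relIndex S) ^ 2 < h.inv.relIndex K) : ∃ x ∈ K, x ∉ h.inv ∧ x ^ 2 ∈ M := by
  classical
  -- `S` has exponent `2`
  have hSexp : ∀ a : ↥S, a ^ 2 = 1 := fun a => by
    apply Subtype.ext
    exact (h.mem_inv _).1 (hSN a.2)
  have hSp : IsPGroup 2 ↥S := fun a => ⟨1, by rw [pow_one]; exact hSexp a⟩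
  obtain ⟨t, ht⟩ := hSp.index (M.subgroupOf S)
  have hcardS : Nat.card ↥S = 2 ^ t * Nat.card ↥(M.subgroupOf S) := by
    rw [← ht]
    exact (Subgroup.index_mul_card _).symm
  obtain ⟨lam, hlam_add, hlam_ker, -, -⟩ := exists_functionals hSexp (M.subgroupOf S) t hcardS
  -- `K / N` has exponent `2`
  have hNn : (h.inv.subgroupOf K).Normal := (inferInstance : h.inv.Normal).subgroupOf K
  have hEexp : ∀ a : ↥K ⧸ h.inv.subgroupOf K, a ^ 2 = 1 := fun a => by
    obtain ⟨a, rfl⟩ := QuotientGroup.mk_surjective a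
    rw [← QuotientGroup.mk_pow, QuotientGroup.eq_one_iff, Subgroup.mem_subgroupOf]
    exact h.sq_mem _
  have hEp : IsPGroup 2 (↥K ⧸ h.inv.subgroupOf K) := fun a => ⟨1, by rw [pow_one]; exact hEexp a⟩
  obtain ⟨m, hm⟩ := IsPGroup.iff_card.1 hEp
  obtain ⟨y, hy⟩ := exists_independent hEexp m hm
  have hrelK : h.inv.relIndex K = 2 ^ m := by
    rw [← hm]
    exact Subgroup.index_eq_card _
  have htm : 2 * t < m := by
    have h1 : M.relIndex S = 2 ^ t := ht
    rw [h1, hrelK, ← pow_mul] at hlt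
    have := (Nat.pow_lt_pow_iff_right (le_refl 2)).1 hlt
    omega
  -- the functionals on `G`
  have hlam' : ∀ k, AddOn S (fun g => if hg : g ∈ S then lam k ⟨g, hg⟩ else 0) := by
    intro k a ha b hb
    show (if hg : a * b ∈ S then lam k ⟨a * b, hg⟩ else 0) =
      (if hg : a ∈ S then lam k ⟨a, hg⟩ else 0) + (if hg : b ∈ S then lam k ⟨b, hg⟩ else 0)
    rw [dif_pos (S.mul_mem ha hb), dif_pos ha, dif_pos hb]
    exact hlam_add k ⟨a, ha⟩ ⟨b, hb⟩
  -- representatives
  have hxK : ∀ i, ((Quotient.out (y i) : ↥K) : G) ∈ K := fun i => (Quotient.out (y i)).2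
  obtain ⟨ε, hε0, hε⟩ := exists_ne_zero_of_lt h.hc hS2 hSc
    (fun k g => if hg : g ∈ S then lam k ⟨g, hg⟩ else 0) hlam'
    (fun i => ((Quotient.out (y i) : ↥K) : G)) hxK htm
  have hgK : gprod m (fun i => ((Quotient.out (y i) : ↥K) : G)) ε ∈ K := gprod_mem K m _ hxK ε
  refine ⟨_, hgK, ?_, ?_⟩
  · intro hgN
    apply hε0
    apply hy
    have h1 : K.subtype (gprod m (fun i => (Quotient.out (y i) : ↥K)) ε) =
        gprod m (fun i => ((Quotient.out (y i) : ↥K) : G)) ε := map_gprod K.subtype m _ ε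
    have h2 : gprod m (fun i => (Quotient.out (y i) : ↥K)) ε ∈ h.inv.subgroupOf K := by
      rw [Subgroup.mem_subgroupOf]
      have h3 : ((gprod m (fun i => (Quotient.out (y i) : ↥K)) ε : ↥K) : G) =
          gprod m (fun i => ((Quotient.out (y i) : ↥K) : G)) ε := h1
      rw [h3]
      exact hgN
    have h4 := map_gprod (QuotientGroup.mk' (h.inv.subgroupOf K)) m
      (fun i => (Quotient.out (y i) : ↥K)) ε
    have h5 : (fun i => (QuotientGroup.mk' (h.inv.subgroupOf K)) (Quotient.out (y i) : ↥K)) = y := by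
      funext i
      exact Quotient.out_eq' (y i)
    rw [h5] at h4
    rw [← h4]
    exact (QuotientGroup.eq_one_iff _).2 h2
  · have hS := hS2 _ hgK
    have h1 := hlam_ker ⟨_, hS⟩ (fun k => by
      have := hε k
      simp only [dif_pos hS] at this
      exact this)
    exact h1

end Cfsg.Agent.Lib.Helper63
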