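import Mathlib
import Cfsg.Agent.S0110
import Cfsg.Agent.S3781

/-!
Soft subgroups of finite `p`-groups (Héthelyi): helper63's library for S3811.
-/

set_option autoImplicit false
set_option linter.unusedSectionVars false

namespace Cfsg.Agent.Lib.Helper63

open scoped Pointwise commutatorElement

variable {P : Type*} [Group P]

/-- `E` is a soft subgroup of `P`: abelian, self-centralizing, of index `p` in its normalizer and
of index at least `p ^ 2` in `P`. -/
structure Soft (p : ℕ) (E : Subgroup P) : Prop where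
  comm : ∀ a ∈ E, ∀ b ∈ E, a * b = b * a
  cent : Subgroup.centralizer (E : Set P) ≤ E
  nidx : E.relIndex (Subgroup.normalizer (E : Set P)) = p
  idx : p ^ 2 ≤ E.index

theorem mem_conj_smul_iff' (g x : P) (H : Subgroup P) :
    x ∈ MulAut.conj g • H ↔ g⁻¹ * x * g ∈ H := by
  rw [Subgroup.mem_pointwise_smul_iff_inv_smul_mem]
  simp [MulAut.smul_def]

/-- no subgroup strictly between `H` and `L` when the relative index is prime -/
theorem eq_or_eq_of_relIndex_prime {H K L : Subgroup P} {p : ℕ} (hp : p.Prime)
    (hHK : H ≤ K) (hKL : K ≤ L) (h : H.relIndex L = p) : K = H ∨ K = L := by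
  have hmul := Subgroup.relIndex_mul_relIndex H K L hHK hKL
  rw [h] at hmul
  have hdvd : H.relIndex K ∣ p := Dvd.intro _ hmul
  rcases (Nat.dvd_prime hp).1 hdvd with h1 | h1
  · left
    exact le_antisymm (Subgroup.relIndex_eq_one.1 h1) hHK
  · right
    rw [h1] at hmul
    have h2 : K.relIndex L = 1 := by
      have : p * K.relIndex L = p * 1 := by rw [hmul, mul_one]
      exact Nat.eq_of_mul_eq_mul_left hp.pos this
    exact le_antisymm hKL (Subgroup.relIndex_eq_one.1 h2)

section

variable [Finite P] {p : ℕ} [hp : Fact p.Prime]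

theorem Soft.ne_top {E : Subgroup P} (hE : Soft p E) : E ≠ ⊤ := by
  intro h
  have := hE.idx
  rw [h, Subgroup.index_top] at this
  have : 1 < p ^ 2 := Nat.one_lt_pow (by norm_num) hp.out.one_lt
  omega

theorem Soft.normalizer_ne_top {E : Subgroup P} (hE : Soft p E) :
    Subgroup.normalizer (E : Set P) ≠ ⊤ := by
  intro h
  have h1 := hE.nidx
  rw [h, Subgroup.relIndex_top_right] at h1
  have h2 := hE.idx
  rw [h1] at h2
  have : p ^ 1 < p ^ 2 := Nat.pow_lt_pow_right hp.out.one_lt (by norm_num)
  rw [pow_one] at this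
  omega

theorem Soft.normalizer_ne {E : Subgroup P} (hE : Soft p E) :
    Subgroup.normalizer (E : Set P) ≠ E := by
  intro h
  have h1 := hE.nidx
  rw [h, Subgroup.relIndex_self] at h1
  exact hp.out.one_lt.ne h1

/-- every subgroup properly containing a soft subgroup contains its normalizer -/
theorem Soft.normalizer_le_of_lt (hP : IsPGroup p P) {E : Subgroup P} (hE : Soft p E)
    {K : Subgroup P} (hEK : E < K) : Subgroup.normalizer (E : Set P) ≤ K := by
  have hle : E ≤ Subgroup.normalizer (E : Set P) ⊓ K := le_inf Subgroup.le_normalizer hEK.le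
  rcases eq_or_eq_of_relIndex_prime hp.out hle inf_le_left hE.nidx with h | h
  · exfalso
    have hnil : Group.IsNilpotent ↥K := (hP.to_subgroup K).isNilpotent
    have hlt : E.subgroupOf K < ⊤ := by
      rw [lt_top_iff_ne_top, Ne, Subgroup.subgroupOf_eq_top]
      exact not_le_of_gt hEK
    have h1 := Group.normalizerCondition_of_isNilpotent (G := ↥K) (E.subgroupOf K) hlt
    rw [← Subgroup.subgroupOf_normalizer_eq hEK.le] at h1
    have h2 : (Subgroup.normalizer (E : Set P)).subgroupOf K = E.subgroupOf K := by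
      rw [← Subgroup.inf_subgroupOf_right, h]
    rw [h2] at h1
    exact lt_irrefl _ h1
  · rw [← h]
    exact inf_le_right


/-- the core of a soft subgroup is not the whole group, and is nontrivial -/
theorem Soft.center_le_core {E : Subgroup P} (hE : Soft p E) :
    Subgroup.center P ≤ E.normalCore := by
  rw [Subgroup.normal_le_normalCore]
  exact (Subgroup.center_le_centralizer _).trans hE.cent

theorem Soft.core_ne_bot (hP : IsPGroup p P) {E : Subgroup P} (hE : Soft p E) :
    E.normalCore ≠ ⊥ := by
  intro h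
  have hnt : Nontrivial P := by
    by_contra hcon
    rw [not_nontrivial_iff_subsingleton] at hcon
    exact hE.ne_top (Subsingleton.elim _ _)
  have h1 : Subgroup.center P ≠ ⊥ := by
    have := hP.center_nontrivial
    intro h2
    rw [h2] at this
    exact not_nontrivial _ this
  apply h1
  have := hE.center_le_core
  rw [h] at this
  exact le_bot_iff.1 this

/-- an element outside `E` which is central modulo the core of `E` -/
theorem Soft.exists_central_mod_core (hP : IsPGroup p P) {E : Subgroup P} (hE : Soft p E) :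
    ∃ z : P, z ∉ E ∧ ∀ g : P, ⁅z, g⁆ ∈ E.normalCore := by
  have hRE : E.normalCore ≤ E := Subgroup.normalCore_le E
  have hRtop : E.normalCore ≠ ⊤ := fun h => hE.ne_top (top_le_iff.1 (h ▸ hRE))
  have hnt : Nontrivial (P ⧸ E.normalCore) := by
    by_contra hcon
    rw [not_nontrivial_iff_subsingleton] at hcon
    apply hRtop
    rw [eq_top_iff]
    intro x _
    rw [← QuotientGroup.eq_one_iff]
    exact Subsingleton.elim _ _
  have hQ : IsPGroup p (P ⧸ E.normalCore) := hP.to_quotient _
  have hcen : Nontrivial (Subgroup.center (P ⧸ E.normalCore)) := hQ.center_nontrivial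
  by_contra hcon
  push Not at hcon
  -- then the preimage of the centre lies in `E`, hence in the core
  have hY : (Subgroup.center (P ⧸ E.normalCore)).comap (QuotientGroup.mk' E.normalCore) ≤ E := by
    intro y hy
    by_contra hyE
    obtain ⟨g, hg⟩ := hcon y hyE
    apply hg
    rw [← QuotientGroup.eq_one_iff]
    have hy' : (QuotientGroup.mk' E.normalCore) y ∈ Subgroup.center (P ⧸ E.normalCore) := hy
    have h1 := Subgroup.mem_center_iff.1 hy' ((QuotientGroup.mk' E.normalCore) g)
    have h2 : (QuotientGroup.mk' E.normalCore) ⁅y, g⁆ = 1 := by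
      rw [map_commutatorElement, commutatorElement_eq_one_iff_mul_comm]
      exact h1.symm
    exact h2
  have hYn : ((Subgroup.center (P ⧸ E.normalCore)).comap
      (QuotientGroup.mk' E.normalCore)).Normal := inferInstance
  have hYR := Subgroup.normal_le_normalCore.2 hY
  obtain ⟨⟨c, hc⟩, hc1⟩ := exists_ne (1 : Subgroup.center (P ⧸ E.normalCore))
  obtain ⟨y, rfl⟩ := QuotientGroup.mk'_surjective E.normalCore c
  apply hc1
  apply Subtype.ext
  have : y ∈ E.normalCore := hYR hc
  exact (QuotientGroup.eq_one_iff y).2 this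


theorem Soft.mem_normalizer_of_central_mod_core {E : Subgroup P} (hE : Soft p E) {z : P}
    (hz : ∀ g : P, ⁅z, g⁆ ∈ E.normalCore) : z ∈ Subgroup.normalizer (E : Set P) := by
  apply Subgroup.mem_normalizer_fintype
  intro e he
  have h1 : ⁅z, e⁆ ∈ E := Subgroup.normalCore_le E (hz e)
  have h2 : z * e * z⁻¹ = ⁅z, e⁆ * e := by simp [commutatorElement_def]
  rw [h2]
  exact E.mul_mem h1 he

theorem Soft.normalizer_eq_sup {E : Subgroup P} (hE : Soft p E) {z : P} (hzE : z ∉ E)
    (hz : ∀ g : P, ⁅z, g⁆ ∈ E.normalCore) :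
    Subgroup.normalizer (E : Set P) = E ⊔ Subgroup.zpowers z := by
  have hzN := hE.mem_normalizer_of_central_mod_core hz
  have h1 : E ≤ E ⊔ Subgroup.zpowers z := le_sup_left
  have h2 : E ⊔ Subgroup.zpowers z ≤ Subgroup.normalizer (E : Set P) :=
    sup_le Subgroup.le_normalizer (Subgroup.zpowers_le.2 hzN)
  rcases eq_or_eq_of_relIndex_prime hp.out h1 h2 hE.nidx with h | h
  · exfalso
    apply hzE
    have : z ∈ E ⊔ Subgroup.zpowers z :=
      (le_sup_right : Subgroup.zpowers z ≤ E ⊔ Subgroup.zpowers z) (Subgroup.mem_zpowers z)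
    rwa [h] at this
  · exact h.symm

/-- commutators with an element central modulo `R` lie in `R` -/
theorem zpowers_commutator_le {R : Subgroup P} [R.Normal] {z : P} (hz : ∀ g : P, ⁅z, g⁆ ∈ R)
    (L : Subgroup P) : ⁅Subgroup.zpowers z, L⁆ ≤ R := by
  have hzc : (QuotientGroup.mk' R) z ∈ Subgroup.center (P ⧸ R) := by
    rw [Subgroup.mem_center_iff]
    intro g
    obtain ⟨g, rfl⟩ := QuotientGroup.mk'_surjective R g
    have h1 : (QuotientGroup.mk' R) ⁅z, g⁆ = 1 := (QuotientGroup.eq_one_iff _).2 (hz g)
    rw [map_commutatorElement, commutatorElement_eq_one_iff_mul_comm] at h1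
    exact h1.symm
  have hle : Subgroup.zpowers z ≤ (Subgroup.center (P ⧸ R)).comap (QuotientGroup.mk' R) :=
    Subgroup.zpowers_le.2 hzc
  rw [Subgroup.commutator_le]
  intro a ha b _
  have ha' : (QuotientGroup.mk' R) a ∈ Subgroup.center (P ⧸ R) := hle ha
  rw [← QuotientGroup.eq_one_iff]
  have h1 := Subgroup.mem_center_iff.1 ha' ((QuotientGroup.mk' R) b)
  have h2 : (QuotientGroup.mk' R) ⁅a, b⁆ = 1 := by
    rw [map_commutatorElement, commutatorElement_eq_one_iff_mul_comm]
    exact h1.symm
  exact h2

theorem Soft.commutator_self_eq_bot {E : Subgroup P} (hE : Soft p E) : ⁅E, E⁆ = ⊥ := by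
  rw [eq_bot_iff, Subgroup.commutator_le]
  intro a ha b hb
  rw [Subgroup.mem_bot, commutatorElement_eq_one_iff_mul_comm]
  exact hE.comm a ha b hb

theorem Soft.commutator_normalizer_le_core {E : Subgroup P} (hE : Soft p E) {z : P} (hzE : z ∉ E)
    (hz : ∀ g : P, ⁅z, g⁆ ∈ E.normalCore) :
    ⁅Subgroup.normalizer (E : Set P), Subgroup.normalizer (E : Set P)⁆ ≤ E.normalCore := by
  rw [hE.normalizer_eq_sup hzE hz]
  apply Cfsg.Agent.S3781.sup_commutator_le
  · rw [Subgroup.commutator_comm]
    apply Cfsg.Agent.S3781.sup_commutator_le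
    · rw [hE.commutator_self_eq_bot]; exact bot_le
    · exact zpowers_commutator_le hz _
  · exact zpowers_commutator_le hz _

end

end Cfsg.Agent.Lib.Helper63
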