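import Cfsg.Agent.Lib.Helper63.Soft

/-!
Soft subgroups (continued): the second normalizer has index `p` over the first.
-/

set_option autoImplicit false
set_option linter.unusedSectionVars false

namespace Cfsg.Agent.Lib.Helper63

open scoped Pointwise commutatorElement

section general

variable {G : Type*} [Group G] [Finite G] {p : ℕ} [hp : Fact p.Prime]

/-- an element of a normal subgroup of order at most `p ^ 2` has a centralizer of index at most `p` -/
theorem index_centralizer_le_of_card_le (hG : IsPGroup p G) (V : Subgroup G) [hV' : V.Normal]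
    (hV : Nat.card V ≤ p ^ 2) {u : G} (hu : u ∈ V) :
    (Subgroup.centralizer ({u} : Set G)).index ≤ p := by
  by_cases h1 : u = 1
  · subst h1
    have : Subgroup.centralizer ({1} : Set G) = ⊤ := by
      rw [eq_top_iff]
      intro g _
      rw [Subgroup.mem_centralizer_iff]
      intro h hh
      rw [Set.mem_singleton_iff] at hh
      subst hh
      simp
    rw [this, Subgroup.index_top]
    exact hp.out.one_lt.le
  · have hcomm : ∀ g : G, g * u * g⁻¹ * u⁻¹ ∈ V := fun g =>
      V.mul_mem (hV'.conj_mem u hu g) (V.inv_mem hu)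
    have h2 := (Cfsg.Agent.S0110.index_centralizer_le V u hcomm).2 hu h1
    obtain ⟨n, hn⟩ := hG.index (Subgroup.centralizer ({u} : Set G))
    rw [hn] at h2 ⊢
    have h3 : p ^ n < p ^ 2 := lt_of_lt_of_le h2 hV
    have h4 : n < 2 := (Nat.pow_lt_pow_iff_right hp.out.one_lt).1 h3
    calc p ^ n ≤ p ^ 1 := Nat.pow_le_pow_right hp.out.pos (by omega)
      _ = p := pow_one p

theorem exists_index_le_of_relIndex_le (hG : IsPGroup p G) (Z V : Subgroup G) [Z.Normal]
    [hVn : V.Normal] (hZV : Z.relIndex V ≤ p ^ 2) {u : G} (hu : u ∈ V) :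
    ∃ C : Subgroup G, C.index ≤ p ∧ ∀ g ∈ C, ⁅g, u⁆ ∈ Z := by
  have hsurj : Function.Surjective (QuotientGroup.mk' Z) := QuotientGroup.mk'_surjective Z
  have hVn' : (V.map (QuotientGroup.mk' Z)).Normal := hVn.map _ hsurj
  have hcard : Nat.card (V.map (QuotientGroup.mk' Z)) ≤ p ^ 2 := by
    rw [← Subgroup.relIndex_ker, QuotientGroup.ker_mk']
    exact hZV
  have hQ : IsPGroup p (G ⧸ Z) := hG.to_quotient Z
  have h1 := index_centralizer_le_of_card_le hQ (V.map (QuotientGroup.mk' Z)) hcard
    (Subgroup.mem_map_of_mem (QuotientGroup.mk' Z) hu)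
  refine ⟨(Subgroup.centralizer ({(QuotientGroup.mk' Z) u} : Set (G ⧸ Z))).comap
    (QuotientGroup.mk' Z), ?_, ?_⟩
  · rw [Subgroup.index_comap_of_surjective _ hsurj]
    exact h1
  · intro g hg
    rw [Subgroup.mem_comap, Subgroup.mem_centralizer_iff] at hg
    have h2 := hg ((QuotientGroup.mk' Z) u) rfl
    rw [← QuotientGroup.eq_one_iff]
    show (QuotientGroup.mk' Z) ⁅g, u⁆ = 1
    rw [map_commutatorElement, commutatorElement_eq_one_iff_mul_comm]
    exact h2.symm

end general

variable {P : Type*} [Group P]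

theorem conj_smul_eq_of_mem_normalizer {H : Subgroup P} {g : P}
    (hg : g ∈ Subgroup.normalizer (H : Set P)) : MulAut.conj g • H = H := by
  ext x
  rw [mem_conj_smul_iff']
  have h1 := (Subgroup.mem_normalizer_iff.1 hg) (g⁻¹ * x * g)
  rw [h1]
  have h2 : g * (g⁻¹ * x * g) * g⁻¹ = x := by group
  rw [h2]

theorem mem_normalizer_of_conj_smul_eq [Finite P] {H : Subgroup P} {g : P}
    (hg : MulAut.conj g • H = H) : g ∈ Subgroup.normalizer (H : Set P) := by
  apply Subgroup.mem_normalizer_fintype
  intro e he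
  have h3 : g * e * g⁻¹ ∈ MulAut.conj g • H := by
    rw [mem_conj_smul_iff']
    have h2 : g⁻¹ * (g * e * g⁻¹) * g = e := by group
    rw [h2]
    exact he
  rw [hg] at h3
  exact h3

section key

variable [Finite P] {p : ℕ} [hp : Fact p.Prime]

theorem Soft.conj_le {E : Subgroup P} (hE : Soft p E) {y : P}
    (hy : y ∈ Subgroup.normalizer ((Subgroup.normalizer (E : Set P) : Subgroup P) : Set P)) :
    MulAut.conj y • E ≤ Subgroup.normalizer (E : Set P) := by
  have h1 : MulAut.conj y • E ≤ MulAut.conj y • Subgroup.normalizer (E : Set P) :=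
    Subgroup.pointwise_smul_le_pointwise_smul_iff.2 Subgroup.le_normalizer
  rwa [conj_smul_eq_of_mem_normalizer hy] at h1

theorem Soft.conj_relIndex {E : Subgroup P} (hE : Soft p E) {y : P}
    (hy : y ∈ Subgroup.normalizer ((Subgroup.normalizer (E : Set P) : Subgroup P) : Set P)) :
    (MulAut.conj y • E).relIndex (Subgroup.normalizer (E : Set P)) = p := by
  have h1 := Subgroup.relIndex_pointwise_smul (MulAut.conj y) E (Subgroup.normalizer (E : Set P))
  rw [conj_smul_eq_of_mem_normalizer hy, hE.nidx] at h1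
  exact h1

omit [Finite P] in
theorem sup_eq_of_relIndex_prime {E E' N : Subgroup P} (hEN : E ≤ N) (hE'N : E' ≤ N)
    (h1 : E.relIndex N = p) (h2 : E'.relIndex N = p) (hne : E' ≠ E) : E ⊔ E' = N := by
  have hle1 : E ≤ E ⊔ E' := le_sup_left
  have hle2 : E ⊔ E' ≤ N := sup_le hEN hE'N
  rcases eq_or_eq_of_relIndex_prime hp.out hle1 hle2 h1 with h | h
  · exfalso
    have hle : E' ≤ E := le_trans le_sup_right h.le
    have h3 := Subgroup.relIndex_mul_relIndex E' E N hle hEN
    rw [h1, h2] at h3
    have h4 : E'.relIndex E = 1 := by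
      have : E'.relIndex E * p = 1 * p := by rw [h3, one_mul]
      exact Nat.eq_of_mul_eq_mul_right hp.out.pos this
    exact hne (le_antisymm hle (Subgroup.relIndex_eq_one.1 h4))
  · exact h

omit [Finite P] hp in
theorem inf_le_centralizer_sup {E E' : Subgroup P} (hE : ∀ a ∈ E, ∀ b ∈ E, a * b = b * a)
    (hE' : ∀ a ∈ E', ∀ b ∈ E', a * b = b * a) :
    E ⊓ E' ≤ Subgroup.centralizer ((E ⊔ E' : Subgroup P) : Set P) := by
  intro x hx
  have hcl : E ⊔ E' ≤ Subgroup.centralizer ({x} : Set P) := by
    apply sup_le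
    · intro e he
      rw [Subgroup.mem_centralizer_iff]
      intro t ht
      rw [Set.mem_singleton_iff] at ht
      subst ht
      exact hE t hx.1 e he
    · intro e he
      rw [Subgroup.mem_centralizer_iff]
      intro t ht
      rw [Set.mem_singleton_iff] at ht
      subst ht
      exact hE' t hx.2 e he
  rw [Subgroup.mem_centralizer_iff]
  intro n hn
  exact (Subgroup.mem_centralizer_iff.1 (hcl hn) x rfl).symm

omit [Finite P] hp in
theorem conj_smul_comm {E : Subgroup P} (hE : ∀ a ∈ E, ∀ b ∈ E, a * b = b * a) (y : P) :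
    ∀ a ∈ MulAut.conj y • E, ∀ b ∈ MulAut.conj y • E, a * b = b * a := by
  intro t ht e he
  have h1 := (mem_conj_smul_iff' y e E).1 he
  have h2 := (mem_conj_smul_iff' y t E).1 ht
  have h3 := hE _ h2 _ h1
  have h4 : y⁻¹ * (t * e) * y = y⁻¹ * (e * t) * y := by
    calc y⁻¹ * (t * e) * y = (y⁻¹ * t * y) * (y⁻¹ * e * y) := by group
      _ = (y⁻¹ * e * y) * (y⁻¹ * t * y) := h3
      _ = y⁻¹ * (e * t) * y := by group
  exact mul_left_cancel (mul_right_cancel h4)

theorem Soft.conj_sup {E : Subgroup P} (hE : Soft p E) {y : P}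
    (hy : y ∈ Subgroup.normalizer ((Subgroup.normalizer (E : Set P) : Subgroup P) : Set P))
    (hne : MulAut.conj y • E ≠ E) :
    E ⊔ MulAut.conj y • E = Subgroup.normalizer (E : Set P) :=
  sup_eq_of_relIndex_prime Subgroup.le_normalizer (hE.conj_le hy) hE.nidx (hE.conj_relIndex hy) hne

theorem Soft.conj_inf_le {E : Subgroup P} (hE : Soft p E) {y : P}
    (hy : y ∈ Subgroup.normalizer ((Subgroup.normalizer (E : Set P) : Subgroup P) : Set P))
    (hne : MulAut.conj y • E ≠ E) :
    E ⊓ MulAut.conj y • E ≤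
      Subgroup.centralizer ((Subgroup.normalizer (E : Set P) : Subgroup P) : Set P) := by
  have h1 := inf_le_centralizer_sup hE.comm (conj_smul_comm hE.comm y)
  rw [hE.conj_sup hy hne] at h1
  exact h1

/-- the second normalizer of a soft subgroup has index `p` over the first -/
theorem Soft.relIndex_normalizer_normalizer (hP : IsPGroup p P) {E : Subgroup P} (hE : Soft p E) :
    (Subgroup.normalizer (E : Set P)).relIndex
      (Subgroup.normalizer ((Subgroup.normalizer (E : Set P) : Subgroup P) : Set P)) = p := by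
  have hEN : E ≤ Subgroup.normalizer (E : Set P) := Subgroup.le_normalizer
  have hNN : Subgroup.normalizer (E : Set P) ≤
      Subgroup.normalizer ((Subgroup.normalizer (E : Set P) : Subgroup P) : Set P) :=
    Subgroup.le_normalizer
  have hZE : Subgroup.centralizer ((Subgroup.normalizer (E : Set P) : Subgroup P) : Set P) ≤ E :=
    (Subgroup.centralizer_le hEN).trans hE.cent
  have hnil : Group.IsNilpotent P := hP.isNilpotent
  have hlt : Subgroup.normalizer (E : Set P) <
      Subgroup.normalizer ((Subgroup.normalizer (E : Set P) : Subgroup P) : Set P) :=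
    Group.normalizerCondition_of_isNilpotent _ (lt_top_iff_ne_top.2 hE.normalizer_ne_top)
  obtain ⟨y, hyN₂, hyN₁⟩ := SetLike.exists_of_lt hlt
  have hne : MulAut.conj y • E ≠ E := fun h => hyN₁ (mem_normalizer_of_conj_smul_eq h)
  have hinf := hE.conj_inf_le hyN₂ hne
  have hfin : ∀ H K : Subgroup P, H.relIndex K ≠ 0 := fun H K => by
    unfold Subgroup.relIndex
    exact Subgroup.index_ne_zero_of_finite
  have h4 : (Subgroup.centralizer
      ((Subgroup.normalizer (E : Set P) : Subgroup P) : Set P)).relIndex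
      (Subgroup.normalizer (E : Set P)) ≤ p ^ 2 := by
    generalize hE' : MulAut.conj y • E = E' at hinf
    have hrel : E'.relIndex (Subgroup.normalizer (E : Set P)) = p := by
      rw [← hE']
      exact hE.conj_relIndex hyN₂
    have h1 : (E ⊓ E').relIndex E = E'.relIndex E := by
      rw [inf_comm]
      exact Subgroup.inf_relIndex_right E' E
    have h2 : E'.relIndex E ≤ p := by
      have := Subgroup.relIndex_le_of_le_right (H := E') hEN (hfin _ _)
      rwa [hrel] at this
    have h3 : (E ⊓ E').relIndex (Subgroup.normalizer (E : Set P)) ≤ p ^ 2 := by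
      rw [← Subgroup.relIndex_mul_relIndex (E ⊓ E') E _ inf_le_left hEN, h1, hE.nidx, sq]
      exact Nat.mul_le_mul_right p h2
    exact (Subgroup.relIndex_le_of_le_left hinf (hfin _ _)).trans h3
  -- an element of `E` outside the centre of the normalizer
  have hex : ∃ e₀ ∈ E, e₀ ∉ Subgroup.centralizer
      ((Subgroup.normalizer (E : Set P) : Subgroup P) : Set P) := by
    by_contra hcon
    push Not at hcon
    have hle : Subgroup.normalizer (E : Set P) ≤ E := by
      intro n hn
      apply hE.cent
      rw [Subgroup.mem_centralizer_iff]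
      intro e he
      exact (Subgroup.mem_centralizer_iff.1 (hcon e he) n hn).symm
    exact hE.normalizer_ne (le_antisymm hle hEN)
  obtain ⟨e₀, he₀E, he₀Z⟩ := hex
  have hPN₂ : IsPGroup p
      ↥(Subgroup.normalizer ((Subgroup.normalizer (E : Set P) : Subgroup P) : Set P)) :=
    hP.to_subgroup _
  obtain ⟨C, hCidx, hC⟩ := exists_index_le_of_relIndex_le hPN₂
    ((Subgroup.centralizer ((Subgroup.normalizer (E : Set P) : Subgroup P) : Set P)).subgroupOf
      (Subgroup.normalizer ((Subgroup.normalizer (E : Set P) : Subgroup P) : Set P)))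
    ((Subgroup.normalizer (E : Set P)).subgroupOf
      (Subgroup.normalizer ((Subgroup.normalizer (E : Set P) : Subgroup P) : Set P)))
    (by rw [Subgroup.relIndex_subgroupOf hNN]; exact h4)
    (u := ⟨e₀, hNN (hEN he₀E)⟩) (by rw [Subgroup.mem_subgroupOf]; exact hEN he₀E)
  have hCle : C ≤ (Subgroup.normalizer (E : Set P)).subgroupOf
      (Subgroup.normalizer ((Subgroup.normalizer (E : Set P) : Subgroup P) : Set P)) := by
    intro g hg
    rw [Subgroup.mem_subgroupOf]
    have h5 := hC g hg
    rw [Subgroup.mem_subgroupOf] at h5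
    have h6 : ⁅(g : P), e₀⁆ ∈ Subgroup.centralizer
        ((Subgroup.normalizer (E : Set P) : Subgroup P) : Set P) := by
      simpa [commutatorElement_def] using h5
    by_contra hgN
    have hginv : (g : P)⁻¹ ∈
        Subgroup.normalizer ((Subgroup.normalizer (E : Set P) : Subgroup P) : Set P) :=
      Subgroup.inv_mem _ g.2
    have hne' : MulAut.conj (g : P)⁻¹ • E ≠ E := by
      intro h
      apply hgN
      have := mem_normalizer_of_conj_smul_eq h
      simpa using Subgroup.inv_mem _ this
    have h7 := hE.conj_inf_le hginv hne'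
    apply he₀Z
    apply h7
    have h10 : e₀ ∈ MulAut.conj (g : P)⁻¹ • E := by
      rw [mem_conj_smul_iff']
      have h8 : ((g : P)⁻¹)⁻¹ * e₀ * (g : P)⁻¹ = ⁅(g : P), e₀⁆ * e₀ := by
        simp [commutatorElement_def]
      rw [h8]
      exact E.mul_mem (hZE h6) he₀E
    exact Subgroup.mem_inf.2 ⟨he₀E, h10⟩
  have h9 : (Subgroup.normalizer (E : Set P)).relIndex
      (Subgroup.normalizer ((Subgroup.normalizer (E : Set P) : Subgroup P) : Set P)) ≤ p := by
    have hdvd := Subgroup.index_dvd_of_le hCle
    have hC0 : C.index ≠ 0 := Subgroup.index_ne_zero_of_finite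
    exact (Nat.le_of_dvd (Nat.pos_of_ne_zero hC0) hdvd).trans hCidx
  obtain ⟨n, hn⟩ := hPN₂.index ((Subgroup.normalizer (E : Set P)).subgroupOf
      (Subgroup.normalizer ((Subgroup.normalizer (E : Set P) : Subgroup P) : Set P)))
  have hn' : (Subgroup.normalizer (E : Set P)).relIndex
      (Subgroup.normalizer ((Subgroup.normalizer (E : Set P) : Subgroup P) : Set P)) = p ^ n := hn
  rw [hn'] at h9 ⊢
  have hn1 : n ≠ 0 := by
    intro h0
    rw [h0, pow_zero] at hn'
    exact not_le_of_gt hlt (Subgroup.relIndex_eq_one.1 hn')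
  have hn2 : n ≤ 1 := by
    by_contra hcon
    push Not at hcon
    have : p ^ 2 ≤ p ^ n := Nat.pow_le_pow_right hp.out.pos hcon
    have : p < p ^ 2 := by
      calc p = p ^ 1 := (pow_one p).symm
        _ < p ^ 2 := Nat.pow_lt_pow_right hp.out.one_lt (by norm_num)
    omega
  have : n = 1 := by omega
  rw [this, pow_one]

end key

end Cfsg.Agent.Lib.Helper63
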