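import Cfsg.Agent.Lib.Helper63.Soft2

/-!
Soft subgroups (continued): transfer along a quotient map, and the normalizer of a soft subgroup is
soft modulo the core.
-/

set_option autoImplicit false
set_option linter.unusedSectionVars false

namespace Cfsg.Agent.Lib.Helper63

open scoped Pointwise commutatorElement

section transfer

variable {P Q : Type*} [Group P] [Group Q] {f : P →* Q}

theorem map_normalizer_eq_of_ker_le (hf : Function.Surjective f) {K : Subgroup P}
    (hK : f.ker ≤ K) :
    Subgroup.normalizer ((K.map f : Subgroup Q) : Set Q) =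
      (Subgroup.normalizer (K : Set P)).map f := by
  have h1 := Subgroup.comap_normalizer_eq_of_surjective (K.map f) hf
  rw [Subgroup.comap_map_eq_self hK] at h1
  rw [← h1, Subgroup.map_comap_eq_self_of_surjective hf]

theorem relIndex_map_map_of_ker_le {K L : Subgroup P} (hK : f.ker ≤ K) (hL : f.ker ≤ L) :
    (K.map f).relIndex (L.map f) = K.relIndex L := by
  rw [Subgroup.relIndex_map_map, sup_eq_left.2 hK, sup_eq_left.2 hL]

theorem map_le_map_of_ker_le {K L : Subgroup P} (hL : f.ker ≤ L) :
    K.map f ≤ L.map f ↔ K ≤ L := by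
  rw [Subgroup.map_le_map_iff, sup_eq_left.2 hL]

theorem map_eq_top_of_ker_le (hf : Function.Surjective f) {K : Subgroup P} (hK : f.ker ≤ K) :
    K.map f = ⊤ ↔ K = ⊤ := by
  constructor
  · intro h
    have := Subgroup.comap_map_eq_self hK
    rw [h, Subgroup.comap_top] at this
    exact this.symm
  · intro h
    rw [h]
    exact Subgroup.map_top_of_surjective f hf

end transfer

section quot

variable {P : Type*} [Group P] [Finite P] {p : ℕ} [hp : Fact p.Prime]

/-- modulo the core of a soft subgroup `E`, the normalizer of `E` is again soft (when it has index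
at least `p ^ 2`). -/
theorem Soft.map_normalizer (hP : IsPGroup p P) {E : Subgroup P} (hE : Soft p E)
    (hidx : p ^ 2 ≤ (Subgroup.normalizer (E : Set P)).index) :
    Soft p ((Subgroup.normalizer (E : Set P)).map (QuotientGroup.mk' E.normalCore)) := by
  obtain ⟨z, hzE, hz⟩ := hE.exists_central_mod_core hP
  have hcomm := hE.commutator_normalizer_le_core hzE hz
  have hsurj : Function.Surjective (QuotientGroup.mk' E.normalCore) :=
    QuotientGroup.mk'_surjective E.normalCore
  have hker : (QuotientGroup.mk' E.normalCore).ker = E.normalCore :=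
    QuotientGroup.ker_mk' E.normalCore
  have hRE : E.normalCore ≤ E := Subgroup.normalCore_le E
  have hRN : (QuotientGroup.mk' E.normalCore).ker ≤ Subgroup.normalizer (E : Set P) := by
    rw [hker]
    exact hRE.trans Subgroup.le_normalizer
  refine ⟨?_, ?_, ?_, ?_⟩
  · rintro a ⟨x, hx, rfl⟩ b ⟨y, hy, rfl⟩
    have h1 : ⁅x, y⁆ ∈ E.normalCore := hcomm (Subgroup.commutator_mem_commutator hx hy)
    have h2 : (QuotientGroup.mk' E.normalCore) ⁅x, y⁆ = 1 := (QuotientGroup.eq_one_iff _).2 h1
    rw [map_commutatorElement, commutatorElement_eq_one_iff_mul_comm] at h2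
    exact h2
  · intro c hc
    obtain ⟨x, rfl⟩ := hsurj c
    refine Subgroup.mem_map_of_mem _ ?_
    apply Subgroup.mem_normalizer_fintype
    intro e he
    have h1 : (QuotientGroup.mk' E.normalCore) e ∈
        (Subgroup.normalizer (E : Set P)).map (QuotientGroup.mk' E.normalCore) :=
      Subgroup.mem_map_of_mem _ (Subgroup.le_normalizer he)
    have h2 := Subgroup.mem_centralizer_iff.1 hc _ h1
    have h3 : (QuotientGroup.mk' E.normalCore) ⁅x, e⁆ = 1 := by
      rw [map_commutatorElement, commutatorElement_eq_one_iff_mul_comm]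
      exact h2.symm
    have h4 : ⁅x, e⁆ ∈ E.normalCore := (QuotientGroup.eq_one_iff _).1 h3
    have h5 : x * e * x⁻¹ = ⁅x, e⁆ * e := by simp [commutatorElement_def]
    rw [h5]
    exact E.mul_mem (hRE h4) he
  · rw [map_normalizer_eq_of_ker_le hsurj hRN,
      relIndex_map_map_of_ker_le hRN (hRN.trans Subgroup.le_normalizer)]
    exact hE.relIndex_normalizer_normalizer hP
  · rw [Subgroup.index_map_eq _ hsurj hRN]
    exact hidx

theorem Soft.card_quotient_core_lt (hP : IsPGroup p P) {E : Subgroup P} (hE : Soft p E) :
    Nat.card (P ⧸ E.normalCore) < Nat.card P := by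
  have h1 := Subgroup.card_eq_card_quotient_mul_card_subgroup E.normalCore
  have h2 : 1 < Nat.card E.normalCore := by
    rw [Finite.one_lt_card_iff_nontrivial]
    rw [Subgroup.nontrivial_iff_ne_bot]
    exact hE.core_ne_bot hP
  have h3 : 0 < Nat.card (P ⧸ E.normalCore) := Nat.card_pos
  rw [h1]
  nlinarith

end quot

end Cfsg.Agent.Lib.Helper63
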