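import Cfsg.Agent.Lib.Helper63.Soft3

/-!
Soft subgroups (continued): the overgroups of a soft subgroup form a chain with steps of index `p`,
and upper bounds for the nilpotency classes.
-/

set_option autoImplicit false
set_option linter.unusedSectionVars false

namespace Cfsg.Agent.Lib.Helper63

open scoped Pointwise commutatorElement

universe u

/-- the conclusions proved by induction on the order of the group -/
def ChainProp (p : ℕ) {P : Type*} [Group P] (E : Subgroup P) : Prop :=
  (∀ K L : Subgroup P, E ≤ K → E ≤ L → K ≤ L ∨ L ≤ K) ∧
  (∀ K : Subgroup P, E ≤ K → K ≠ ⊤ → K.relIndex (Subgroup.normalizer (K : Set P)) = p) ∧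
  (∀ (i : ℕ) (K : Subgroup P), E ≤ K → K ≠ ⊤ → E.relIndex K = p ^ i →
    K.lowerCentralSeries (i + 1) = ⊥)

section

variable {p : ℕ} [hp : Fact p.Prime]

theorem Soft.eq_or_normalizer_le {P : Type*} [Group P] [Finite P] (hP : IsPGroup p P)
    {E : Subgroup P} (hE : Soft p E) {K : Subgroup P} (hEK : E ≤ K) :
    K = E ∨ Subgroup.normalizer (E : Set P) ≤ K := by
  rcases eq_or_lt_of_le hEK with h | h
  · left
    exact h.symm
  · right
    exact hE.normalizer_le_of_lt hP h

theorem Soft.chainProp_aux (n : ℕ) : ∀ (P : Type u) [Group P] [Finite P] (_ : IsPGroup p P)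
    (E : Subgroup P), Soft p E → Nat.card P ≤ n → ChainProp p E := by
  induction n with
  | zero =>
    intro P _ _ hP E hE hn
    have := Nat.card_pos (α := P)
    omega
  | succ n ih =>
    intro P _ _ hP E hE hn
    obtain ⟨z, hzE, hz⟩ := hE.exists_central_mod_core hP
    have hcomm := hE.commutator_normalizer_le_core hzE hz
    have hsurj : Function.Surjective (QuotientGroup.mk' E.normalCore) :=
      QuotientGroup.mk'_surjective E.normalCore
    have hker : (QuotientGroup.mk' E.normalCore).ker = E.normalCore :=
      QuotientGroup.ker_mk' E.normalCore
    have hRE : E.normalCore ≤ E := Subgroup.normalCore_le E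
    have hEN : E ≤ Subgroup.normalizer (E : Set P) := Subgroup.le_normalizer
    have hRN : (QuotientGroup.mk' E.normalCore).ker ≤ Subgroup.normalizer (E : Set P) := by
      rw [hker]
      exact hRE.trans hEN
    have hnil : Group.IsNilpotent P := hP.isNilpotent
    have key : (∀ K L : Subgroup P, Subgroup.normalizer (E : Set P) ≤ K →
          Subgroup.normalizer (E : Set P) ≤ L → K ≤ L ∨ L ≤ K) ∧
        (∀ K : Subgroup P, Subgroup.normalizer (E : Set P) ≤ K → K ≠ ⊤ →
          K.relIndex (Subgroup.normalizer (K : Set P)) = p) ∧
        (∀ (j : ℕ) (K : Subgroup P), Subgroup.normalizer (E : Set P) ≤ K → K ≠ ⊤ →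
          (Subgroup.normalizer (E : Set P)).relIndex K = p ^ j →
          K.lowerCentralSeries (j + 1) ≤ E.normalCore) := by
      obtain ⟨k, hk⟩ := hP.index (Subgroup.normalizer (E : Set P))
      have hk0 : k ≠ 0 := by
        intro h
        rw [h, pow_zero] at hk
        exact hE.normalizer_ne_top (Subgroup.index_eq_one.1 hk)
      by_cases hk1 : k = 1
      · -- the normalizer is maximal
        have hidxp : (Subgroup.normalizer (E : Set P)).index = p := by
          rw [hk, hk1, pow_one]
        have hdich : ∀ K : Subgroup P, Subgroup.normalizer (E : Set P) ≤ K →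
            K = Subgroup.normalizer (E : Set P) ∨ K = ⊤ := fun K hK =>
          eq_or_eq_of_relIndex_prime hp.out hK le_top
            (by rw [Subgroup.relIndex_top_right]; exact hidxp)
        refine ⟨?_, ?_, ?_⟩
        · intro K L hK hL
          rcases hdich K hK with h | h
          · left
            rw [h]
            exact hL
          · right
            rw [h]
            exact le_top
        · intro K hK hKtop
          rcases hdich K hK with h | h
          · rw [h]
            have hlt : Subgroup.normalizer (E : Set P) <
                Subgroup.normalizer ((Subgroup.normalizer (E : Set P) : Subgroup P) : Set P) :=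
              Group.normalizerCondition_of_isNilpotent _
                (lt_top_iff_ne_top.2 hE.normalizer_ne_top)
            rcases hdich _ Subgroup.le_normalizer with h' | h'
            · exact absurd h' hlt.ne'
            · rw [h', Subgroup.relIndex_top_right]
              exact hidxp
          · exact absurd h hKtop
        · intro j K hK hKtop _
          rcases hdich K hK with h | h
          · rw [h]
            calc (Subgroup.normalizer (E : Set P)).lowerCentralSeries (j + 1)
                ≤ (Subgroup.normalizer (E : Set P)).lowerCentralSeries 1 :=
                  Subgroup.lowerCentralSeries_antitone _ (by omega)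
              _ ≤ E.normalCore := hcomm
          · exact absurd h hKtop
      · -- pass to the quotient by the core
        have hk2 : 2 ≤ k := by omega
        have hidx2 : p ^ 2 ≤ (Subgroup.normalizer (E : Set P)).index := by
          rw [hk]
          exact Nat.pow_le_pow_right hp.out.pos hk2
        have hsoft := hE.map_normalizer hP hidx2
        have hcard := hE.card_quotient_core_lt hP
        have hQ : IsPGroup p (P ⧸ E.normalCore) := hP.to_quotient _
        obtain ⟨ha, hb, hc⟩ := ih (P ⧸ E.normalCore) hQ _ hsoft (by omega)
        refine ⟨?_, ?_, ?_⟩
        · intro K L hK hL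
          have hKr : (QuotientGroup.mk' E.normalCore).ker ≤ K := hRN.trans hK
          have hLr : (QuotientGroup.mk' E.normalCore).ker ≤ L := hRN.trans hL
          rcases ha (K.map (QuotientGroup.mk' E.normalCore))
            (L.map (QuotientGroup.mk' E.normalCore))
            (Subgroup.map_mono hK) (Subgroup.map_mono hL) with h | h
          · left
            exact (map_le_map_of_ker_le hLr).1 h
          · right
            exact (map_le_map_of_ker_le hKr).1 h
        · intro K hK hKtop
          have hKr : (QuotientGroup.mk' E.normalCore).ker ≤ K := hRN.trans hK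
          have h1 := hb (K.map (QuotientGroup.mk' E.normalCore)) (Subgroup.map_mono hK)
            (fun h => hKtop ((map_eq_top_of_ker_le hsurj hKr).1 h))
          rw [map_normalizer_eq_of_ker_le hsurj hKr,
            relIndex_map_map_of_ker_le hKr (hKr.trans Subgroup.le_normalizer)] at h1
          exact h1
        · intro j K hK hKtop hj
          have hKr : (QuotientGroup.mk' E.normalCore).ker ≤ K := hRN.trans hK
          have h1 := hc j (K.map (QuotientGroup.mk' E.normalCore)) (Subgroup.map_mono hK)
            (fun h => hKtop ((map_eq_top_of_ker_le hsurj hKr).1 h))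
            (by rw [relIndex_map_map_of_ker_le hRN hKr]; exact hj)
          rw [← Subgroup.map_lowerCentralSeries, Subgroup.map_eq_bot_iff, hker] at h1
          exact h1
    obtain ⟨ka, kb, kc⟩ := key
    have hA : ∀ K L : Subgroup P, E ≤ K → E ≤ L → K ≤ L ∨ L ≤ K := by
      intro K L hK hL
      rcases hE.eq_or_normalizer_le hP hK with h | h
      · left
        rw [h]
        exact hL
      · rcases hE.eq_or_normalizer_le hP hL with h' | h'
        · right
          rw [h']
          exact hK
        · exact ka K L h h'
    have hB : ∀ K : Subgroup P, E ≤ K → K ≠ ⊤ →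
        K.relIndex (Subgroup.normalizer (K : Set P)) = p := by
      intro K hK hKtop
      rcases hE.eq_or_normalizer_le hP hK with h | h
      · rw [h]
        exact hE.nidx
      · exact kb K h hKtop
    refine ⟨hA, hB, ?_⟩
    intro i K hK hKtop hi
    rcases hE.eq_or_normalizer_le hP hK with h | h
    · rw [h, eq_bot_iff]
      calc E.lowerCentralSeries (i + 1) ≤ E.lowerCentralSeries 1 :=
            Subgroup.lowerCentralSeries_antitone _ (by omega)
        _ ≤ ⊥ := hE.commutator_self_eq_bot.le
    · have hmul := Subgroup.relIndex_mul_relIndex E _ K hEN h
      rw [hE.nidx, hi] at hmul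
      obtain ⟨j, rfl⟩ : ∃ j, i = j + 1 := by
        cases i with
        | zero =>
          exfalso
          rw [pow_zero] at hmul
          have := Nat.eq_one_of_mul_eq_one_right hmul
          exact hp.out.one_lt.ne' this
        | succ j => exact ⟨j, rfl⟩
      have hj : (Subgroup.normalizer (E : Set P)).relIndex K = p ^ j := by
        rw [pow_succ, mul_comm (p ^ j) p] at hmul
        exact Nat.eq_of_mul_eq_mul_left hp.out.pos hmul
      have h1 := kc j K h hKtop hj
      have hKC : K ≤ Subgroup.centralizer (E.normalCore : Set P) := by
        have hEC : E ≤ Subgroup.centralizer (E.normalCore : Set P) := by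
          intro e he
          rw [Subgroup.mem_centralizer_iff]
          intro r hr
          exact hE.comm r (hRE hr) e he
        by_cases hCtop : Subgroup.centralizer (E.normalCore : Set P) = ⊤
        · rw [hCtop]
          exact le_top
        · have h2 := hB _ hEC hCtop
          rw [Subgroup.normalizer_eq_top, Subgroup.relIndex_top_right] at h2
          rcases hA K _ hK hEC with h3 | h3
          · exact h3
          · rcases eq_or_eq_of_relIndex_prime hp.out h3 le_top
              (by rw [Subgroup.relIndex_top_right]; exact h2) with h4 | h4
            · exact h4.le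
            · exact absurd h4 hKtop
      rw [Subgroup.lowerCentralSeries_succ, eq_bot_iff]
      calc ⁅K.lowerCentralSeries (j + 1), K⁆ ≤ ⁅E.normalCore, K⁆ :=
            Subgroup.commutator_mono h1 le_rfl
        _ = ⁅K, E.normalCore⁆ := Subgroup.commutator_comm _ _
        _ ≤ ⊥ := (Subgroup.commutator_eq_bot_iff_le_centralizer.2 hKC).le

theorem Soft.chainProp {P : Type u} [Group P] [Finite P] (hP : IsPGroup p P)
    {E : Subgroup P} (hE : Soft p E) : ChainProp p E :=
  Soft.chainProp_aux (Nat.card P) P hP E hE le_rfl

end

end Cfsg.Agent.Lib.Helper63
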