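import Cfsg.Agent.Lib.Helper63.Soft4

/-!
Soft subgroups (continued): the normalizer tower and lower bounds for the nilpotency classes.
-/

set_option autoImplicit false
set_option linter.unusedSectionVars false

namespace Cfsg.Agent.Lib.Helper63

open scoped Pointwise commutatorElement

universe u

/-- the normalizer tower of a subgroup -/
def tower {P : Type*} [Group P] (E : Subgroup P) : ℕ → Subgroup P
  | 0 => E
  | (j + 1) => Subgroup.normalizer ((tower E j : Subgroup P) : Set P)

theorem tower_zero {P : Type*} [Group P] (E : Subgroup P) : tower E 0 = E := rfl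

theorem tower_succ {P : Type*} [Group P] (E : Subgroup P) (j : ℕ) :
    tower E (j + 1) = Subgroup.normalizer ((tower E j : Subgroup P) : Set P) := rfl

theorem tower_mono {P : Type*} [Group P] (E : Subgroup P) : Monotone (tower E) :=
  monotone_nat_of_le_succ (fun j => by rw [tower_succ]; exact Subgroup.le_normalizer)

theorem le_tower {P : Type*} [Group P] (E : Subgroup P) (j : ℕ) : E ≤ tower E j :=
  tower_mono E (Nat.zero_le j)

section

variable {p : ℕ} [hp : Fact p.Prime] {P : Type u} [Group P] [Finite P]

theorem Soft.relIndex_tower_le (hP : IsPGroup p P) {E : Subgroup P} (hE : Soft p E) (j : ℕ) :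
    E.relIndex (tower E j) ≤ p ^ j := by
  obtain ⟨-, hB, -⟩ := hE.chainProp hP
  induction j with
  | zero =>
    rw [tower_zero, Subgroup.relIndex_self, pow_zero]
  | succ j ih =>
    have hmul := Subgroup.relIndex_mul_relIndex E (tower E j) (tower E (j + 1)) (le_tower E j)
      (tower_mono E (Nat.le_succ j))
    rw [← hmul, pow_succ]
    have h2 : (tower E j).relIndex (tower E (j + 1)) ≤ p := by
      by_cases htop : tower E j = ⊤
      · have h3 : tower E (j + 1) = ⊤ := by
          rw [eq_top_iff, ← htop]
          exact tower_mono E (Nat.le_succ j)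
        rw [h3, htop, Subgroup.relIndex_self]
        exact hp.out.one_lt.le
      · rw [tower_succ]
        exact (hB _ (le_tower E j) htop).le
    exact Nat.mul_le_mul ih h2

theorem Soft.le_tower_of_lcs_eq_bot (hP : IsPGroup p P) {E : Subgroup P} (hE : Soft p E)
    {K : Subgroup P} (hEK : E ≤ K) (m : ℕ) (hK : K.lowerCentralSeries (m + 1) = ⊥) :
    K ≤ tower E m := by
  obtain ⟨hA, -, -⟩ := hE.chainProp hP
  have claim : ∀ j, j ≤ m → K.lowerCentralSeries (m - j) ≤ tower E j ∨ K ≤ tower E m := by
    intro j
    induction j with
    | zero =>
      intro _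
      left
      rw [Nat.sub_zero, tower_zero]
      intro x hx
      apply hE.cent
      rw [Subgroup.mem_centralizer_iff]
      intro e he
      have h1 : ⁅x, e⁆ ∈ K.lowerCentralSeries (m + 1) :=
        Subgroup.commutator_mem_commutator hx (hEK he)
      rw [hK, Subgroup.mem_bot, commutatorElement_eq_one_iff_mul_comm] at h1
      exact h1.symm
    | succ j ih =>
      intro hj
      rcases ih (by omega) with h | h
      · rcases hA K (tower E j) hEK (le_tower E j) with h2 | h2
        · right
          exact h2.trans (tower_mono E (by omega))
        · left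
          intro x hx
          rw [tower_succ]
          apply Subgroup.mem_normalizer_fintype
          intro t ht
          have h3 : ⁅x, t⁆ ∈ K.lowerCentralSeries (m - j) := by
            have h5 : m - j = (m - (j + 1)) + 1 := by omega
            rw [h5]
            exact Subgroup.commutator_mem_commutator hx (h2 ht)
          have h4 : x * t * x⁻¹ = ⁅x, t⁆ * t := by simp [commutatorElement_def]
          rw [h4]
          exact (tower E j).mul_mem (h h3) ht
      · right
        exact h
  rcases claim m le_rfl with h | h
  · rw [Nat.sub_self] at h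
    exact h
  · exact h

theorem Soft.lcs_ne_bot (hP : IsPGroup p P) {E : Subgroup P} (hE : Soft p E)
    {K : Subgroup P} (hEK : E ≤ K) {i : ℕ} (hi : E.relIndex K = p ^ i) :
    K.lowerCentralSeries i ≠ ⊥ := by
  intro h
  cases i with
  | zero =>
    apply hE.core_ne_bot hP
    rw [eq_bot_iff]
    have h0 : K ≤ ⊥ := h.le
    exact (Subgroup.normalCore_le E).trans (hEK.trans h0)
  | succ m =>
    have h1 := hE.le_tower_of_lcs_eq_bot hP hEK m h
    have hne : E.relIndex (tower E m) ≠ 0 := by
      unfold Subgroup.relIndex
      exact Subgroup.index_ne_zero_of_finite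
    have h2 := Subgroup.relIndex_le_of_le_right (H := E) h1 hne
    have h3 := hE.relIndex_tower_le hP m
    rw [hi] at h2
    have h4 : p ^ m < p ^ (m + 1) := Nat.pow_lt_pow_right hp.out.one_lt (by omega)
    omega

end

end Cfsg.Agent.Lib.Helper63
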