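import Mathlib

/-!
Lattice argument for T.I. Sylow subgroups (used for S4750).

* `exists_invariant_ne_zero`: a nonzero translation-stable subspace of `Q → k` (`Q` a finite
  `p`-group, `char k = p`) contains a nonzero translation-invariant function.
* `exists_valSub`: a valuation subring of `ℂ` in which `p` is a nonunit.
* `lattice_core`: if `v + ∑_{x ∈ P} ρ x w = 0` with `w` an integral combination of `G`-translates of
  `v ≠ 0`, `P` a `p`-group, then the `P`-translates of `w` are linearly independent over `ℂ`.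
* `orbit_sum`: sums over a free finite group action.
* `eq_one_of_conj_mem`: T.I. Sylow `P`, `N(P) ≤ H`, `g ∉ H`, `x ∈ P`, `g⁻¹ x g ∈ H` ⟹ `x = 1`.
* `card_le_finrank_of_TI`: an `H`-fixed nonzero vector `v` with `∑_g ρ g v = 0` spans under `G` a
  space of dimension at least `|P|`.
-/

set_option autoImplicit false
set_option linter.style.haveILetI false

open scoped Pointwise

namespace Cfsg.Agent.Lib.Helper63.TILattice

/-- left translation of functions -/
def tr {Q : Type*} [Group Q] {k : Type*} (y : Q) (f : Q → k) : Q → k := fun x => f (y⁻¹ * x)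

theorem tr_one {Q : Type*} [Group Q] {k : Type*} (f : Q → k) : tr (1 : Q) f = f := by
  funext x; simp [tr]

theorem tr_mul {Q : Type*} [Group Q] {k : Type*} (y z : Q) (f : Q → k) :
    tr (y * z) f = tr y (tr z f) := by
  funext x; simp [tr, mul_assoc]

theorem exists_invariant_ne_zero {p : ℕ} [Fact p.Prime] {Q : Type*} [Group Q] [Finite Q]
    (hQ : IsPGroup p Q) {k : Type*} [Field k] [CharP k p]
    (J : Submodule k (Q → k)) (hJ : ∀ (y : Q) (f : Q → k), f ∈ J → tr y f ∈ J) (hne : J ≠ ⊥) :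
    ∃ f ∈ J, f ≠ 0 ∧ ∀ y : Q, tr y f = f := by
  classical
  obtain ⟨f₀, hf₀J, hf₀⟩ := (Submodule.ne_bot_iff J).mp hne
  letI : Algebra (ZMod p) k := ZMod.algebra k p
  let A : Submodule (ZMod p) (Q → k) := Submodule.span (ZMod p) (Set.range fun y : Q => tr y f₀)
  have hAJ : ∀ f, f ∈ A → f ∈ J := by
    intro f hf
    induction hf using Submodule.span_induction with
    | mem x hx => obtain ⟨y, rfl⟩ := hx; exact hJ y f₀ hf₀J
    | zero => exact J.zero_mem
    | add x y _ _ hx hy => exact J.add_mem hx hy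
    | smul a x _ hx =>
      have : a • x = (algebraMap (ZMod p) k a) • x := by
        funext q; simp [Algebra.smul_def]
      rw [this]; exact J.smul_mem _ hx
  -- translation as a linear map
  let τ : Q → ((Q → k) →ₗ[ZMod p] (Q → k)) := fun y => LinearMap.funLeft (ZMod p) k (fun x => y⁻¹ * x)
  have hτ : ∀ y f, τ y f = tr y f := fun y f => rfl
  have hAst : ∀ (y : Q) f, f ∈ A → tr y f ∈ A := by
    intro y f hf
    have : A.map (τ y) ≤ A := by
      rw [Submodule.map_span, Submodule.span_le]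
      rintro _ ⟨_, ⟨z, rfl⟩, rfl⟩
      apply Submodule.subset_span
      exact ⟨y * z, by simp only [hτ]; exact tr_mul y z f₀⟩
    exact this ⟨f, hf, rfl⟩
  have hfinA : Finite A := by
    haveI : Module.Finite (ZMod p) A := Module.Finite.span_of_finite _ (Set.finite_range _)
    exact Module.finite_of_finite (ZMod p)
  letI : MulAction Q A :=
    { smul := fun y f => ⟨tr y f.1, hAst y f.1 f.2⟩
      one_smul := fun f => Subtype.ext (tr_one f.1)
      mul_smul := fun y z f => Subtype.ext (tr_mul y z f.1) }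
  have hsm : ∀ (y : Q) (f : A), ((y • f : A) : Q → k) = tr y f.1 := fun _ _ => rfl
  have hcard := hQ.card_modEq_card_fixedPoints A
  have hf₀A : f₀ ∈ A := Submodule.subset_span ⟨1, tr_one f₀⟩
  have hpA : p ∣ Nat.card A := by
    haveI : Fintype A := Fintype.ofFinite A
    haveI : Nontrivial A := ⟨⟨⟨f₀, hf₀A⟩, 0, fun h => hf₀ (congrArg Subtype.val h)⟩⟩
    rw [Nat.card_eq_fintype_card, Module.card_eq_pow_finrank (K := ZMod p) (V := A), ZMod.card]
    haveI : Module.Finite (ZMod p) A := Module.Finite.span_of_finite _ (Set.finite_range _)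
    exact dvd_pow_self p (Module.finrank_pos (R := ZMod p) (M := A)).ne'
  have hpF : p ∣ Nat.card (MulAction.fixedPoints Q A) :=
    (Nat.modEq_zero_iff_dvd.mp ((hcard.symm).trans (Nat.modEq_zero_iff_dvd.mpr hpA)))
  haveI : Finite (MulAction.fixedPoints Q A) := Subtype.finite
  have h0 : (0 : A) ∈ MulAction.fixedPoints Q A := by
    intro y; apply Subtype.ext; rw [hsm]; funext x; simp [tr]
  have hlt : 1 < Nat.card (MulAction.fixedPoints Q A) := by
    have hpos : 0 < Nat.card (MulAction.fixedPoints Q A) := by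
      haveI : Nonempty (MulAction.fixedPoints Q A) := ⟨⟨0, h0⟩⟩
      exact Nat.card_pos
    have := Nat.le_of_dvd hpos hpF
    exact lt_of_lt_of_le (Fact.out : p.Prime).one_lt this
  obtain ⟨a, b, hab⟩ := Finite.one_lt_card_iff_nontrivial.mp hlt |>.exists_pair_ne
  -- one of a, b is nonzero
  have : ∃ c : MulAction.fixedPoints Q A, (c : A) ≠ 0 := by
    by_cases ha : (a : A) = 0
    · refine ⟨b, fun hb => hab (Subtype.ext (ha.trans hb.symm))⟩
    · exact ⟨a, ha⟩
  obtain ⟨c, hc⟩ := this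
  refine ⟨c.1.1, hAJ _ c.1.2, fun h => hc (Subtype.ext h), fun y => ?_⟩
  have := c.2 y
  have := congrArg Subtype.val this
  rwa [hsm] at this


theorem exists_valSub (p : ℕ) (hp : p.Prime) :
    ∃ V : ValuationSubring ℂ, (p : ℂ) ∈ V.nonunits := by
  let A : Subring ℂ := (Int.castRingHom ℂ).range
  have hpA : (p : ℂ) ∈ A := ⟨(p : ℤ), by simp⟩
  let I : Ideal A := Ideal.span {⟨(p : ℂ), hpA⟩}
  have hI : I ≠ ⊤ := by
    intro h
    rw [Ideal.span_singleton_eq_top] at h
    obtain ⟨⟨u, hu⟩, huv⟩ := h.exists_right_inv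
    obtain ⟨m, rfl⟩ := hu
    have h1 : (p : ℂ) * (m : ℂ) = 1 := by
      have := congrArg Subtype.val huv
      simpa using this
    have h2 : (p : ℤ) * m = 1 := by exact_mod_cast h1
    have h3 : (p : ℤ) ∣ 1 := ⟨m, h2.symm⟩
    have h4 : p ∣ 1 := by exact_mod_cast h3
    exact hp.one_lt.ne' (Nat.dvd_one.mp h4)
  obtain ⟨B, _, hB⟩ := Ideal.image_subset_nonunits_valuationSubring I hI
  refine ⟨B, hB ⟨⟨(p : ℂ), hpA⟩, Ideal.subset_span rfl, rfl⟩⟩


theorem lattice_core {G : Type*} [Group G] [Fintype G] {p : ℕ} [Fact p.Prime]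
    (P : Subgroup G) [Fintype P] (hP : IsPGroup p P)
    {U : Type*} [AddCommGroup U] [Module ℂ U] (ρ : Representation ℂ G U)
    (v : U) (hv : v ≠ 0) (T : Finset G)
    (hrel : v + ∑ x : P, ρ (x : G) (∑ t ∈ T, ρ t v) = 0) :
    LinearIndependent ℂ (fun x : P => ρ (x : G) (∑ t ∈ T, ρ t v)) := by
  classical
  set w : U := ∑ t ∈ T, ρ t v with hw
  rw [Fintype.linearIndependent_iff]
  intro c hc
  by_contra hcon
  push Not at hcon
  obtain ⟨x₁, hx₁⟩ := hcon
  obtain ⟨V, hpV⟩ := exists_valSub p (Fact.out : p.Prime)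
  -- choose x₀ with maximal valuation
  obtain ⟨x₀, -, hx₀⟩ := Finset.exists_max_image (Finset.univ : Finset P)
    (fun x => V.valuation (c x)) ⟨x₁, Finset.mem_univ _⟩
  have hcx₀ : c x₀ ≠ 0 := by
    intro h0
    have h1 := hx₀ x₁ (Finset.mem_univ _)
    rw [h0, map_zero] at h1
    have : V.valuation (c x₁) = 0 := le_antisymm h1 zero_le
    exact hx₁ ((Valuation.zero_iff _).mp this)
  have hmem : ∀ x : P, c x / c x₀ ∈ V := by
    intro x
    rw [← V.valuation_le_one_iff, map_div₀]
    have hpos : 0 < V.valuation (c x₀) := by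
      rw [zero_lt_iff]; exact (Valuation.ne_zero_iff _).mpr hcx₀
    exact (div_le_one₀ hpos).mpr (hx₀ x (Finset.mem_univ _))
  let r₀ : P → V := fun x => ⟨c x / c x₀, hmem x⟩
  -- lattice
  let Λ : Submodule V U := Submodule.span V (Set.range fun g : G => ρ g v)
  let 𝔪 : Ideal V := IsLocalRing.maximalIdeal V
  let ρV : G → (U →ₗ[V] U) := fun g => (ρ g).restrictScalars V
  have hρV : ∀ g u, ρV g u = ρ g u := fun _ _ => rfl
  have hΛst : ∀ g, Λ.map (ρV g) ≤ Λ := by
    intro g
    rw [Submodule.map_span, Submodule.span_le]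
    rintro _ ⟨_, ⟨g', rfl⟩, rfl⟩
    apply Submodule.subset_span
    exact ⟨g * g', by show ρ (g * g') v = ρ g (ρ g' v); rw [map_mul]; rfl⟩
  have hΛmem : ∀ g u, u ∈ Λ → ρ g u ∈ Λ := fun g u hu => hΛst g ⟨u, hu, rfl⟩
  have hmΛst : ∀ g u, u ∈ 𝔪 • Λ → ρ g u ∈ 𝔪 • Λ := by
    intro g u hu
    have h1 : (𝔪 • Λ).map (ρV g) ≤ 𝔪 • Λ := by
      rw [Submodule.map_smul'']
      exact Submodule.smul_mono le_rfl (hΛst g)
    exact h1 ⟨u, hu, rfl⟩
  have hvΛ : ∀ g, ρ g v ∈ Λ := fun g => Submodule.subset_span ⟨g, rfl⟩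
  have hwΛ : w ∈ Λ := Submodule.sum_mem _ (fun t _ => hvΛ t)
  -- Nakayama
  have hvnot : v ∉ 𝔪 • Λ := by
    intro hvm
    have hle : Λ ≤ 𝔪 • Λ := by
      rw [Submodule.span_le]
      rintro _ ⟨g, rfl⟩
      exact hmΛst g v hvm
    have hbot : Λ = ⊥ := by
      apply Submodule.eq_bot_of_le_smul_of_le_jacobson_bot 𝔪 Λ
        (Submodule.fg_span (Set.finite_range _)) hle
      rw [IsLocalRing.jacobson_eq_maximalIdeal ⊥ bot_ne_top]
    have : v ∈ Λ := by simpa using hvΛ 1
    rw [hbot] at this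
    exact hv ((Submodule.mem_bot _).mp this)
  -- the linear combination map
  let Φ : (P → V) →ₗ[V] U := Fintype.linearCombination V (fun x : P => ρ (x : G) w)
  have hΦ : ∀ r, Φ r = ∑ x : P, r x • ρ (x : G) w := fun r => Fintype.linearCombination_apply _ _ _
  let 𝒥 : Submodule V (P → V) := Submodule.comap Φ (𝔪 • Λ)
  have hr₀ : r₀ ∈ 𝒥 := by
    show Φ r₀ ∈ 𝔪 • Λ
    have : Φ r₀ = 0 := by
      rw [hΦ]
      have : ∀ x : P, r₀ x • ρ (x : G) w = (c x₀)⁻¹ • (c x • ρ (x : G) w) := by
        intro x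
        show (c x / c x₀) • ρ (x : G) w = _
        rw [smul_smul, div_eq_inv_mul]
      simp_rw [this]
      rw [← Finset.smul_sum, hc, smul_zero]
    rw [this]; exact Submodule.zero_mem _
  -- translation stability
  have h𝒥tr : ∀ (y : P) r, r ∈ 𝒥 → tr y r ∈ 𝒥 := by
    intro y r hr
    show Φ (tr y r) ∈ 𝔪 • Λ
    have : Φ (tr y r) = ρ (y : G) (Φ r) := by
      rw [hΦ, hΦ, map_sum]
      rw [← Equiv.sum_comp (Equiv.mulLeft y)]
      apply Finset.sum_congr rfl
      intro x _
      simp only [tr, Equiv.coe_mulLeft, inv_mul_cancel_left, Subgroup.coe_mul, map_mul]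
      show _ = ρ (y : G) ((r x : ℂ) • ρ (x : G) w)
      rw [map_smul]; rfl
    rw [this]; exact hmΛst _ _ hr
  -- residue field
  let k := IsLocalRing.ResidueField V
  let π : V →+* k := IsLocalRing.residue V
  have hπsurj : Function.Surjective π := IsLocalRing.residue_surjective
  haveI : CharP k p := by
    rw [CharP.charP_iff_prime_eq_zero (Fact.out : p.Prime)]
    obtain ⟨ha, hmem⟩ := (V.mem_nonunits_iff_exists_mem_maximalIdeal).mp hpV
    have : π ⟨(p : ℂ), ha⟩ = 0 := (IsLocalRing.residue_eq_zero_iff _).mpr hmem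
    have h2 : (⟨(p : ℂ), ha⟩ : V) = (p : V) := by
      apply Subtype.ext; simp
    rw [h2, map_natCast] at this
    exact this
  let Jbar : Submodule k (P → k) :=
    { carrier := {f | ∃ r ∈ 𝒥, ∀ x, π (r x) = f x}
      zero_mem' := ⟨0, 𝒥.zero_mem, fun x => by simp⟩
      add_mem' := by
        rintro f g ⟨r, hr, hrf⟩ ⟨s, hs, hsg⟩
        exact ⟨r + s, 𝒥.add_mem hr hs, fun x => by simp [hrf x, hsg x]⟩
      smul_mem' := by
        rintro l f ⟨r, hr, hrf⟩
        obtain ⟨a, rfl⟩ := hπsurj l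
        exact ⟨a • r, 𝒥.smul_mem a hr, fun x => by simp [hrf x]⟩ }
  have hJtr : ∀ (y : P) (f : P → k), f ∈ Jbar → tr y f ∈ Jbar := by
    rintro y f ⟨r, hr, hrf⟩
    exact ⟨tr y r, h𝒥tr y r hr, fun x => hrf _⟩
  have hJne : Jbar ≠ ⊥ := by
    intro hbot
    have hmem : (fun x => π (r₀ x)) ∈ Jbar := ⟨r₀, hr₀, fun _ => rfl⟩
    rw [hbot, Submodule.mem_bot] at hmem
    have h1 := congrFun hmem x₀
    have h2 : r₀ x₀ = 1 := by
      apply Subtype.ext
      show c x₀ / c x₀ = 1
      exact div_self hcx₀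
    simp only [h2, map_one, Pi.zero_apply] at h1
    exact one_ne_zero h1
  obtain ⟨f, ⟨r, hr, hrf⟩, hfne, hfinv⟩ := exists_invariant_ne_zero hP Jbar hJtr hJne
  -- f is constant
  have hconst : ∀ x : P, f x = f 1 := by
    intro x
    have := congrFun (hfinv x) x
    simp only [tr, inv_mul_cancel] at this
    exact this.symm
  have hf1 : f 1 ≠ 0 := by
    intro h0
    apply hfne
    funext x; rw [hconst x, h0]; rfl
  set a : V := r 1 with ha
  have hπa : π a = f 1 := hrf 1
  have haunit : IsUnit a := by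
    rw [← IsLocalRing.notMem_maximalIdeal, ← IsLocalRing.residue_eq_zero_iff]
    rw [show (IsLocalRing.residue V) a = f 1 from hπa]
    exact hf1
  have hdiff : ∀ x : P, r x - a ∈ 𝔪 := by
    intro x
    rw [← IsLocalRing.residue_eq_zero_iff, map_sub]
    rw [show (IsLocalRing.residue V) (r x) = f x from hrf x,
      show (IsLocalRing.residue V) a = f 1 from hπa, hconst x, sub_self]
  have hσ : a • (∑ x : P, ρ (x : G) w) ∈ 𝔪 • Λ := by
    have h1 : Φ r ∈ 𝔪 • Λ := hr
    have h2 : Φ r = (∑ x : P, (r x - a) • ρ (x : G) w) + a • (∑ x : P, ρ (x : G) w) := by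
      rw [hΦ, Finset.smul_sum, ← Finset.sum_add_distrib]
      apply Finset.sum_congr rfl
      intro x _
      rw [sub_smul, sub_add_cancel]
    have h3 : (∑ x : P, (r x - a) • ρ (x : G) w) ∈ 𝔪 • Λ :=
      Submodule.sum_mem _ (fun x _ => Submodule.smul_mem_smul (hdiff x) (hΛmem _ _ hwΛ))
    have := (𝔪 • Λ).sub_mem h1 h3
    rwa [h2, add_sub_cancel_left] at this
  obtain ⟨b, hb⟩ := haunit.exists_left_inv
  have hσ' : (∑ x : P, ρ (x : G) w) ∈ 𝔪 • Λ := by
    have := (𝔪 • Λ).smul_mem b hσ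
    rwa [smul_smul, hb, one_smul] at this
  apply hvnot
  have : v = - ∑ x : P, ρ (x : G) w := eq_neg_of_add_eq_zero_left hrel
  rw [this]
  exact (𝔪 • Λ).neg_mem hσ'


theorem orbit_sum {Γ X U : Type*} [Group Γ] [Fintype Γ] [DecidableEq X] [AddCommMonoid U]
    (act : Γ → X → X) (h1 : ∀ c, act 1 c = c) (hmul : ∀ a b c, act (a * b) c = act a (act b c))
    (L : Γ → U →+ U) (F : X → U) (hF : ∀ a c, F (act a c) = L a (F c))
    (S : Finset X) (hS : ∀ a c, c ∈ S → act a c ∈ S)
    (hfree : ∀ a c, c ∈ S → act a c = c → a = 1) :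
    ∃ T : Finset X, T ⊆ S ∧ ∑ c ∈ S, F c = ∑ a : Γ, L a (∑ c ∈ T, F c) := by
  classical
  induction hn : S.card using Nat.strong_induction_on generalizing S with
  | _ n ih =>
    rcases S.eq_empty_or_nonempty with hemp | ⟨c₀, hc₀⟩
    · subst hemp
      exact ⟨∅, le_rfl, by simp⟩
    · let O : Finset X := Finset.univ.image (fun a : Γ => act a c₀)
      have hOS : O ⊆ S := by
        intro c hc
        obtain ⟨a, -, rfl⟩ := Finset.mem_image.mp hc
        exact hS a c₀ hc₀
      have hinj : Function.Injective (fun a : Γ => act a c₀) := by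
        intro a b hab
        have h2 : act (b⁻¹ * a) c₀ = c₀ := by
          rw [hmul]
          show act b⁻¹ (act a c₀) = c₀
          have : act a c₀ = act b c₀ := hab
          rw [this, ← hmul, inv_mul_cancel, h1]
        have := hfree _ _ hc₀ h2
        exact (inv_mul_eq_one.mp this).symm
      have hc₀O : c₀ ∈ O := Finset.mem_image.mpr ⟨1, Finset.mem_univ _, h1 c₀⟩
      have hsumO : ∑ c ∈ O, F c = ∑ a : Γ, L a (F c₀) := by
        rw [Finset.sum_image (fun a _ b _ hab => hinj hab)]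
        exact Finset.sum_congr rfl (fun a _ => hF a c₀)
      let S' : Finset X := S \ O
      have hS'st : ∀ a c, c ∈ S' → act a c ∈ S' := by
        intro a c hc
        rw [Finset.mem_sdiff] at hc ⊢
        refine ⟨hS a c hc.1, fun hO => hc.2 ?_⟩
        obtain ⟨b, -, hb⟩ := Finset.mem_image.mp hO
        have : c = act (a⁻¹ * b) c₀ := by
          rw [hmul, hb, ← hmul, inv_mul_cancel, h1]
        rw [this]
        exact Finset.mem_image.mpr ⟨_, Finset.mem_univ _, rfl⟩
      have hS'free : ∀ a c, c ∈ S' → act a c = c → a = 1 :=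
        fun a c hc => hfree a c (Finset.mem_sdiff.mp hc).1
      have hcard : S'.card < n := by
        rw [← hn]
        apply Finset.card_lt_card
        refine ⟨Finset.sdiff_subset, fun hsub => ?_⟩
        have := hsub hc₀
        exact (Finset.mem_sdiff.mp this).2 hc₀O
      obtain ⟨T', hT'S, hT'⟩ := ih S'.card hcard S' hS'st hS'free rfl
      have hc₀T' : c₀ ∉ T' := fun h => (Finset.mem_sdiff.mp (hT'S h)).2 hc₀O
      refine ⟨insert c₀ T', ?_, ?_⟩
      · intro c hc
        rcases Finset.mem_insert.mp hc with rfl | hc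
        · exact hc₀
        · exact (Finset.mem_sdiff.mp (hT'S hc)).1
      · rw [← Finset.sum_sdiff hOS, hsumO, hT', ← Finset.sum_add_distrib]
        apply Finset.sum_congr rfl
        intro a _
        rw [Finset.sum_insert hc₀T', map_add, add_comm]

/-- TI: a nontrivial element of `P` is not conjugate into `H` by an element outside `H`. -/
theorem eq_one_of_conj_mem {G : Type*} [Group G] [Finite G] (p : ℕ) [Fact p.Prime] (P : Sylow p G)
    (hTI : ∀ g : G, g ∉ Subgroup.normalizer ((P : Subgroup G) : Set G) →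
      (P : Subgroup G) ⊓ (MulAut.conj g • (P : Subgroup G)) = ⊥)
    (H : Subgroup G) (hH : Subgroup.normalizer ((P : Subgroup G) : Set G) ≤ H)
    (g x : G) (hg : g ∉ H) (hx : x ∈ (P : Subgroup G)) (hy : g⁻¹ * x * g ∈ H) : x = 1 := by
  have hPH : (P : Subgroup G) ≤ H := le_trans Subgroup.le_normalizer hH
  set y : G := g⁻¹ * x * g with hydef
  let y' : H := ⟨y, hy⟩
  -- y' is a p-element
  have hpy : IsPGroup p (Subgroup.zpowers y') := by
    obtain ⟨k, hk⟩ := (IsPGroup.iff_orderOf.mp P.2) ⟨x, hx⟩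
    apply IsPGroup.of_card (n := k)
    rw [Nat.card_zpowers, ← hk, Subgroup.orderOf_mk, Subgroup.orderOf_mk]
    have : y = (MulAut.conj g⁻¹) x := by simp [hydef]
    rw [this, MulEquiv.orderOf_eq]
  let S₁ : Sylow p H := P.subtype hPH
  obtain ⟨Q, hQ⟩ := hpy.exists_le_sylow
  obtain ⟨k, hk⟩ := MulAction.exists_smul_eq H S₁ Q
  have hyQ : y' ∈ (Q : Subgroup H) := hQ (Subgroup.mem_zpowers y')
  have hk' : (MulAut.conj k • (S₁ : Subgroup H)) = (Q : Subgroup H) := by
    rw [← Sylow.coe_subgroup_smul, hk]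
  have h3 : k⁻¹ * y' * k ∈ (S₁ : Subgroup H) := by
    rw [← hk', Subgroup.mem_pointwise_smul_iff_inv_smul_mem] at hyQ
    simpa [MulAut.smul_def] using hyQ
  have h4 : (k : G)⁻¹ * y * (k : G) ∈ (P : Subgroup G) := by
    have : ((k⁻¹ * y' * k : H) : G) ∈ (P : Subgroup G) := by
      simpa [S₁, Subgroup.mem_subgroupOf] using h3
    simpa using this
  -- so x ∈ P ⊓ conj (g k) • P
  by_contra hx1
  have hgk : g * (k : G) ∈ Subgroup.normalizer ((P : Subgroup G) : Set G) := by
    by_contra hn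
    have hbot := hTI _ hn
    have hxmem : x ∈ (P : Subgroup G) ⊓ (MulAut.conj (g * (k : G)) • (P : Subgroup G)) := by
      refine ⟨hx, ?_⟩
      show x ∈ MulAut.conj (g * (k : G)) • (P : Subgroup G)
      rw [Subgroup.mem_pointwise_smul_iff_inv_smul_mem]
      have : (MulAut.conj (g * (k : G)))⁻¹ • x = (k : G)⁻¹ * y * (k : G) := by
        simp [MulAut.smul_def, hydef, mul_assoc]
      rw [this]; exact h4
    rw [hbot, Subgroup.mem_bot] at hxmem
    exact hx1 hxmem
  apply hg
  have := H.mul_mem (hH hgk) (H.inv_mem k.2)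
  simpa using this


/-- Core estimate: `P` a T.I. Sylow `p`-subgroup, `N_G(P) ≤ H`, `v ≠ 0` fixed by `H` with
`∑_g ρ g v = 0`.  Then any finite-dimensional subspace containing the orbit of `v` has dimension at
least `|P|`. -/
theorem card_le_finrank_of_TI {G : Type*} [Group G] [Fintype G] (p : ℕ) [Fact p.Prime]
    (P : Sylow p G)
    (hTI : ∀ g : G, g ∉ Subgroup.normalizer ((P : Subgroup G) : Set G) →
      (P : Subgroup G) ⊓ (MulAut.conj g • (P : Subgroup G)) = ⊥)
    (H : Subgroup G) (hH : Subgroup.normalizer ((P : Subgroup G) : Set G) ≤ H)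
    {U : Type*} [AddCommGroup U] [Module ℂ U] (ρ : Representation ℂ G U)
    (v : U) (hv : v ≠ 0) (hfix : ∀ h ∈ H, ρ h v = v) (hsum : ∑ g : G, ρ g v = 0)
    (S : Submodule ℂ U) [FiniteDimensional ℂ S] (hS : ∀ g, ρ g v ∈ S) :
    Nat.card (P : Subgroup G) ≤ Module.finrank ℂ S := by
  classical
  have hPH : (P : Subgroup G) ≤ H := le_trans Subgroup.le_normalizer hH
  letI : Fintype (P : Subgroup G) := Fintype.ofFinite _
  letI : Fintype H := Fintype.ofFinite _
  let act : (↥(P : Subgroup G) × ↥H) → G → G := fun a g => (a.1 : G) * g * ((a.2 : G))⁻¹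
  let L : (↥(P : Subgroup G) × ↥H) → U →+ U := fun a => (ρ (a.1 : G)).toAddMonoidHom
  let F : G → U := fun g => ρ g v
  let SG : Finset G := Finset.univ.filter (fun g => g ∉ H)
  have hact1 : ∀ c, act 1 c = c := by intro c; simp [act]
  have hactmul : ∀ a b c, act (a * b) c = act a (act b c) := by
    intro a b c; simp [act, mul_assoc]
  have hF : ∀ a c, F (act a c) = L a (F c) := by
    intro a c
    show ρ ((a.1 : G) * c * ((a.2 : G))⁻¹) v = ρ (a.1 : G) (ρ c v)
    rw [map_mul, map_mul]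
    show ρ (a.1 : G) (ρ c (ρ ((a.2 : G))⁻¹ v)) = _
    rw [hfix _ (H.inv_mem a.2.2)]
  have hSGst : ∀ a c, c ∈ SG → act a c ∈ SG := by
    intro a c hc
    simp only [SG, Finset.mem_filter, Finset.mem_univ, true_and] at hc ⊢
    intro hmem
    apply hc
    have h1 : (a.1 : G)⁻¹ * ((a.1 : G) * c * ((a.2 : G))⁻¹) * (a.2 : G) ∈ H :=
      H.mul_mem (H.mul_mem (H.inv_mem (hPH a.1.2)) hmem) a.2.2
    have h2 : (a.1 : G)⁻¹ * ((a.1 : G) * c * ((a.2 : G))⁻¹) * (a.2 : G) = c := by group
    rwa [h2] at h1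
  have hSGfree : ∀ a c, c ∈ SG → act a c = c → a = 1 := by
    intro a c hc hac
    simp only [SG, Finset.mem_filter, Finset.mem_univ, true_and] at hc
    have h1 : c⁻¹ * (a.1 : G) * c = (a.2 : G) := by
      have : (a.1 : G) * c * ((a.2 : G))⁻¹ = c := hac
      calc c⁻¹ * (a.1 : G) * c = c⁻¹ * ((a.1 : G) * c * ((a.2 : G))⁻¹) * (a.2 : G) := by group
        _ = c⁻¹ * c * (a.2 : G) := by rw [this]
        _ = (a.2 : G) := by group
    have hx1 : (a.1 : G) = 1 :=
      eq_one_of_conj_mem p P hTI H hH c (a.1 : G) hc a.1.2 (by rw [h1]; exact a.2.2)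
    have hh1 : (a.2 : G) = 1 := by rw [← h1, hx1]; group
    exact Prod.ext (Subtype.ext hx1) (Subtype.ext hh1)
  obtain ⟨T, -, hT⟩ := orbit_sum act hact1 hactmul L F hF SG hSGst hSGfree
  set w : U := ∑ t ∈ T, ρ t v with hw
  -- the sum over H
  have hsumH : ∑ g ∈ Finset.univ.filter (fun g => g ∈ H), ρ g v = (Fintype.card H) • v := by
    rw [Finset.sum_congr rfl (fun g hg => hfix g (Finset.mem_filter.mp hg).2), Finset.sum_const]
    congr 1
    rw [← Fintype.card_subtype]
  have hsumSG : ∑ g ∈ SG, ρ g v = (Fintype.card H) • ∑ x : (P : Subgroup G), ρ (x : G) w := by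
    have : ∑ g ∈ SG, ρ g v = ∑ c ∈ SG, F c := rfl
    rw [this, hT, Fintype.sum_prod_type]
    simp only [L, Finset.sum_const, Finset.card_univ, Finset.smul_sum]
    rfl
  have hrel : v + ∑ x : (P : Subgroup G), ρ (x : G) w = 0 := by
    have h1 : (Fintype.card H) • (v + ∑ x : (P : Subgroup G), ρ (x : G) w) = 0 := by
      rw [smul_add, ← hsumH, ← hsumSG]
      rw [← hsum]
      exact Finset.sum_filter_add_sum_filter_not Finset.univ (fun g => g ∈ H) (fun g => ρ g v)
    have h2 : ((Fintype.card H : ℕ) : ℂ) • (v + ∑ x : (P : Subgroup G), ρ (x : G) w) = 0 := by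
      rw [Nat.cast_smul_eq_nsmul]; exact h1
    rcases smul_eq_zero.mp h2 with h3 | h3
    · exfalso
      have : (Fintype.card H : ℂ) ≠ 0 := Nat.cast_ne_zero.mpr Fintype.card_ne_zero
      exact this h3
    · exact h3
  have hli := lattice_core (P : Subgroup G) P.2 ρ v hv T hrel
  -- the family lies in S
  have hwS : ∀ x : (P : Subgroup G), ρ (x : G) w ∈ S := by
    intro x
    rw [hw, map_sum]
    refine S.sum_mem (fun t _ => ?_)
    have : ρ (x : G) (ρ t v) = ρ ((x : G) * t) v := by rw [map_mul]; rfl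
    rw [this]; exact hS _
  have hli' : LinearIndependent ℂ (fun x : (P : Subgroup G) => (⟨ρ (x : G) w, hwS x⟩ : S)) := by
    apply LinearIndependent.of_comp S.subtype
    exact hli
  have := hli'.fintype_card_le_finrank
  rwa [← Nat.card_eq_fintype_card] at this

end Cfsg.Agent.Lib.Helper63.TILattice
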